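import Mathlib.GroupTheory.Sylow
import Cfsg.Prelude.Def_Solvable
import Cfsg.Prelude.Def_CaseTheorems

set_option autoImplicit false

namespace Cfsg.Agent.Helper48

open Subgroup

variable {G : Type*} [Group G]

theorem isPGroup_pCore (p : ℕ) (G : Type*) [Group G] : IsPGroup p (pCore p G) := by
  unfold pCore
  exact Sylow.sSup_of_normal _ (fun H hH => hH.2) (fun H hH => hH.1)

theorem le_pCore {p : ℕ} {N : Subgroup G} (hN : N.Normal) (hp : IsPGroup p N) : N ≤ pCore p G :=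
  le_sSup ⟨hN, hp⟩

theorem le_pPrimeCore {p : ℕ} {N : Subgroup G} (hN : N.Normal) (hp : (Nat.card N).Coprime p) :
    N ≤ pPrimeCore p G :=
  le_sSup ⟨hN, hp⟩

theorem card_sup_dvd_of_normal [Finite G] (H K : Subgroup G) [K.Normal] :
    Nat.card (H ⊔ K : Subgroup G) ∣ Nat.card H * Nat.card K := by
  have h1 : Nat.card K * K.relIndex (H ⊔ K) = Nat.card (H ⊔ K : Subgroup G) := by
    have := Subgroup.relIndex_mul_relIndex (H := (⊥ : Subgroup G)) (K := K) (L := H ⊔ K) bot_le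
      le_sup_right
    rwa [Subgroup.relIndex_bot_left, Subgroup.relIndex_bot_left] at this
  rw [← h1, Subgroup.relIndex_sup_right, mul_comm]
  exact mul_dvd_mul_right (Subgroup.relIndex_dvd_card K H) _

/-- Every element of `O_{p'}(G)` lies in a normal subgroup of order prime to `p`. -/
theorem exists_normal_coprime_of_mem_pPrimeCore [Finite G] {p : ℕ} {x : G}
    (hx : x ∈ pPrimeCore p G) :
    ∃ M : Subgroup G, M.Normal ∧ (Nat.card M).Coprime p ∧ x ∈ M := by
  unfold pPrimeCore at hx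
  rw [sSup_eq_iSup'] at hx
  refine Subgroup.iSup_induction _ (C := fun x => ∃ M : Subgroup G, M.Normal ∧
    (Nat.card M).Coprime p ∧ x ∈ M) hx ?_ ?_ ?_
  · intro i x hx
    exact ⟨i.1, i.2.1, i.2.2, hx⟩
  · exact ⟨⊥, inferInstance, by simp, Subgroup.one_mem _⟩
  · rintro x y ⟨M₁, hM₁n, hM₁c, hxM⟩ ⟨M₂, hM₂n, hM₂c, hyM⟩
    refine ⟨M₁ ⊔ M₂, inferInstance, ?_, Subgroup.mul_mem_sup hxM hyM⟩
    exact Nat.Coprime.coprime_dvd_left (card_sup_dvd_of_normal M₁ M₂) (Nat.Coprime.mul_left hM₁c hM₂c)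

theorem coprime_card_pPrimeCore [Finite G] (p : ℕ) [Fact p.Prime] :
    (Nat.card (pPrimeCore p G)).Coprime p := by
  have hp : p.Prime := Fact.out
  rw [Nat.coprime_comm, Nat.Prime.coprime_iff_not_dvd hp]
  intro hdvd
  obtain ⟨x, hxc, hx⟩ : ∃ x : G, x ∈ pPrimeCore p G ∧ orderOf x = p := by
    obtain ⟨x, hx⟩ := exists_prime_orderOf_dvd_card' p hdvd
    exact ⟨x, x.2, (Subgroup.orderOf_coe x).trans hx⟩
  obtain ⟨M, -, hMc, hxM⟩ := exists_normal_coprime_of_mem_pPrimeCore hxc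
  have h2 : orderOf (⟨x, hxM⟩ : M) = orderOf x := Subgroup.orderOf_mk _ hxM
  have h3 : p ∣ Nat.card M := by
    have := orderOf_dvd_natCard (⟨x, hxM⟩ : M)
    rwa [h2, hx] at this
  rw [Nat.coprime_comm, Nat.Prime.coprime_iff_not_dvd hp] at hMc
  exact hMc h3

end Cfsg.Agent.Helper48
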