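import Mathlib

/-!
# Definitions for PART I of row S0420 (a simple group of order 7920 acts sharply
4-transitively on 11 points)

`X = Sylow 3 G` (55 subgroups of order 9).  `Inv z R`: `z` inverts `R` elementwise.
`Adj R S`: distinct, with a common inverting involution.  In M11 the Sylow 3-subgroups are the
2-subsets of the 11 points, the involutions are the 3-subsets, `Inv z R` is inclusion, and `Adj` is
"meet in one point"; `star R S` is the set of the ten 2-subsets through the common point.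

The structures `M11Raw`, `M11L1`, `M11Geo`, `M11Gr` collect the facts proved level by level.
-/

set_option autoImplicit false
open scoped Pointwise

namespace Cfsg.Agent.Helper48.M11U

variable {G : Type*} [Group G]

/-- `z` inverts every element of the Sylow 3-subgroup `R` -/
def Inv (z : G) (R : Sylow 3 G) : Prop := ∀ r ∈ (R : Subgroup G), z * r * z⁻¹ = r⁻¹

/-- adjacency of Sylow 3-subgroups: distinct, with a common inverting involution -/
def Adj (R S : Sylow 3 G) : Prop := R ≠ S ∧ ∃ z : G, orderOf z = 2 ∧ Inv z R ∧ Inv z S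

/-- the star of an adjacent pair: `R` together with the `R`-conjugates of `S` -/
def star (R S : Sylow 3 G) : Set (Sylow 3 G) := {P | P = R ∨ ∃ r ∈ (R : Subgroup G), P = r • S}

/-- kernel of the action of `C(z)` on the Sylow 3-subgroups inverted by `z` -/
def n0 (z : G) : Subgroup G where
  carrier := {g | g * z = z * g ∧ ∀ P : Sylow 3 G, Inv z P → g • P = P}
  one_mem' := ⟨by simp, fun P _ => one_smul _ P⟩
  mul_mem' := by
    rintro a b ⟨ha, ha'⟩ ⟨hb, hb'⟩
    refine ⟨by rw [mul_assoc, hb, ← mul_assoc, ha, mul_assoc], fun P hP => ?_⟩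
    rw [mul_smul, hb' P hP, ha' P hP]
  inv_mem' := by
    rintro a ⟨ha, ha'⟩
    refine ⟨?_, fun P hP => ?_⟩
    · calc a⁻¹ * z = a⁻¹ * (z * a) * a⁻¹ := by group
        _ = a⁻¹ * (a * z) * a⁻¹ := by rw [ha]
        _ = z * a⁻¹ := by group
    · conv_lhs => rw [← ha' P hP]
      rw [inv_smul_smul]

theorem mem_n0 {z g : G} : g ∈ n0 z ↔ g * z = z * g ∧ ∀ P : Sylow 3 G, Inv z P → g • P = P :=
  Iff.rfl

/-- membership in a conjugate Sylow subgroup -/
theorem mem_smul_iff (g : G) (P : Sylow 3 G) (q : G) :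
    q ∈ ((g • P : Sylow 3 G) : Subgroup G) ↔ g⁻¹ * q * g ∈ (P : Subgroup G) := by
  rw [Sylow.coe_subgroup_smul, Subgroup.mem_pointwise_smul_iff_inv_smul_mem]
  simp [MulAut.smul_def]

theorem smul_eq_iff (g : G) (P : Sylow 3 G) :
    g • P = P ↔ g ∈ Subgroup.normalizer ((P : Subgroup G) : Set G) :=
  Sylow.smul_eq_iff_mem_normalizer

/-- an inverting element normalises -/
theorem inv_smul {z : G} {R : Sylow 3 G} (h : Inv z R) : z • R = R := by
  rw [smul_eq_iff, Subgroup.mem_normalizer_iff]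
  intro r
  constructor
  · intro hr
    rw [h r hr]
    exact inv_mem hr
  · intro hr
    have h1 := h _ (inv_mem hr)
    rw [inv_inv] at h1
    have h2 : (z * r * z⁻¹)⁻¹ = r := by
      have h3 : z * (z * r * z⁻¹)⁻¹ * z⁻¹ = z * r * z⁻¹ := h1
      have h4 := mul_right_cancel h3
      exact mul_left_cancel h4
    rw [← h2]
    exact inv_mem hr

/-- conjugating an inverting element -/
theorem inv_conj {z : G} {R : Sylow 3 G} (h : Inv z R) (g : G) :
    Inv (g * z * g⁻¹) (g • R) := by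
  intro r hr
  rw [mem_smul_iff] at hr
  have h1 := h _ hr
  calc g * z * g⁻¹ * r * (g * z * g⁻¹)⁻¹ = g * (z * (g⁻¹ * r * g) * z⁻¹) * g⁻¹ := by group
    _ = g * (g⁻¹ * r * g)⁻¹ * g⁻¹ := by rw [h1]
    _ = r⁻¹ := by group

theorem adj_symm {R S : Sylow 3 G} (h : Adj R S) : Adj S R := by
  obtain ⟨hne, z, hz, h1, h2⟩ := h
  exact ⟨fun e => hne e.symm, z, hz, h2, h1⟩

theorem adj_ne {R S : Sylow 3 G} (h : Adj R S) : R ≠ S := h.1

theorem adj_smul {R S : Sylow 3 G} (h : Adj R S) (g : G) : Adj (g • R) (g • S) := by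
  obtain ⟨hne, z, hz, h1, h2⟩ := h
  refine ⟨fun e => hne (smul_left_cancel g e), g * z * g⁻¹, ?_, inv_conj h1 g, inv_conj h2 g⟩
  have h3 := MulEquiv.orderOf_eq (MulAut.conj g) z
  rw [MulAut.conj_apply] at h3
  rw [h3, hz]

theorem adj_smul_iff {R S : Sylow 3 G} (g : G) : Adj (g • R) (g • S) ↔ Adj R S := by
  constructor
  · intro h
    have := adj_smul h g⁻¹
    rwa [inv_smul_smul, inv_smul_smul] at this
  · intro h
    exact adj_smul h g

theorem mem_star {R S P : Sylow 3 G} :
    P ∈ star R S ↔ P = R ∨ ∃ r ∈ (R : Subgroup G), P = r • S := Iff.rfl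

/-- the star of a conjugate pair is the image of the star -/
theorem star_smul (g : G) (R S P : Sylow 3 G) : g • P ∈ star (g • R) (g • S) ↔ P ∈ star R S := by
  rw [mem_star, mem_star]
  constructor
  · rintro (h | ⟨r, hr, h⟩)
    · exact Or.inl (smul_left_cancel g h)
    · refine Or.inr ⟨g⁻¹ * r * g, (mem_smul_iff g R r).mp hr, ?_⟩
      apply smul_left_cancel g
      rw [h, ← mul_smul, ← mul_smul]
      congr 1
      group
  · rintro (h | ⟨r, hr, h⟩)
    · exact Or.inl (by rw [h])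
    · refine Or.inr ⟨g * r * g⁻¹, ?_, ?_⟩
      · rw [mem_smul_iff]
        have : g⁻¹ * (g * r * g⁻¹) * g = r := by group
        rw [this]
        exact hr
      · rw [h, ← mul_smul, ← mul_smul]
        congr 1
        group

/-! ### The facts, level by level -/

/-- level 0: what the earlier rows (S0434, S0435 and their libraries) give -/
structure M11Raw (G : Type*) [Group G] : Prop where
  card : Nat.card G = 7920
  num3 : Nat.card (Sylow 3 G) = 55
  n3 : ∀ R : Sylow 3 G, Nat.card ↥(Subgroup.normalizer ((R : Subgroup G) : Set G)) = 144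
  card3 : ∀ R : Sylow 3 G, Nat.card ↥(R : Subgroup G) = 9
  comm3 : ∀ R : Sylow 3 G, ∀ a ∈ (R : Subgroup G), ∀ b ∈ (R : Subgroup G), a * b = b * a
  /-- Sylow 3-subgroups intersect trivially -/
  ti : ∀ R S : Sylow 3 G, ∀ x : G, x ∈ (R : Subgroup G) → x ∈ (S : Subgroup G) → x ≠ 1 → R = S
  /-- Sylow 3-subgroups are self-centralising -/
  cent : ∀ R : Sylow 3 G, ∀ g : G, (∀ r ∈ (R : Subgroup G), g * r = r * g) → g ∈ (R : Subgroup G)
  invc : ∀ z : G, orderOf z = 2 → Nat.card ↥(Subgroup.centralizer ({z} : Set G)) = 48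
  /-- all involutions are conjugate -/
  conj2 : ∀ z w : G, orderOf z = 2 → orderOf w = 2 → ∃ g : G, g * z * g⁻¹ = w

/-- level 1 -/
structure M11L1 (G : Type*) [Group G] : Prop where
  raw : M11Raw G
  /-- every Sylow 3-subgroup is inverted by an involution -/
  exinv : ∀ R : Sylow 3 G, ∃ z : G, orderOf z = 2 ∧ Inv z R
  /-- an element of `R` normalising another Sylow 3-subgroup is trivial -/
  semireg : ∀ R S : Sylow 3 G, ∀ r : G, r ∈ (R : Subgroup G) → r • S = S → S ≠ R → r = 1
  /-- two Sylow 3-subgroups have at most one common inverting involution -/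
  uniq : ∀ (z w : G) (R S : Sylow 3 G), orderOf z = 2 → orderOf w = 2 → R ≠ S →
    Inv z R → Inv z S → Inv w R → Inv w S → z = w
  /-- the inverting involutions of `R` form one `R`-orbit -/
  orbI : ∀ (R : Sylow 3 G) (z w : G), orderOf z = 2 → orderOf w = 2 → Inv z R → Inv w R →
    ∃ r ∈ (R : Subgroup G), w = r * z * r⁻¹
  invcount : ∀ R : Sylow 3 G, Nat.card {z : G // orderOf z = 2 ∧ Inv z R} = 9
  /-- every involution inverts exactly three Sylow 3-subgroups -/
  tri : ∀ z : G, orderOf z = 2 → Nat.card {P : Sylow 3 G // Inv z P} = 3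
  /-- an element of order 3 centralising `z` moves every Sylow 3-subgroup inverted by `z` -/
  c3cyc : ∀ (z ρ : G) (R : Sylow 3 G), Inv z R → ρ * z = z * ρ → orderOf ρ = 3 → ρ • R ≠ R
  /-- a 2-group centralising an element of order 3 has order at most 2 -/
  coprime : ∀ (R : Sylow 3 G) (σ : G), σ ∈ (R : Subgroup G) → σ ≠ 1 → ∀ A : Subgroup G,
    IsPGroup 2 A → (∀ a ∈ A, a * σ = σ * a) → Nat.card A ≤ 2
  /-- a non-inverting involution normalising `R` centralises a nontrivial element of `R` -/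
  reflaxis : ∀ (R : Sylow 3 G) (t : G), orderOf t = 2 → t • R = R → ¬ Inv t R →
    ∃ σ ∈ (R : Subgroup G), σ ≠ 1 ∧ t * σ = σ * t

/-- level 2: the geometry of an adjacent pair -/
structure M11Geo (G : Type*) [Group G] : Prop where
  l1 : M11L1 G
  /-- the only involution normalising two Sylow 3-subgroups inverted by `z` is `z` -/
  n0inv : ∀ (z t : G) (R S : Sylow 3 G), orderOf z = 2 → orderOf t = 2 → R ≠ S → Inv z R →
    Inv z S → t • R = R → t • S = S → t = z
  czstab : ∀ (z : G) (R : Sylow 3 G), orderOf z = 2 → Inv z R →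
    Nat.card ↥(Subgroup.centralizer ({z} : Set G) ⊓ MulAction.stabilizer G R) = 16
  free : ∀ R S : Sylow 3 G, Adj R S → ∀ g : G, g • R = R → g • S = S →
    ∀ r ∈ (R : Subgroup G), r ≠ 1 → g * r = r * g → g = 1
  dcard : ∀ R S : Sylow 3 G, Adj R S →
    Nat.card ↥(MulAction.stabilizer G R ⊓ MulAction.stabilizer G S) = 8
  trans1 : ∀ R S : Sylow 3 G, Adj R S → ∀ r ∈ (R : Subgroup G), ∀ r' ∈ (R : Subgroup G),
    r ≠ 1 → r' ≠ 1 → ∃ g : G, g • R = R ∧ g • S = S ∧ g * r * g⁻¹ = r'
  swap : ∀ (z : G) (R S : Sylow 3 G), orderOf z = 2 → Inv z R → Inv z S → R ≠ S →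
    ∃ g : G, g * z = z * g ∧ g • R = R ∧ g • S ≠ S

/-- level 3: the graph -/
structure M11Gr (G : Type*) [Group G] : Prop where
  geo : M11Geo G
  /-- the neighbours of `R`, given one triangle `R, S, T` -/
  nbr : ∀ (z : G) (R S T U : Sylow 3 G), orderOf z = 2 → Inv z R → Inv z S → Inv z T →
    R ≠ S → R ≠ T → S ≠ T → Adj R U → ∃ r ∈ (R : Subgroup G), U = r • S ∨ U = r • T
  /-- the two `R`-orbits of neighbours are disjoint -/
  orbdisj : ∀ (z : G) (R S T : Sylow 3 G), orderOf z = 2 → Inv z R → Inv z S → Inv z T →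
    R ≠ S → R ≠ T → S ≠ T → ∀ r ∈ (R : Subgroup G), ∀ r' ∈ (R : Subgroup G), r • S ≠ r' • T
  valency : ∀ R : Sylow 3 G, Nat.card {U : Sylow 3 G // Adj R U} = 18
  /-- `G` is transitive on ordered adjacent pairs -/
  transadj : ∀ R S R' S' : Sylow 3 G, Adj R S → Adj R' S' → ∃ g : G, g • R = R' ∧ g • S = S'

/-- the `R`-conjugates of a neighbour `S` of `R` are adjacent to `S` -/
def PropA (G : Type*) [Group G] : Prop :=
  ∀ R S : Sylow 3 G, Adj R S → ∀ r ∈ (R : Subgroup G), r ≠ 1 → Adj S (r • S)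

/-- no `R`-conjugate of a neighbour `S` of `R` is adjacent to `S` -/
def PropA' (G : Type*) [Group G] : Prop :=
  ∀ R S : Sylow 3 G, Adj R S → ∀ r ∈ (R : Subgroup G), r ≠ 1 → ¬ Adj S (r • S)

/-- in a triangle `R, S, T`, the proper `R`-conjugates of `T` are adjacent to `S` -/
def PropB (G : Type*) [Group G] : Prop :=
  ∀ (z : G) (R S T : Sylow 3 G), orderOf z = 2 → Inv z R → Inv z S → Inv z T →
    R ≠ S → R ≠ T → S ≠ T → ∀ r ∈ (R : Subgroup G), r ≠ 1 → Adj S (r • T)

/-- in a triangle `R, S, T`, no proper `R`-conjugate of `T` is adjacent to `S` -/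
def PropB' (G : Type*) [Group G] : Prop :=
  ∀ (z : G) (R S T : Sylow 3 G), orderOf z = 2 → Inv z R → Inv z S → Inv z T →
    R ≠ S → R ≠ T → S ≠ T → ∀ r ∈ (R : Subgroup G), r ≠ 1 → ¬ Adj S (r • T)

end Cfsg.Agent.Helper48.M11U
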