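import Mathlib
import Cfsg.Agent.Helper8.SylFix

/-!
# A group of order 16 acting faithfully on a group of order 9

`sd16_sign`: let `R` be a subgroup of order 9 of a finite group and `T` a subgroup of order 16
normalising `R` with `C_T(R) = 1`.  Then the elements of `T` inducing an even permutation of `R`
form a subgroup `Q` of order 8, normalised by `T`, with at most one involution, and some
involution of `T` centralises a nontrivial element of `R`.
-/

set_option autoImplicit false

namespace Cfsg.Agent.Helper48.M11Sign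

variable {G : Type*} [Group G]

/-- Conjugation by a normalising element, as a permutation of the subgroup. -/
def cperm (R : Subgroup G) (t : ↥(Subgroup.normalizer (R : Set G))) : Equiv.Perm ↥R where
  toFun r := ⟨t * r * t⁻¹, (Subgroup.mem_normalizer_iff.mp t.2 r).mp r.2⟩
  invFun r := ⟨t⁻¹ * r * t, by
    have h := (Subgroup.mem_normalizer_iff.mp (inv_mem t.2) r).mp r.2
    simpa using h⟩
  left_inv r := by
    apply Subtype.ext
    simp [mul_assoc]
  right_inv r := by
    apply Subtype.ext
    simp [mul_assoc]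

/-- The conjugation action of the normaliser on the subgroup, as a homomorphism. -/
def cpermHom (R : Subgroup G) : ↥(Subgroup.normalizer (R : Set G)) →* Equiv.Perm ↥R where
  toFun := cperm R
  map_one' := by
    apply Equiv.ext
    intro r
    apply Subtype.ext
    simp [cperm]
  map_mul' a b := by
    apply Equiv.ext
    intro r
    apply Subtype.ext
    simp [cperm, mul_assoc]

theorem cpermHom_apply (R : Subgroup G) (t : ↥(Subgroup.normalizer (R : Set G))) (r : ↥R) :
    ((cpermHom R t r : ↥R) : G) = t * r * t⁻¹ := rfl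


/-- A subgroup `T` of order 16 acting faithfully by conjugation on a subgroup `R` of order 9:
the even elements form a subgroup `Q` of order 8, normalised by `T`, with at most one
involution; and some involution of `T` centralises a nontrivial element of `R`. -/
theorem sd16_sign [Finite G] (R T : Subgroup G)
    (hR : Nat.card R = 9) (hT : Nat.card T = 16) (hTN : T ≤ Subgroup.normalizer (R : Set G))
    (hfaith : ∀ t ∈ T, (∀ r ∈ R, t * r = r * t) → t = 1) :
    ∃ Q : Subgroup G, Q ≤ T ∧ Nat.card Q = 8 ∧ (∀ t ∈ T, ∀ q ∈ Q, t * q * t⁻¹ ∈ Q) ∧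
      (∀ a ∈ Q, ∀ b ∈ Q, orderOf a = 2 → orderOf b = 2 → a = b) ∧
      (∃ u ∈ T, orderOf u = 2 ∧ ∃ d ∈ R, d ≠ 1 ∧ u * d = d * u) := by
  classical
  have instR : Fintype ↥R := Fintype.ofFinite _
  have hcardR : Fintype.card ↥R = 9 := by rw [Fintype.card_eq_nat_card, hR]
  have h3 : Fact (Nat.Prime 3) := ⟨by norm_num⟩
  have hRab : ∀ a b : ↥R, a * b = b * a :=
    (IsPGroup.isMulCommutative_of_card_eq_prime_sq (p := 3) (by rw [hR]; norm_num)).is_comm.comm
  have hconj : ∀ t ∈ T, ∀ r ∈ R, t * r * t⁻¹ ∈ R := fun t ht r hr =>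
    (Subgroup.mem_normalizer_iff.mp (hTN ht) r).mp hr
  let F : ↥(Subgroup.normalizer (R : Set G)) →* ℤˣ := Equiv.Perm.sign.comp (cpermHom R)
  have key : ∀ w (hw : w ∈ T), w * w = 1 → w ≠ 1 →
      (Nat.card ↥((Subgroup.centralizer {w}).subgroupOf R) = 3 ∧ F ⟨w, hTN hw⟩ = -1) ∨
      (Nat.card ↥((Subgroup.centralizer {w}).subgroupOf R) = 1 ∧
        ∀ r ∈ R, w * r * w⁻¹ = r⁻¹) := by
    intro w hw hww hw1
    obtain ⟨C, hCdef⟩ : ∃ C : Subgroup ↥R, C = (Subgroup.centralizer {w}).subgroupOf R :=
      ⟨_, rfl⟩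
    rw [← hCdef]
    have hmemC : ∀ r : ↥R, r ∈ C ↔ w * (r : G) * w⁻¹ = r := by
      intro r
      rw [hCdef, Subgroup.mem_subgroupOf, Subgroup.mem_centralizer_iff]
      constructor
      · intro h
        have h' := h w (Set.mem_singleton w)
        calc w * (r : G) * w⁻¹ = (r : G) * w * w⁻¹ := by rw [h']
          _ = r := by group
      · intro h x hx
        rw [Set.mem_singleton_iff] at hx
        subst hx
        calc x * (r : G) = x * r * x⁻¹ * x := by group
          _ = r * x := by rw [h]
    have hdvd : Nat.card C ∣ 3 ^ 2 := by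
      have := Subgroup.card_subgroup_dvd_card C
      rw [hR] at this
      exact this
    have hne9 : Nat.card C ≠ 9 := by
      intro h9
      have htop : C = ⊤ := (Subgroup.card_eq_iff_eq_top C).mp (by rw [h9, hR])
      apply hw1
      apply hfaith w hw
      intro r hr
      have h' := (hmemC ⟨r, hr⟩).mp (by rw [htop]; trivial)
      calc w * r = w * r * w⁻¹ * w := by group
        _ = r * w := by rw [h']
    have hcases : Nat.card C = 1 ∨ Nat.card C = 3 := by
      obtain ⟨m, hm, hmeq⟩ := (Nat.dvd_prime_pow Nat.prime_three).mp hdvd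
      interval_cases m
      · left; simpa using hmeq
      · right; simpa using hmeq
      · exfalso; apply hne9; simpa using hmeq
    rcases hcases with h1 | h3'
    · right
      refine ⟨h1, ?_⟩
      have hbot : C = ⊥ := Subgroup.card_eq_one.mp h1
      intro r hr
      have hr' : w * r * w⁻¹ ∈ R := hconj w hw r hr
      have hcomm : r * (w * r * w⁻¹) = (w * r * w⁻¹) * r :=
        congrArg Subtype.val (hRab ⟨r, hr⟩ ⟨w * r * w⁻¹, hr'⟩)
      have hy : (⟨r * (w * r * w⁻¹), mul_mem hr hr'⟩ : ↥R) ∈ C := by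
        rw [hmemC]
        show w * (r * (w * r * w⁻¹)) * w⁻¹ = r * (w * r * w⁻¹)
        calc w * (r * (w * r * w⁻¹)) * w⁻¹ = (w * r * w⁻¹) * ((w * w) * r * (w * w)⁻¹) := by
              group
          _ = (w * r * w⁻¹) * r := by rw [hww]; group
          _ = r * (w * r * w⁻¹) := hcomm.symm
      rw [hbot, Subgroup.mem_bot] at hy
      have hy' : r * (w * r * w⁻¹) = 1 := congrArg Subtype.val hy
      exact eq_inv_of_mul_eq_one_right hy'
    · left
      refine ⟨h3', ?_⟩
      show Equiv.Perm.sign (cpermHom R ⟨w, hTN hw⟩) = -1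
      apply Cfsg.Agent.Helper8.SylFix.sign_of_involution _ _ 3 _ (by decide)
      · rw [← map_pow]
        have hsq : (⟨w, hTN hw⟩ : ↥(Subgroup.normalizer (R : Set G))) ^ 2 = 1 := by
          apply Subtype.ext
          simp [pow_two, hww]
        rw [hsq, map_one]
      · rw [hcardR, Fintype.card_eq_nat_card]
        have hset : Function.fixedPoints (cpermHom R ⟨w, hTN hw⟩) = (C : Set ↥R) := by
          ext r
          rw [Function.mem_fixedPoints, Function.IsFixedPt, SetLike.mem_coe, hmemC]
          constructor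
          · intro h; exact congrArg Subtype.val h
          · intro h; exact Subtype.ext h
        rw [hset]
        show Nat.card ↥C + 2 * 3 = 9
        rw [h3']
  -- some involution of `T` centralises a nontrivial element of `R`
  have hex : ∃ u ∈ T, orderOf u = 2 ∧ ∃ d ∈ R, d ≠ 1 ∧ u * d = d * u := by
    have h1 : ∃ t ∈ T, t ≠ 1 ∧ ∃ d ∈ R, d ≠ 1 ∧ t * d = d * t := by
      by_contra hcon
      push Not at hcon
      obtain ⟨d, hd1⟩ : ∃ d : ↥R, d ≠ 1 := by
        have : Nontrivial ↥R := by
          rw [← Finite.one_lt_card_iff_nontrivial, hR]; norm_num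
        exact exists_ne 1
      let g : ↥T → ↥R := fun t => ⟨t * d * (t : G)⁻¹, hconj t t.2 d d.2⟩
      have hinj : Function.Injective g := by
        intro s t hst
        have h' : (s : G) * d * (s : G)⁻¹ = t * d * (t : G)⁻¹ := congrArg Subtype.val hst
        by_contra hne
        have hmem : (t : G)⁻¹ * s ∈ T := mul_mem (inv_mem t.2) s.2
        have hne1 : (t : G)⁻¹ * s ≠ 1 := by
          intro h
          apply hne
          apply Subtype.ext
          have h2 : (s : G) = t * ((t : G)⁻¹ * s) := by group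
          rw [h2, h, mul_one]
        apply hcon _ hmem hne1 d d.2 (by intro h; exact hd1 (Subtype.ext h))
        calc (t : G)⁻¹ * s * d = (t : G)⁻¹ * (s * d * (s : G)⁻¹) * s := by group
          _ = (t : G)⁻¹ * (t * d * (t : G)⁻¹) * s := by rw [h']
          _ = d * ((t : G)⁻¹ * s) := by group
      have hcard := Nat.card_le_card_of_injective g hinj
      rw [hT, hR] at hcard
      omega
    obtain ⟨t, htT, ht1, d, hdR, hd1, htd⟩ := h1
    have h2 : Fact (Nat.Prime 2) := ⟨Nat.prime_two⟩
    have hdvd : orderOf t ∣ 2 ^ 4 := by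
      have := Subgroup.orderOf_dvd_natCard T htT
      rw [hT] at this
      exact this
    obtain ⟨m, hm, hmeq⟩ := (Nat.dvd_prime_pow Nat.prime_two).mp hdvd
    have hm0 : m ≠ 0 := by
      intro h
      rw [h, pow_zero, orderOf_eq_one_iff] at hmeq
      exact ht1 hmeq
    have h2dvd : 2 ∣ Nat.card ↥(Subgroup.zpowers t) := by
      rw [Nat.card_zpowers, hmeq]
      exact dvd_pow_self 2 hm0
    obtain ⟨u', hu'⟩ := exists_prime_orderOf_dvd_card' 2 h2dvd
    refine ⟨(u' : G), ?_, ?_, d, hdR, hd1, ?_⟩
    · exact (Subgroup.zpowers_le.mpr htT) u'.2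
    · rw [Subgroup.orderOf_coe]; exact hu'
    · obtain ⟨j, hj⟩ := Subgroup.mem_zpowers_iff.mp u'.2
      rw [← hj]
      exact (Commute.zpow_left (show Commute t d from htd) j).eq
  obtain ⟨u, huT, hu2, d, hdR, hd1, hud⟩ := hex
  have huu : u * u = 1 := by rw [← pow_two, ← hu2, pow_orderOf_eq_one]
  have hu1 : u ≠ 1 := by
    intro h
    rw [h, orderOf_one] at hu2
    norm_num at hu2
  have hFu : F ⟨u, hTN huT⟩ = -1 := by
    rcases key u huT huu hu1 with ⟨_, h⟩ | ⟨h1, _⟩
    · exact h
    · exfalso
      have hbot := Subgroup.card_eq_one.mp h1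
      have hdC : (⟨d, hdR⟩ : ↥R) ∈ (Subgroup.centralizer {u}).subgroupOf R := by
        rw [Subgroup.mem_subgroupOf, Subgroup.mem_centralizer_iff]
        intro x hx
        rw [Set.mem_singleton_iff] at hx
        subst hx
        exact hud
      rw [hbot, Subgroup.mem_bot] at hdC
      exact hd1 (congrArg Subtype.val hdC)
  let f : ↥T →* ℤˣ := F.comp (Subgroup.inclusion hTN)
  have hfu : f ⟨u, huT⟩ = -1 := hFu
  have hmemQ : ∀ q, q ∈ f.ker.map T.subtype ↔ ∃ hq : q ∈ T, f ⟨q, hq⟩ = 1 := by
    intro q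
    constructor
    · rintro ⟨x, hx, rfl⟩
      exact ⟨x.2, MonoidHom.mem_ker.mp hx⟩
    · rintro ⟨hq, h⟩
      exact ⟨⟨q, hq⟩, MonoidHom.mem_ker.mpr h, rfl⟩
  have hcardQ : Nat.card ↥(f.ker.map T.subtype) = 8 := by
    have h1 : Nat.card ↥(f.ker.map T.subtype) = Nat.card ↥f.ker :=
      Nat.card_congr
        (Subgroup.equivMapOfInjective f.ker T.subtype T.subtype_injective).symm.toEquiv
    have h2 : f.ker.index = 2 := by
      rw [Subgroup.index_ker]
      have hdvd : Nat.card ↥f.range ∣ 2 := by
        have hdv := Subgroup.card_subgroup_dvd_card f.range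
        have h2u : Nat.card ℤˣ = 2 := by
          rw [Nat.card_eq_fintype_card, Fintype.card_units_int]
        rw [h2u] at hdv
        exact hdv
      have hne : Nat.card ↥f.range ≠ 1 := by
        intro h
        have hbot := Subgroup.card_eq_one.mp h
        have hmem : f ⟨u, huT⟩ ∈ f.range := ⟨_, rfl⟩
        rw [hbot, Subgroup.mem_bot, hfu] at hmem
        exact absurd hmem (by decide)
      rcases (Nat.dvd_prime Nat.prime_two).mp hdvd with h | h
      · exact absurd h hne
      · exact h
    have h3' := Subgroup.card_mul_index f.ker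
    rw [h2, hT] at h3'
    omega
  refine ⟨f.ker.map T.subtype, Subgroup.map_subtype_le _, hcardQ, ?_, ?_, u, huT, hu2, d, hdR,
    hd1, hud⟩
  · intro t ht q hq
    obtain ⟨hqT, hfq⟩ := (hmemQ q).mp hq
    refine (hmemQ _).mpr ⟨mul_mem (mul_mem ht hqT) (inv_mem ht), ?_⟩
    have hrw : (⟨t * q * t⁻¹, mul_mem (mul_mem ht hqT) (inv_mem ht)⟩ : ↥T) =
        ⟨t, ht⟩ * ⟨q, hqT⟩ * ⟨t, ht⟩⁻¹ := rfl
    rw [hrw, map_mul, map_mul, map_inv, hfq, mul_one, mul_inv_cancel]
  · intro a ha b hb ha2 hb2
    obtain ⟨haT, hfa⟩ := (hmemQ a).mp ha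
    obtain ⟨hbT, hfb⟩ := (hmemQ b).mp hb
    have haa : a * a = 1 := by rw [← pow_two, ← ha2, pow_orderOf_eq_one]
    have hbb : b * b = 1 := by rw [← pow_two, ← hb2, pow_orderOf_eq_one]
    have ha1 : a ≠ 1 := by
      intro h
      rw [h, orderOf_one] at ha2
      norm_num at ha2
    have hb1 : b ≠ 1 := by
      intro h
      rw [h, orderOf_one] at hb2
      norm_num at hb2
    have hinva : ∀ r ∈ R, a * r * a⁻¹ = r⁻¹ := by
      rcases key a haT haa ha1 with ⟨_, h⟩ | ⟨_, h⟩
      · exfalso
        have h' : f ⟨a, haT⟩ = -1 := h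
        rw [hfa] at h'
        exact absurd h' (by decide)
      · exact h
    have hinvb : ∀ r ∈ R, b * r * b⁻¹ = r⁻¹ := by
      rcases key b hbT hbb hb1 with ⟨_, h⟩ | ⟨_, h⟩
      · exfalso
        have h' : f ⟨b, hbT⟩ = -1 := h
        rw [hfb] at h'
        exact absurd h' (by decide)
      · exact h
    have hab : a * b = 1 := by
      apply hfaith (a * b) (mul_mem haT hbT)
      intro r hr
      have h1 : a * (b * r * b⁻¹) * a⁻¹ = r := by
        rw [hinvb r hr, hinva r⁻¹ (inv_mem hr), inv_inv]
      calc a * b * r = a * (b * r * b⁻¹) * a⁻¹ * (a * b) := by group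
        _ = r * (a * b) := by rw [h1]
    calc a = a * (b * b) := by rw [hbb, mul_one]
      _ = (a * b) * b := by group
      _ = b := by rw [hab, one_mul]

end Cfsg.Agent.Helper48.M11Sign
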