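import Cfsg.Statements.S1383
import Cfsg.Agent.S1454

set_option autoImplicit false

/-!
# CALL BG83 (helper25; row S1383), piece CASEA (helper48, double)

`bg83_case_A`, verbatim from `tools/calls/BG83Skel.lean.txt`: S1454 clause 2 for a generator of `K`.
-/

namespace Cfsg.Agent.Helper48

open Cfsg Subgroup

universe u

variable {G : Type u} [Group G] [Finite G]

/-- CASEA. (S1454 clause 2 for a generator of `K`.) -/
theorem bg83_case_A (p : ℕ) [Fact p.Prime] (hp2 : p ≠ 2) (P K : Subgroup G) (hP : IsPGroup p P)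
    (hn : IsNarrow p ↥P) (hr : ¬ PRankLE p 2 ↥P) (hK : IsCyclic ↥K)
    (hKP : K ≤ normalizer (P : Set G)) (hodd : Odd (Nat.card K))
    (hcop : (Nat.card K).Coprime p) (hf : K ⊓ centralizer (P : Set G) = ⊥) :
    Nat.card K ∣ p - 1 := by
  have hsol : Group.IsSolvable ↥K :=
    Group.isSolvable_of_comm (fun a b => (IsCyclic.commGroup (α := ↥K)).mul_comm a b)
  have h := (Cfsg.Agent.S1454.result p hp2 P K hP hn hKP hsol hodd hf).2.1 hr
  obtain ⟨g, hg⟩ := hK.exists_generator
  have hord : orderOf (g : G) = Nat.card K := by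
    rw [Subgroup.orderOf_coe]
    exact orderOf_eq_card_of_forall_mem_zpowers hg
  have h2 := h (g : G) g.2 (by rw [hord]; exact hcop)
  rwa [hord] at h2

end Cfsg.Agent.Helper48
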