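import Cfsg.Statements.S1383
import Cfsg.Agent.S1426

set_option autoImplicit false

/-!
# CALL BG83 (helper25; row S1383), piece PB (helper48)

`bg83_not_beta`, verbatim from `tools/calls/BG83Skel.lean.txt`: S1426 clause 3 for `g`.
-/

namespace Cfsg.Agent.Helper48

open Cfsg Subgroup

universe u

variable {G : Type u} [Group G] [Finite G]

/-- PB. (S1426 clause 3 for `g`: `x ∈ M_σ ∩ gMg⁻¹`, whose order has no prime divisor in `β(M)`.) -/
theorem bg83_not_beta (hG : IsMinSimpleOddOrder G) {M : Subgroup G} (hM : IsCoatom M)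
    (E : Subgroup G) (hE : IsComplIn E (sigmaCore M) M) {x g : G}
    (hx : x ∈ sigmaCore M) (hxp : (orderOf x).Prime) (hg : g ∉ M)
    (hxg : x ∈ M.map (MulAut.conj g).toMonoidHom) : orderOf x ∉ beta M := by
  have h := (Cfsg.Agent.S1426.result hG M hM E hE).2.2 g hg
  refine h.2.1 (orderOf x) hxp ?_
  have hmem : x ∈ sigmaCore M ⊓ M.map (MulAut.conj g).toMonoidHom := ⟨hx, hxg⟩
  have h1 := orderOf_dvd_natCard
    (⟨x, hmem⟩ : ↥(sigmaCore M ⊓ M.map (MulAut.conj g).toMonoidHom))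
  rwa [Subgroup.orderOf_mk] at h1

end Cfsg.Agent.Helper48
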