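import Mathlib
import Cfsg.Agent.Helper48.M11UGeo

/-!
# CALL S0420: tools about triangles (three Sylow 3-subgroups inverted by one involution)
-/

set_option autoImplicit false
set_option linter.unusedSectionVars false
open scoped Pointwise

namespace Cfsg.Agent.Helper48.M11U

universe u
variable {G : Type u} [Group G] [Finite G]

/-- given two of the three Sylow 3-subgroups inverted by `z`, the third one -/
theorem tri_third {z : G} (htri : Nat.card {P : Sylow 3 G // Inv z P} = 3) {R S : Sylow 3 G}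
    (h1 : Inv z R) (h2 : Inv z S) (hne : R ≠ S) :
    ∃ T : Sylow 3 G, Inv z T ∧ R ≠ T ∧ S ≠ T ∧ ∀ U : Sylow 3 G, Inv z U → U = R ∨ U = S ∨ U = T := by
  classical
  have : Fintype {P : Sylow 3 G // Inv z P} := Fintype.ofFinite _
  rw [Nat.card_eq_fintype_card] at htri
  obtain ⟨a, ha⟩ : ∃ a : {P : Sylow 3 G // Inv z P}, a = ⟨R, h1⟩ := ⟨_, rfl⟩
  obtain ⟨b, hb⟩ : ∃ b : {P : Sylow 3 G // Inv z P}, b = ⟨S, h2⟩ := ⟨_, rfl⟩
  have hab : a ≠ b := by
    rw [ha, hb]
    intro e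
    exact hne (Subtype.mk.inj e)
  have hcard : ((Finset.univ.erase a).erase b).card = 1 := by
    rw [Finset.card_erase_of_mem (by simp [hab.symm]), Finset.card_erase_of_mem (Finset.mem_univ a),
      Finset.card_univ, htri]
  obtain ⟨c, hc⟩ := Finset.card_eq_one.mp hcard
  have hcmem : c ∈ (Finset.univ.erase a).erase b := by rw [hc]; exact Finset.mem_singleton_self c
  have hcb : c ≠ b := (Finset.mem_erase.mp hcmem).1
  have hca : c ≠ a := (Finset.mem_erase.mp (Finset.mem_erase.mp hcmem).2).1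
  refine ⟨c.1, c.2, ?_, ?_, ?_⟩
  · intro e
    apply hca
    rw [ha]
    exact Subtype.ext e.symm
  · intro e
    apply hcb
    rw [hb]
    exact Subtype.ext e.symm
  · intro U hU
    by_cases hUa : (⟨U, hU⟩ : {P : Sylow 3 G // Inv z P}) = a
    · left
      rw [ha] at hUa
      exact Subtype.mk.inj hUa
    · by_cases hUb : (⟨U, hU⟩ : {P : Sylow 3 G // Inv z P}) = b
      · right; left
        rw [hb] at hUb
        exact Subtype.mk.inj hUb
      · right; right
        have hmem : (⟨U, hU⟩ : {P : Sylow 3 G // Inv z P}) ∈ (Finset.univ.erase a).erase b :=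
          Finset.mem_erase.mpr ⟨hUb, Finset.mem_erase.mpr ⟨hUa, Finset.mem_univ _⟩⟩
        rw [hc, Finset.mem_singleton] at hmem
        rw [← hmem]

/-- a triangle through a Sylow 3-subgroup inverted by `z` -/
theorem tri_exists {z : G} (htri : Nat.card {P : Sylow 3 G // Inv z P} = 3) {R : Sylow 3 G}
    (h1 : Inv z R) :
    ∃ S T : Sylow 3 G, Inv z S ∧ Inv z T ∧ R ≠ S ∧ R ≠ T ∧ S ≠ T ∧
      ∀ U : Sylow 3 G, Inv z U → U = R ∨ U = S ∨ U = T := by
  classical
  have : Fintype {P : Sylow 3 G // Inv z P} := Fintype.ofFinite _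
  have htri' := htri
  rw [Nat.card_eq_fintype_card] at htri'
  have hlt : 1 < Fintype.card {P : Sylow 3 G // Inv z P} := by rw [htri']; norm_num
  obtain ⟨b, hb⟩ := Fintype.exists_ne_of_one_lt_card hlt (⟨R, h1⟩ : {P : Sylow 3 G // Inv z P})
  have hne : R ≠ b.1 := by
    intro e
    apply hb
    exact Subtype.ext e.symm
  obtain ⟨T, hT, hRT, hST, hall⟩ := tri_third htri h1 b.2 hne
  exact ⟨b.1, T, b.2, hT, hne, hRT, hST, hall⟩

/-- a triangle through any Sylow 3-subgroup -/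
theorem tri_exists' (h : M11L1 G) (R : Sylow 3 G) :
    ∃ (z : G) (S T : Sylow 3 G), orderOf z = 2 ∧ Inv z R ∧ Inv z S ∧ Inv z T ∧ R ≠ S ∧ R ≠ T ∧
      S ≠ T ∧ ∀ U : Sylow 3 G, Inv z U → U = R ∨ U = S ∨ U = T := by
  obtain ⟨z, hz, hR⟩ := h.exinv R
  obtain ⟨S, T, hS, hT, h1, h2, h3, hall⟩ := tri_exists (h.tri z hz) hR
  exact ⟨z, S, T, hz, hR, hS, hT, h1, h2, h3, hall⟩

/-- the triangle of an adjacent pair -/
theorem tri_of_adj (h : M11L1 G) {R S : Sylow 3 G} (hRS : Adj R S) :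
    ∃ (z : G) (T : Sylow 3 G), orderOf z = 2 ∧ Inv z R ∧ Inv z S ∧ Inv z T ∧ R ≠ T ∧
      S ≠ T ∧ ∀ U : Sylow 3 G, Inv z U → U = R ∨ U = S ∨ U = T := by
  obtain ⟨hne, z, hz, hR, hS⟩ := hRS
  obtain ⟨T, hT, hRT, hST, hall⟩ := tri_third (h.tri z hz) hR hS hne
  exact ⟨z, T, hz, hR, hS, hT, hRT, hST, hall⟩

/-- members of a triangle are adjacent -/
theorem adj_of_tri {z : G} (hz : orderOf z = 2) {R S : Sylow 3 G} (h1 : Inv z R) (h2 : Inv z S)
    (hne : R ≠ S) : Adj R S := ⟨hne, z, hz, h1, h2⟩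

/-- elements of a Sylow 3-subgroup of order 9 with square 1 are trivial -/
theorem eq_one_of_sq (h : M11Raw G) {R : Sylow 3 G} {r : G} (hr : r ∈ (R : Subgroup G))
    (h2 : r * r = 1) : r = 1 := by
  have h1 : orderOf r ∣ 9 := by
    have := Subgroup.orderOf_dvd_natCard _ hr
    rwa [h.card3 R] at this
  have h3 : orderOf r ∣ 2 := orderOf_dvd_of_pow_eq_one (by rw [pow_two, h2])
  have h4 : orderOf r ∣ Nat.gcd 9 2 := Nat.dvd_gcd h1 h3
  have h5 : Nat.gcd 9 2 = 1 := by norm_num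
  rw [h5, Nat.dvd_one] at h4
  exact orderOf_eq_one_iff.mp h4

/-- a nontrivial element of a Sylow 3-subgroup exists -/
theorem exists_ne_one (h : M11Raw G) (R : Sylow 3 G) : ∃ r ∈ (R : Subgroup G), r ≠ 1 := by
  by_contra hcon
  push Not at hcon
  have h1 : (R : Subgroup G) = ⊥ := by
    rw [Subgroup.eq_bot_iff_forall]
    exact hcon
  have h2 := h.card3 R
  rw [h1, Subgroup.card_bot] at h2
  norm_num at h2

/-- elements of `R` fix `R` -/
theorem smul_self_of_mem {R : Sylow 3 G} {r : G} (hr : r ∈ (R : Subgroup G)) : r • R = R := by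
  rw [smul_eq_iff]
  exact Subgroup.le_normalizer hr

/-- `R` is in its stars -/
theorem self_mem_star (R S : Sylow 3 G) : R ∈ star R S := Or.inl rfl

theorem smul_mem_star {R S : Sylow 3 G} {r : G} (hr : r ∈ (R : Subgroup G)) :
    r • S ∈ star R S := Or.inr ⟨r, hr, rfl⟩

theorem snd_mem_star (R S : Sylow 3 G) : S ∈ star R S :=
  Or.inr ⟨1, one_mem _, (one_smul G S).symm⟩

/-- the star depends only on the `R`-orbit of `S` -/
theorem star_smul_snd {R S : Sylow 3 G} {r : G} (hr : r ∈ (R : Subgroup G)) :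
    star R (r • S) = star R S := by
  ext P
  rw [mem_star, mem_star]
  constructor
  · rintro (hP | ⟨r', hr', hP⟩)
    · exact Or.inl hP
    · exact Or.inr ⟨r' * r, mul_mem hr' hr, by rw [hP, mul_smul]⟩
  · rintro (hP | ⟨r', hr', hP⟩)
    · exact Or.inl hP
    · exact Or.inr ⟨r' * r⁻¹, mul_mem hr' (inv_mem hr), by rw [hP, ← mul_smul, mul_assoc,
        inv_mul_cancel, mul_one]⟩

end Cfsg.Agent.Helper48.M11U
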