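import Mathlib.GroupTheory.Sylow
import Mathlib.GroupTheory.Index
import Cfsg.Prelude.Def_Transfer

set_option autoImplicit false

namespace Cfsg.Agent.Helper48

open Subgroup
open scoped Classical

section

variable {E : Type*} [Group E]

theorem center_cases (h2 : Nat.card (center E) = 2) {c : center E} (hc : c ≠ 1) (z : center E) :
    z = 1 ∨ z = c := by
  obtain ⟨y, -, hyu⟩ := (Nat.card_eq_two_iff' (1 : center E)).mp h2
  by_cases hz : z = 1
  · exact Or.inl hz
  · right; rw [hyu z hz, hyu c hc]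

theorem center_mul_self (h2 : Nat.card (center E) = 2) (z : center E) : z * z = 1 := by
  by_cases hz : z = 1
  · rw [hz, one_mul]
  · have hz' : z⁻¹ ≠ 1 := by
      intro h; apply hz; rw [← inv_inv z, h, inv_one]
    rcases center_cases h2 hz z⁻¹ with h | h
    · exact absurd h hz'
    · calc z * z = z * z⁻¹ := by rw [h]
        _ = 1 := mul_inv_cancel z

/-- The sign character of the centre (of order two). -/
noncomputable def sgnC (z : center E) : ℤ := if z = 1 then 1 else -1

theorem sgnC_one : sgnC (1 : center E) = 1 := by simp [sgnC]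

theorem sgnC_mul (h2 : Nat.card (center E) = 2) (z w : center E) :
    sgnC (z * w) = sgnC z * sgnC w := by
  by_cases hz : z = 1
  · subst hz; simp [sgnC]
  · by_cases hw : w = 1
    · subst hw; simp [sgnC]
    · have hzw : z = w := by
        rcases center_cases h2 hw z with h | h
        · exact absurd h hz
        · exact h
      subst hzw
      rw [center_mul_self h2]
      simp [sgnC, hz]

theorem sgnC_inv (h2 : Nat.card (center E) = 2) (z : center E) : sgnC z⁻¹ = sgnC z := by
  have : z⁻¹ = z := by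
    have := center_mul_self h2 z
    exact inv_eq_of_mul_eq_one_left this
  rw [this]

/-- The commutator homomorphism `b ↦ b y b⁻¹ y⁻¹` into the centre. -/
def commHom (hc : ∀ x y : E, x * y * x⁻¹ * y⁻¹ ∈ center E) (y : E) : E →* center E where
  toFun b := ⟨b * y * b⁻¹ * y⁻¹, hc b y⟩
  map_one' := by
    apply Subtype.ext
    show 1 * y * 1⁻¹ * y⁻¹ = 1
    group
  map_mul' b b' := by
    apply Subtype.ext
    show (b * b') * y * (b * b')⁻¹ * y⁻¹ = (b * y * b⁻¹ * y⁻¹) * (b' * y * b'⁻¹ * y⁻¹)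
    have hd : ∀ g : E, g * (b' * y * b'⁻¹ * y⁻¹) = (b' * y * b'⁻¹ * y⁻¹) * g :=
      fun g => (Subgroup.mem_center_iff.mp (hc b' y) g)
    calc (b * b') * y * (b * b')⁻¹ * y⁻¹
        = b * (b' * y * b'⁻¹ * y⁻¹) * y * b⁻¹ * y⁻¹ := by group
      _ = (b' * y * b'⁻¹ * y⁻¹) * b * y * b⁻¹ * y⁻¹ := by rw [hd b]
      _ = (b' * y * b'⁻¹ * y⁻¹) * (b * y * b⁻¹ * y⁻¹) := by group
      _ = (b * y * b⁻¹ * y⁻¹) * (b' * y * b'⁻¹ * y⁻¹) := (hd _).symm

theorem commHom_apply_coe (hc : ∀ x y : E, x * y * x⁻¹ * y⁻¹ ∈ center E) (y b : E) :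
    ((commHom hc y b : center E) : E) = b * y * b⁻¹ * y⁻¹ := rfl

theorem commHom_eq_one_iff (hc : ∀ x y : E, x * y * x⁻¹ * y⁻¹ ∈ center E) (y b : E) :
    commHom hc y b = 1 ↔ b * y = y * b := by
  rw [Subtype.ext_iff, commHom_apply_coe]
  constructor
  · intro h
    calc b * y = (b * y * b⁻¹ * y⁻¹) * (y * b) := by group
      _ = y * b := by rw [h]; exact one_mul _
  · intro h
    calc b * y * b⁻¹ * y⁻¹ = (b * y) * b⁻¹ * y⁻¹ := by group
      _ = (y * b) * b⁻¹ * y⁻¹ := by rw [h]
      _ = 1 := by group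

theorem commHom_symm (hc : ∀ x y : E, x * y * x⁻¹ * y⁻¹ ∈ center E) (y b : E) :
    commHom hc y b = (commHom hc b y)⁻¹ := by
  apply Subtype.ext
  show b * y * b⁻¹ * y⁻¹ = (y * b * y⁻¹ * b⁻¹)⁻¹
  group

/-- Orthogonality for the sign character. -/
theorem sum_sgnC_hom_of_trivial {B : Type*} [Group B] [Fintype B] (φ : B →* center E)
    (h : ∀ b, φ b = 1) : ∑ b : B, sgnC (φ b) = (Fintype.card B : ℤ) := by
  simp [h, sgnC_one]

theorem sum_sgnC_hom_of_nontrivial (h2 : Nat.card (center E) = 2) {B : Type*} [Group B] [Fintype B]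
    (φ : B →* center E) (h : ∃ b, φ b ≠ 1) : ∑ b : B, sgnC (φ b) = 0 := by
  obtain ⟨b₀, hb₀⟩ := h
  have h1 : ∑ b : B, sgnC (φ b) = ∑ b : B, sgnC (φ (b * b₀)) :=
    (Fintype.sum_equiv (Equiv.mulRight b₀) _ _ (fun b => rfl)).symm
  have h3 : sgnC (φ b₀) = -1 := by simp [sgnC, hb₀]
  have h4 : ∑ b : B, sgnC (φ (b * b₀)) = - ∑ b : B, sgnC (φ b) := by
    rw [← Finset.sum_neg_distrib]
    apply Finset.sum_congr rfl
    intro b _
    rw [map_mul, sgnC_mul h2, h3]; ring
  linarith

end


section Count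

variable {E : Type*} [Group E]

theorem sum_sgnC_commHom_left (hc : ∀ x y : E, x * y * x⁻¹ * y⁻¹ ∈ center E)
    (h2 : Nat.card (center E) = 2) (B : Subgroup E) [Fintype B] (x : E) :
    ∑ b : B, sgnC (commHom hc x (b : E)) =
      if x ∈ centralizer (B : Set E) then (Fintype.card B : ℤ) else 0 := by
  split_ifs with hx
  · apply sum_sgnC_hom_of_trivial ((commHom hc x).comp B.subtype)
    intro b
    exact (commHom_eq_one_iff hc x b).mpr (mem_centralizer_iff.mp hx b b.2)
  · apply sum_sgnC_hom_of_nontrivial h2 ((commHom hc x).comp B.subtype)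
    by_contra hall
    push Not at hall
    apply hx
    rw [mem_centralizer_iff]
    intro b hb
    exact (commHom_eq_one_iff hc x b).mp (hall ⟨b, hb⟩)

theorem sum_sgnC_commHom_right (hc : ∀ x y : E, x * y * x⁻¹ * y⁻¹ ∈ center E)
    (h2 : Nat.card (center E) = 2) [Fintype E] (b : E) :
    ∑ x : E, sgnC (commHom hc x b) =
      if b ∈ center E then (Fintype.card E : ℤ) else 0 := by
  have h1 : ∑ x : E, sgnC (commHom hc x b) = ∑ x : E, sgnC (commHom hc b x) := by
    apply Finset.sum_congr rfl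
    intro x _
    rw [commHom_symm hc x b, sgnC_inv h2]
  rw [h1]
  split_ifs with hb
  · apply sum_sgnC_hom_of_trivial (commHom hc b)
    intro x
    exact (commHom_eq_one_iff hc b x).mpr (Subgroup.mem_center_iff.mp hb x)
  · apply sum_sgnC_hom_of_nontrivial h2 (commHom hc b)
    by_contra hall
    push Not at hall
    apply hb
    rw [Subgroup.mem_center_iff]
    intro x
    exact (commHom_eq_one_iff hc b x).mp (hall x)

theorem sum_ite_const_int {α : Type*} [Fintype α] (p : α → Prop) [DecidablePred p] (c : ℤ) :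
    ∑ x : α, (if p x then c else 0) = (Fintype.card {x // p x} : ℤ) * c := by
  rw [Finset.sum_ite, Finset.sum_const, Finset.sum_const_zero, add_zero, nsmul_eq_mul,
    Fintype.card_subtype]

/-- Duality count: `|C_E(B)| · |B| = |B ∩ Z(E)| · |E|`. -/
theorem card_centralizer_mul_card (hc : ∀ x y : E, x * y * x⁻¹ * y⁻¹ ∈ center E)
    (h2 : Nat.card (center E) = 2) [Finite E] (B : Subgroup E) :
    Nat.card (centralizer (B : Set E)) * Nat.card B =
      Nat.card {b : B // (b : E) ∈ center E} * Nat.card E := by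
  have := Fintype.ofFinite E
  have key : ∑ x : E, ∑ b : B, sgnC (commHom hc x (b : E)) =
      ∑ b : B, ∑ x : E, sgnC (commHom hc x (b : E)) := Finset.sum_comm
  simp_rw [sum_sgnC_commHom_left hc h2, sum_sgnC_commHom_right hc h2] at key
  rw [sum_ite_const_int, sum_ite_const_int] at key
  rw [Nat.card_eq_fintype_card (α := B), Nat.card_eq_fintype_card (α := E),
    Nat.card_eq_fintype_card, Nat.card_eq_fintype_card]
  exact_mod_cast key

end Count


section Main

variable {E : Type*} [Group E]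

theorem comm_mem_center_of_isExtraspecial {p : ℕ} (hE : IsExtraspecial p E) (x y : E) :
    x * y * x⁻¹ * y⁻¹ ∈ center E := by
  obtain ⟨⟨-, -, hcomm⟩, -⟩ := hE
  rw [← hcomm]
  have := Subgroup.commutator_mem_commutator (Subgroup.mem_top x) (Subgroup.mem_top y)
  rwa [commutatorElement_def] at this

theorem sq_comm_of_central (hc : ∀ x y : E, x * y * x⁻¹ * y⁻¹ ∈ center E)
    (h2 : Nat.card (center E) = 2) (x g : E) : x ^ 2 * g = g * x ^ 2 := by
  rw [← commHom_eq_one_iff hc g (x ^ 2), map_pow, pow_two]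
  exact center_mul_self h2 _

theorem sq_mem_center (hc : ∀ x y : E, x * y * x⁻¹ * y⁻¹ ∈ center E)
    (h2 : Nat.card (center E) = 2) (x : E) : x ^ 2 ∈ center E := by
  rw [Subgroup.mem_center_iff]
  intro g
  exact (sq_comm_of_central hc h2 x g).symm

theorem pow_four_eq_one (hc : ∀ x y : E, x * y * x⁻¹ * y⁻¹ ∈ center E)
    (h2 : Nat.card (center E) = 2) (x : E) : x ^ 4 = 1 := by
  have h := center_mul_self h2 ⟨x ^ 2, sq_mem_center hc h2 x⟩
  have h' : x ^ 2 * x ^ 2 = 1 := congrArg Subtype.val h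
  calc x ^ 4 = x ^ 2 * x ^ 2 := by rw [← pow_add]
    _ = 1 := h'

theorem orderOf_eq_four_iff (hc : ∀ x y : E, x * y * x⁻¹ * y⁻¹ ∈ center E)
    (h2 : Nat.card (center E) = 2) (x : E) : orderOf x = 4 ↔ ¬ x ^ 2 = 1 := by
  constructor
  · intro h hx
    have := orderOf_dvd_of_pow_eq_one hx
    rw [h] at this
    exact absurd this (by norm_num)
  · intro h
    have h4 := pow_four_eq_one hc h2 x
    have := orderOf_eq_prime_pow (p := 2) (n := 1) (x := x) (by simpa using h) (by simpa using h4)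
    simpa using this

/-- An abelian subgroup of order `2 ^ (m + 1)` in a group of order `2 ^ (2 m + 1)` with central
commutators and centre of order two is self-centralizing. -/
theorem centralizer_eq_self_of_card (hc : ∀ x y : E, x * y * x⁻¹ * y⁻¹ ∈ center E)
    (h2 : Nat.card (center E) = 2) [Finite E] (m : ℕ) (hcard : Nat.card E = 2 ^ (2 * m + 1))
    (A : Subgroup E) (hAab : IsMulCommutative A) (hAc : Nat.card A = 2 ^ (m + 1)) :
    centralizer (A : Set E) = A := by
  have hle : A ≤ centralizer (A : Set E) := Subgroup.le_centralizer A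
  have hcnt := card_centralizer_mul_card hc h2 A
  have hinj : Nat.card {b : A // (b : E) ∈ center E} ≤ Nat.card (center E) := by
    apply Nat.card_le_card_of_injective (fun b : {b : A // (b : E) ∈ center E} => (⟨(b.1 : E), b.2⟩ : center E))
    intro b b' h
    apply Subtype.ext
    apply Subtype.ext
    have h' := congrArg Subtype.val h
    exact h'
  rw [h2] at hinj
  rw [hAc, hcard] at hcnt
  have h3 : Nat.card (centralizer (A : Set E)) * 2 ^ (m + 1) ≤ 2 ^ (m + 1) * 2 ^ (m + 1) := by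
    rw [hcnt]
    calc Nat.card {b : A // (b : E) ∈ center E} * 2 ^ (2 * m + 1) ≤ 2 * 2 ^ (2 * m + 1) :=
          Nat.mul_le_mul_right _ hinj
      _ = 2 ^ (m + 1) * 2 ^ (m + 1) := by ring
    
  have h4 : Nat.card (centralizer (A : Set E)) ≤ Nat.card A := by
    rw [hAc]
    exact Nat.le_of_mul_le_mul_right h3 (by positivity)
  exact (Subgroup.eq_of_le_of_card_ge hle h4).symm


/-- The number of elements of order 4 in an extraspecial 2-group of plus type. -/
theorem card_orderOf_four_of_central (hc : ∀ x y : E, x * y * x⁻¹ * y⁻¹ ∈ center E)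
    (h2 : Nat.card (center E) = 2) [Finite E] (m : ℕ) (hcard : Nat.card E = 2 ^ (2 * m + 1))
    (A : Subgroup E) (hA : IsElementaryAbelian 2 A) (hAc : Nat.card A = 2 ^ (m + 1)) :
    Nat.card {x : E // orderOf x = 4} = 2 ^ (2 * m) - 2 ^ m := by
  obtain ⟨hAab, hAexp⟩ := hA
  have hCA := centralizer_eq_self_of_card hc h2 m hcard A hAab hAc
  have := Fintype.ofFinite E
  obtain ⟨sq, hsqdef⟩ : ∃ sq : E → center E, ∀ x, (sq x : E) = x ^ 2 :=
    ⟨fun x => ⟨x ^ 2, sq_mem_center hc h2 x⟩, fun x => rfl⟩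
  have hsq : ∀ (a : A) (x : E), sq ((a : E) * x) = commHom hc x (a : E) * sq x := by
    intro a x
    apply Subtype.ext
    rw [Subgroup.coe_mul, hsqdef, hsqdef, commHom_apply_coe]
    have ha : (a : E)⁻¹ = a := by
      have := hAexp a a.2
      exact inv_eq_of_mul_eq_one_left (by rw [← pow_two]; exact this)
    rw [ha, pow_two, pow_two]; group
  have hS : (Fintype.card A : ℤ) * ∑ x : E, sgnC (sq x) =
      (Fintype.card A : ℤ) * Fintype.card A := by
    have e1 : (Fintype.card A : ℤ) * ∑ x : E, sgnC (sq x) =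
        ∑ a : A, ∑ x : E, sgnC (sq ((a : E) * x)) := by
      rw [← Finset.card_univ (α := A), ← nsmul_eq_mul, ← Finset.sum_const]
      apply Finset.sum_congr rfl
      intro a _
      exact (Fintype.sum_equiv (Equiv.mulLeft (a : E)) _ _ (fun x => rfl)).symm
    rw [e1, Finset.sum_comm]
    have e2 : ∀ x : E, ∑ a : A, sgnC (sq ((a : E) * x)) =
        if x ∈ A then (Fintype.card A : ℤ) else 0 := by
      intro x
      simp_rw [hsq, sgnC_mul h2]
      rw [← Finset.sum_mul, sum_sgnC_commHom_left hc h2, hCA]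
      split_ifs with hx
      · have : sq x = 1 := Subtype.ext (by rw [hsqdef]; exact hAexp x hx)
        rw [this, sgnC_one, mul_one]
      · rw [zero_mul]
    simp_rw [e2]
    rw [sum_ite_const_int]
  have hAne : (Fintype.card A : ℤ) ≠ 0 := by
    have : 0 < Fintype.card A := Fintype.card_pos
    exact_mod_cast this.ne'
  have hS1 : ∑ x : E, sgnC (sq x) = (Fintype.card A : ℤ) := mul_left_cancel₀ hAne hS
  have hS2 : ∑ x : E, sgnC (sq x) =
      (Fintype.card E : ℤ) - 2 * (Fintype.card {x : E // ¬ x ^ 2 = 1} : ℤ) := by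
    have e3 : ∀ x : E, sgnC (sq x) = 1 - 2 * (if ¬ x ^ 2 = 1 then (1 : ℤ) else 0) := by
      intro x
      have hx : sq x = 1 ↔ x ^ 2 = 1 := by
        rw [Subtype.ext_iff, hsqdef]; rfl
      unfold sgnC
      by_cases h : x ^ 2 = 1
      · simp [h, hx.mpr h]
      · simp [h, mt hx.mp h]
    simp_rw [e3]
    rw [Finset.sum_sub_distrib, ← Finset.mul_sum, sum_ite_const_int]
    simp
  have hJ : Nat.card {x : E // orderOf x = 4} = Fintype.card {x : E // ¬ x ^ 2 = 1} := by
    rw [← Nat.card_eq_fintype_card]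
    exact Nat.card_congr (Equiv.subtypeEquivRight (orderOf_eq_four_iff hc h2))
  rw [hJ]
  have hE' : Fintype.card E = 2 ^ (2 * m + 1) := by rw [← Nat.card_eq_fintype_card]; exact hcard
  have hA' : Fintype.card A = 2 ^ (m + 1) := by rw [← Nat.card_eq_fintype_card]; exact hAc
  rw [hS1, hE', hA'] at hS2
  have h5 : 2 * Fintype.card {x : E // ¬ x ^ 2 = 1} + 2 ^ (m + 1) = 2 ^ (2 * m + 1) := by
    have : (2 * Fintype.card {x : E // ¬ x ^ 2 = 1} + 2 ^ (m + 1) : ℤ) = 2 ^ (2 * m + 1) := by
      push_cast at hS2 ⊢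
      linarith
    exact_mod_cast this
  rw [pow_succ, pow_succ] at h5
  omega

end Main

end Cfsg.Agent.Helper48
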