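import Mathlib

/-!
# `A₄`-subgroups: generators and relations data (helper48)

A group isomorphic to `alternatingGroup (Fin 4)` is generated by `v₁, v₂, v₃, t` subject to the
relations recorded in `A4Data`.
-/

set_option autoImplicit false

namespace Cfsg.Agent.Helper48

/-- Relations satisfied by the standard generators of `A₄`. -/
structure A4Data {G : Type*} [Group G] (v₁ v₂ v₃ t : G) : Prop where
  sq1 : v₁ * v₁ = 1
  sq2 : v₂ * v₂ = 1
  sq3 : v₃ * v₃ = 1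
  mul12 : v₁ * v₂ = v₃
  c1 : t * v₁ = v₂ * t
  c2 : t * v₂ = v₃ * t
  c3 : t * v₃ = v₁ * t
  cube : t * t * t = 1
  ne : v₁ ≠ 1

theorem A4Data.map {G G' : Type*} [Group G] [Group G'] (f : G →* G')
    (hf : Function.Injective f) {v₁ v₂ v₃ t : G} (h : A4Data v₁ v₂ v₃ t) :
    A4Data (f v₁) (f v₂) (f v₃) (f t) where
  sq1 := by rw [← map_mul, h.sq1, map_one]
  sq2 := by rw [← map_mul, h.sq2, map_one]
  sq3 := by rw [← map_mul, h.sq3, map_one]
  mul12 := by rw [← map_mul, h.mul12]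
  c1 := by rw [← map_mul, h.c1, map_mul]
  c2 := by rw [← map_mul, h.c2, map_mul]
  c3 := by rw [← map_mul, h.c3, map_mul]
  cube := by rw [← map_mul, ← map_mul, h.cube, map_one]
  ne := fun h1 => h.ne (hf (h1.trans (map_one f).symm))

open Equiv in
theorem a4_data : ∃ a₁ a₂ a₃ s : alternatingGroup (Fin 4),
    a₁ * a₁ = 1 ∧ a₂ * a₂ = 1 ∧ a₃ * a₃ = 1 ∧ a₁ * a₂ = a₃ ∧
    s * a₁ = a₂ * s ∧ s * a₂ = a₃ * s ∧ s * a₃ = a₁ * s ∧ s * s * s = 1 ∧ a₁ ≠ 1 ∧
    ∀ x : alternatingGroup (Fin 4), ∃ i : Fin 3, ∃ j₁ j₂ : Fin 2,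
      x = s ^ (i : ℕ) * a₁ ^ (j₁ : ℕ) * a₂ ^ (j₂ : ℕ) := by
  refine ⟨⟨swap 0 1 * swap 2 3, Equiv.Perm.mem_alternatingGroup.mpr (by decide)⟩,
    ⟨swap 0 2 * swap 1 3, Equiv.Perm.mem_alternatingGroup.mpr (by decide)⟩,
    ⟨swap 0 3 * swap 1 2, Equiv.Perm.mem_alternatingGroup.mpr (by decide)⟩,
    ⟨swap 1 2 * swap 2 3, Equiv.Perm.mem_alternatingGroup.mpr (by decide)⟩, ?_⟩
  decide +kernel

/-- A subgroup isomorphic to `A₄` is generated by elements satisfying `A4Data`. -/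
theorem exists_a4Data_of_mulEquiv {G : Type*} [Group G] (H : Subgroup G)
    (e : H ≃* alternatingGroup (Fin 4)) :
    ∃ v₁ v₂ v₃ t : G, A4Data v₁ v₂ v₃ t ∧ H = Subgroup.closure (insert t {v₁, v₂, v₃}) := by
  obtain ⟨a₁, a₂, a₃, s, r1, r2, r3, r12, rc1, rc2, rc3, rcube, rne, rgen⟩ := a4_data
  let f : alternatingGroup (Fin 4) →* G := H.subtype.comp e.symm.toMonoidHom
  have hf : Function.Injective f := by
    intro x y hxy
    exact e.symm.injective (Subtype.ext hxy)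
  have hd : A4Data a₁ a₂ a₃ s := ⟨r1, r2, r3, r12, rc1, rc2, rc3, rcube, rne⟩
  have hmem : ∀ x, f x ∈ H := fun x => (e.symm x).2
  refine ⟨f a₁, f a₂, f a₃, f s, hd.map f hf, le_antisymm ?_ ?_⟩
  · intro x hx
    obtain ⟨i, j₁, j₂, hij⟩ := rgen (e ⟨x, hx⟩)
    have hx' : x = f (e ⟨x, hx⟩) := by simp [f]
    rw [hx', hij, map_mul, map_mul, map_pow, map_pow, map_pow]
    refine mul_mem (mul_mem (pow_mem (Subgroup.subset_closure ?_) _)
      (pow_mem (Subgroup.subset_closure ?_) _)) (pow_mem (Subgroup.subset_closure ?_) _)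
    · exact Set.mem_insert _ _
    · exact Set.mem_insert_of_mem _ (Set.mem_insert _ _)
    · exact Set.mem_insert_of_mem _ (Set.mem_insert_of_mem _ (Set.mem_insert _ _))
  · rw [Subgroup.closure_le]
    intro x hx
    simp only [Set.mem_insert_iff, Set.mem_singleton_iff] at hx
    rcases hx with rfl | rfl | rfl | rfl <;> exact hmem _

end Cfsg.Agent.Helper48
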