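import Mathlib

/-!
# `A₄`-subgroups of `GL₂(ℤ/2ᵏ)`: ring and finite-field preliminaries (helper48)
-/

set_option autoImplicit false

namespace Cfsg.Agent.Helper48


/-- Reduction mod 2 on `ℤ/2ᵏ`. -/
noncomputable def red2 (k : ℕ) (hk : 1 ≤ k) : ZMod (2 ^ k) →+* ZMod 2 :=
  ZMod.castHom (dvd_pow_self 2 (by omega) : 2 ∣ 2 ^ k) (ZMod 2)

theorem exists_eq_two_mul_of_red2_eq_zero (k : ℕ) (hk : 1 ≤ k) (x : ZMod (2 ^ k))
    (hx : red2 k hk x = 0) : ∃ y, x = 2 * y := by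
  have h1 : red2 k hk x = ((x.val : ℕ) : ZMod 2) := by
    rw [red2, ZMod.castHom_apply, ZMod.natCast_val]
  rw [h1, ZMod.natCast_eq_zero_iff] at hx
  obtain ⟨m, hm⟩ := hx
  refine ⟨(m : ZMod (2 ^ k)), ?_⟩
  have h2 : x = ((x.val : ℕ) : ZMod (2 ^ k)) := (ZMod.natCast_zmod_val x).symm
  rw [h2, hm]
  push_cast
  rfl

theorem two_pow_eq_zero (k : ℕ) : (2 : ZMod (2 ^ k)) ^ k = 0 := by
  have := ZMod.natCast_self (2 ^ k)
  push_cast at this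
  exact this

theorem isUnit_one_add_two_mul (k : ℕ) (y : ZMod (2 ^ k)) : IsUnit (1 + 2 * y) := by
  apply IsNilpotent.isUnit_one_add
  exact ⟨k, by rw [mul_pow, two_pow_eq_zero, zero_mul]⟩

theorem isUnit_of_red2_eq_one (k : ℕ) (hk : 1 ≤ k) (x : ZMod (2 ^ k))
    (hx : red2 k hk x = 1) : IsUnit x := by
  obtain ⟨y, hy⟩ := exists_eq_two_mul_of_red2_eq_zero k hk (x - 1) (by rw [map_sub, hx, map_one, sub_self])
  have : x = 1 + 2 * y := by rw [← hy]; ring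
  rw [this]
  exact isUnit_one_add_two_mul k y

/-- The element `2^(k-1)` of `ℤ/2ᵏ`. -/
def halfElt (k : ℕ) : ZMod (2 ^ k) := ((2 ^ (k - 1) : ℕ) : ZMod (2 ^ k))

theorem two_mul_halfElt (k : ℕ) (hk : 1 ≤ k) : 2 * halfElt k = 0 := by
  have h : ((2 * 2 ^ (k - 1) : ℕ) : ZMod (2 ^ k)) = 0 := by
    rw [ZMod.natCast_eq_zero_iff]
    rw [← pow_succ']
    have : k - 1 + 1 = k := by omega
    rw [this]
  rw [halfElt]
  push_cast at h ⊢
  exact h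

theorem halfElt_ne_zero (k : ℕ) (hk : 1 ≤ k) : halfElt k ≠ 0 := by
  rw [halfElt, Ne, ZMod.natCast_eq_zero_iff]
  intro h
  have := Nat.le_of_dvd (by positivity) h
  have h2 : 2 ^ (k - 1) < 2 ^ k := Nat.pow_lt_pow_right (by norm_num) (by omega)
  omega

theorem eq_zero_or_eq_halfElt (k : ℕ) (hk : 1 ≤ k) (x : ZMod (2 ^ k)) (hx : 2 * x = 0) :
    x = 0 ∨ x = halfElt k := by
  have h2 : x = ((x.val : ℕ) : ZMod (2 ^ k)) := (ZMod.natCast_zmod_val x).symm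
  have h3 : ((2 * x.val : ℕ) : ZMod (2 ^ k)) = 0 := by
    push_cast
    rw [← h2]
    exact hx
  rw [ZMod.natCast_eq_zero_iff] at h3
  have hlt : x.val < 2 ^ k := ZMod.val_lt x
  have hk' : 2 ^ k = 2 * 2 ^ (k - 1) := by
    rw [← pow_succ']
    congr 1
    omega
  have h3' : 2 * 2 ^ (k - 1) ∣ 2 * x.val := hk' ▸ h3
  have hlt' : x.val < 2 * 2 ^ (k - 1) := hk' ▸ hlt
  have h4 : 2 ^ (k - 1) ∣ x.val := (Nat.mul_dvd_mul_iff_left (by norm_num)).mp h3'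
  obtain ⟨m, hm⟩ := h4
  have hpos : 0 < 2 ^ (k - 1) := by positivity
  have hm2 : m < 2 := by
    by_contra hcon
    have : 2 * 2 ^ (k - 1) ≤ 2 ^ (k - 1) * m := by
      rw [mul_comm]
      exact Nat.mul_le_mul_left _ (by omega)
    omega
  interval_cases m
  · left
    rw [h2, hm]
    simp
  · right
    rw [h2, hm, halfElt]
    simp




set_option maxRecDepth 100000 in
set_option synthInstance.maxHeartbeats 2000000 in
set_option synthInstance.maxSize 100000 in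
/-- Finite check in `M₂(𝔽₂)`, entrywise. -/
theorem a4gl2_dec1 : ∀ t1 t2 t3 t4 a1 b1 c1 d1 a2 b2 c2 d2 : ZMod 2,
    !![a1, b1; c1, d1] * !![a1, b1; c1, d1] = (1 : Matrix (Fin 2) (Fin 2) (ZMod 2)) →
    !![a2, b2; c2, d2] * !![a2, b2; c2, d2] = (1 : Matrix (Fin 2) (Fin 2) (ZMod 2)) →
    !![t1, t2; t3, t4] * !![t1, t2; t3, t4] * !![t1, t2; t3, t4] =
      (1 : Matrix (Fin 2) (Fin 2) (ZMod 2)) →
    !![t1, t2; t3, t4] * !![a1, b1; c1, d1] = !![a2, b2; c2, d2] * !![t1, t2; t3, t4] →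
    !![t1, t2; t3, t4] * !![a2, b2; c2, d2] =
      (!![a1, b1; c1, d1] * !![a2, b2; c2, d2]) * !![t1, t2; t3, t4] →
    !![t1, t2; t3, t4] * (!![a1, b1; c1, d1] * !![a2, b2; c2, d2]) =
      !![a1, b1; c1, d1] * !![t1, t2; t3, t4] →
    !![a1, b1; c1, d1] = (1 : Matrix (Fin 2) (Fin 2) (ZMod 2)) ∧
    !![a2, b2; c2, d2] = (1 : Matrix (Fin 2) (Fin 2) (ZMod 2)) := by
  decide +kernel

theorem a4gl2_dec1' (τ A₁ A₂ : Matrix (Fin 2) (Fin 2) (ZMod 2))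
    (h1 : A₁ * A₁ = 1) (h2 : A₂ * A₂ = 1) (hτ : τ * τ * τ = 1)
    (c1 : τ * A₁ = A₂ * τ) (c2 : τ * A₂ = A₁ * A₂ * τ) (c3 : τ * (A₁ * A₂) = A₁ * τ) :
    A₁ = 1 ∧ A₂ = 1 := by
  have h := a4gl2_dec1 (τ 0 0) (τ 0 1) (τ 1 0) (τ 1 1) (A₁ 0 0) (A₁ 0 1) (A₁ 1 0) (A₁ 1 1)
    (A₂ 0 0) (A₂ 0 1) (A₂ 1 0) (A₂ 1 1)
  rw [← Matrix.eta_fin_two τ, ← Matrix.eta_fin_two A₁, ← Matrix.eta_fin_two A₂] at h
  exact h h1 h2 hτ c1 c2 c3

/-- The three involutions of `GL₂(𝔽₂)`. -/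
def a4P (j : Fin 3) : Matrix (Fin 2) (Fin 2) (ZMod 2) :=
  match j with
  | 0 => !![0, 1; 1, 0]
  | 1 => !![1, 1; 0, 1]
  | 2 => !![1, 0; 1, 1]

set_option maxRecDepth 100000 in
set_option synthInstance.maxHeartbeats 2000000 in
set_option synthInstance.maxSize 100000 in
theorem a4gl2_dec2 : ∀ t1 t2 t3 t4 a1 b1 c1 d1 a2 b2 c2 d2 : ZMod 2,
    !![t1, t2; t3, t4] * !![t1, t2; t3, t4] * !![t1, t2; t3, t4] =
      (1 : Matrix (Fin 2) (Fin 2) (ZMod 2)) →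
    !![t1, t2; t3, t4] * !![a1, b1; c1, d1] = !![a2, b2; c2, d2] * !![t1, t2; t3, t4] →
    !![t1, t2; t3, t4] * !![a2, b2; c2, d2] =
      (!![a1, b1; c1, d1] + !![a2, b2; c2, d2]) * !![t1, t2; t3, t4] →
    !![t1, t2; t3, t4] * (!![a1, b1; c1, d1] + !![a2, b2; c2, d2]) =
      !![a1, b1; c1, d1] * !![t1, t2; t3, t4] →
    !![a1, b1; c1, d1] ≠ (0 : Matrix (Fin 2) (Fin 2) (ZMod 2)) →
    t3 = 1 ∧ (t1 - 1) * (t4 - 1) - t2 * t3 = 1 ∧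
    ∃ σ : Equiv.Perm (Fin 3), !![a1, b1; c1, d1] = a4P (σ 0) ∧ !![a2, b2; c2, d2] = a4P (σ 1) ∧
      !![a1, b1; c1, d1] + !![a2, b2; c2, d2] = a4P (σ 2) := by
  decide +kernel

theorem a4gl2_dec2' (τ Y₁ Y₂ : Matrix (Fin 2) (Fin 2) (ZMod 2))
    (hτ : τ * τ * τ = 1) (c1 : τ * Y₁ = Y₂ * τ) (c2 : τ * Y₂ = (Y₁ + Y₂) * τ)
    (c3 : τ * (Y₁ + Y₂) = Y₁ * τ) (hne : Y₁ ≠ 0) :
    τ 1 0 = 1 ∧ (τ 0 0 - 1) * (τ 1 1 - 1) - τ 0 1 * τ 1 0 = 1 ∧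
    ∃ σ : Equiv.Perm (Fin 3), Y₁ = a4P (σ 0) ∧ Y₂ = a4P (σ 1) ∧ Y₁ + Y₂ = a4P (σ 2) := by
  have h := a4gl2_dec2 (τ 0 0) (τ 0 1) (τ 1 0) (τ 1 1) (Y₁ 0 0) (Y₁ 0 1) (Y₁ 1 0) (Y₁ 1 1)
    (Y₂ 0 0) (Y₂ 0 1) (Y₂ 1 0) (Y₂ 1 1)
  rw [← Matrix.eta_fin_two τ, ← Matrix.eta_fin_two Y₁, ← Matrix.eta_fin_two Y₂] at h
  exact h hτ c1 c2 c3 hne

/-- The additive embedding `𝔽₂ → ℤ/2ᵏ`, `1 ↦ 2^(k-1)`. -/
def lam2 (k : ℕ) (x : ZMod 2) : ZMod (2 ^ k) := if x = 0 then 0 else halfElt k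

theorem zmod2_cases (x : ZMod 2) : x = 0 ∨ x = 1 := by revert x; decide

@[simp] theorem lam2_zero (k : ℕ) : lam2 k 0 = 0 := by simp [lam2]

@[simp] theorem lam2_one (k : ℕ) : lam2 k 1 = halfElt k := by
  have : (1 : ZMod 2) ≠ 0 := by decide
  simp [lam2, this]

theorem lam2_add (k : ℕ) (hk : 1 ≤ k) (x y : ZMod 2) :
    lam2 k (x + y) = lam2 k x + lam2 k y := by
  have h11 : (1 : ZMod 2) + 1 = 0 := by decide
  have h2 : halfElt k + halfElt k = 0 := by rw [← two_mul]; exact two_mul_halfElt k hk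
  rcases zmod2_cases x with rfl | rfl <;> rcases zmod2_cases y with rfl | rfl <;>
    simp [h11, h2]

theorem lam2_injective (k : ℕ) (hk : 1 ≤ k) : Function.Injective (lam2 k) := by
  intro x y hxy
  have hne := halfElt_ne_zero k hk
  rcases zmod2_cases x with rfl | rfl <;> rcases zmod2_cases y with rfl | rfl
  · rfl
  · simp at hxy; exact absurd hxy.symm hne
  · simp at hxy; exact absurd hxy hne
  · rfl

theorem mul_lam2 (k : ℕ) (hk : 1 ≤ k) (a : ZMod (2 ^ k)) (x : ZMod 2) :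
    a * lam2 k x = lam2 k (red2 k hk a * x) := by
  rcases zmod2_cases x with rfl | rfl
  · simp
  · rw [mul_one, lam2_one]
    rcases zmod2_cases (red2 k hk a) with h | h
    · obtain ⟨y, hy⟩ := exists_eq_two_mul_of_red2_eq_zero k hk a h
      rw [h, lam2_zero, hy, mul_right_comm, two_mul_halfElt k hk, zero_mul]
    · obtain ⟨y, hy⟩ := exists_eq_two_mul_of_red2_eq_zero k hk (a - 1)
        (by rw [map_sub, h, map_one, sub_self])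
      have ha : a = 1 + 2 * y := by rw [← hy]; ring
      rw [h, lam2_one, ha, add_mul, one_mul, mul_right_comm, two_mul_halfElt k hk, zero_mul,
        add_zero]

theorem exists_lam2 (k : ℕ) (hk : 1 ≤ k) (x : ZMod (2 ^ k)) (hx : x + x = 0) :
    ∃ y, x = lam2 k y := by
  rcases eq_zero_or_eq_halfElt k hk x (by rw [two_mul]; exact hx) with h | h
  · exact ⟨0, by rw [h, lam2_zero]⟩
  · exact ⟨1, by rw [h, lam2_one]⟩

theorem mul_map_lam2 (k : ℕ) (hk : 1 ≤ k) (T : Matrix (Fin 2) (Fin 2) (ZMod (2 ^ k)))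
    (Y : Matrix (Fin 2) (Fin 2) (ZMod 2)) :
    T * Y.map (lam2 k) = ((T.map (red2 k hk)) * Y).map (lam2 k) := by
  ext i j
  simp only [Matrix.mul_apply, Matrix.map_apply, Fin.sum_univ_two]
  rw [lam2_add k hk, ← mul_lam2, ← mul_lam2]

theorem map_lam2_mul (k : ℕ) (hk : 1 ≤ k) (T : Matrix (Fin 2) (Fin 2) (ZMod (2 ^ k)))
    (Y : Matrix (Fin 2) (Fin 2) (ZMod 2)) :
    Y.map (lam2 k) * T = (Y * (T.map (red2 k hk))).map (lam2 k) := by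
  ext i j
  simp only [Matrix.mul_apply, Matrix.map_apply, Fin.sum_univ_two]
  rw [lam2_add k hk, mul_comm (Y i 0), mul_comm (Y i 1), ← mul_lam2, ← mul_lam2, mul_comm (T 0 j),
    mul_comm (T 1 j)]

theorem exists_map_lam2 (k : ℕ) (hk : 1 ≤ k) (N : Matrix (Fin 2) (Fin 2) (ZMod (2 ^ k)))
    (hN : N + N = 0) : ∃ Y : Matrix (Fin 2) (Fin 2) (ZMod 2), N = Y.map (lam2 k) := by
  have h : ∀ i j, ∃ y, N i j = lam2 k y := fun i j =>
    exists_lam2 k hk (N i j) (by simpa using congrFun (congrFun hN i) j)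
  choose Y hY using h
  exact ⟨Matrix.of Y, by ext i j; simp [hY i j]⟩

theorem exists_add_self_of_map_red2_eq_zero (k : ℕ) (hk : 1 ≤ k)
    (N : Matrix (Fin 2) (Fin 2) (ZMod (2 ^ k))) (hN : N.map (red2 k hk) = 0) :
    ∃ M : Matrix (Fin 2) (Fin 2) (ZMod (2 ^ k)), N = M + M := by
  have h : ∀ i j, ∃ y, N i j = 2 * y := fun i j =>
    exists_eq_two_mul_of_red2_eq_zero k hk (N i j) (by simpa using congrFun (congrFun hN i) j)
  choose M hM using h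
  exact ⟨Matrix.of M, by ext i j; simp [hM i j, two_mul]⟩

theorem cayley_hamilton_fin_two {R : Type*} [CommRing R] (N : Matrix (Fin 2) (Fin 2) R) :
    N * N = N.trace • N - N.det • (1 : Matrix (Fin 2) (Fin 2) R) := by
  ext i j
  fin_cases i <;> fin_cases j <;>
    simp [Matrix.mul_apply, Fin.sum_univ_two, Matrix.trace_fin_two, Matrix.det_fin_two] <;> ring

/-- The canonical involutions `1 + 2^(k-1) P_j` of `GL₂(ℤ/2ᵏ)`. -/
def a4M (k : ℕ) (j : Fin 3) : Matrix (Fin 2) (Fin 2) (ZMod (2 ^ k)) :=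
  1 + (a4P j).map (lam2 k)

end Cfsg.Agent.Helper48
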