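import Cfsg.Agent.Helper48.A4GL2a
import Cfsg.Agent.Helper48.A4GL2b

/-!
# `A₄`-subgroups of `GL₂(ℤ/2ᵏ)` are conjugate (helper48)
-/

set_option autoImplicit false

namespace Cfsg.Agent.Helper48

open Matrix

/-- The structure of an `A₄`-configuration of matrices in `M₂(ℤ/2ᵏ)`. -/
theorem a4gl2_core (k : ℕ) (hk : 1 ≤ k) (V₁ V₂ V₃ T : Matrix (Fin 2) (Fin 2) (ZMod (2 ^ k)))
    (h1 : V₁ * V₁ = 1) (h2 : V₂ * V₂ = 1) (h12 : V₁ * V₂ = V₃)
    (c1 : T * V₁ = V₂ * T) (c2 : T * V₂ = V₃ * T) (c3 : T * V₃ = V₁ * T)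
    (hT : T * T * T = 1) (hne : V₁ ≠ 1) :
    (∃ σ : Equiv.Perm (Fin 3), V₁ = a4M k (σ 0) ∧ V₂ = a4M k (σ 1) ∧ V₃ = a4M k (σ 2)) ∧
    IsUnit (T 1 0) ∧ T * T + T + 1 = 0 := by
  have hT' : T * (T * T) = 1 := by rw [← mul_assoc, hT]
  -- Step 1: reduction mod 2
  have hV12 : (red2 k hk).mapMatrix V₁ = 1 ∧ (red2 k hk).mapMatrix V₂ = 1 := by
    apply a4gl2_dec1' ((red2 k hk).mapMatrix T)
    · rw [← map_mul, h1, map_one]
    · rw [← map_mul, h2, map_one]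
    · rw [← map_mul, ← map_mul, hT, map_one]
    · rw [← map_mul, c1, map_mul]
    · rw [← map_mul, ← map_mul, h12, ← map_mul, c2]
    · rw [← map_mul, ← map_mul, h12, c3, map_mul]
  -- Step 2
  obtain ⟨N₁, hN₁⟩ : ∃ N₁, N₁ = V₁ - 1 := ⟨_, rfl⟩
  obtain ⟨N₂, hN₂⟩ : ∃ N₂, N₂ = V₂ - 1 := ⟨_, rfl⟩
  obtain ⟨N₃, hN₃⟩ : ∃ N₃, N₃ = V₃ - 1 := ⟨_, rfl⟩
  have hV₁ : V₁ = 1 + N₁ := by rw [hN₁]; abel
  have hV₂ : V₂ = 1 + N₂ := by rw [hN₂]; abel
  have hV₃ : V₃ = 1 + N₃ := by rw [hN₃]; abel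
  have hπN1 : N₁.map (red2 k hk) = 0 := by
    rw [← RingHom.mapMatrix_apply, hN₁, map_sub, hV12.1, map_one, sub_self]
  have hπN2 : N₂.map (red2 k hk) = 0 := by
    rw [← RingHom.mapMatrix_apply, hN₂, map_sub, hV12.2, map_one, sub_self]
  obtain ⟨M₁, hM₁⟩ := exists_add_self_of_map_red2_eq_zero k hk N₁ hπN1
  obtain ⟨M₂, hM₂⟩ := exists_add_self_of_map_red2_eq_zero k hk N₂ hπN2
  -- Step 3: relations for the `N`
  have hN1sq : N₁ * N₁ = -(N₁ + N₁) := by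
    have e : (V₁ - 1) * (V₁ - 1) = V₁ * V₁ - V₁ - V₁ + 1 := by noncomm_ring
    rw [hN₁, e, h1]
    abel
  have hN3eq : N₃ = N₁ + N₂ + N₁ * N₂ := by
    rw [hN₃, ← h12, hN₁, hN₂]
    noncomm_ring
  have d1 : T * N₁ = N₂ * T := by rw [hN₁, hN₂, mul_sub, sub_mul, c1, mul_one, one_mul]
  have d2 : T * N₂ = N₃ * T := by rw [hN₂, hN₃, mul_sub, sub_mul, c2, mul_one, one_mul]
  have d3 : T * N₃ = N₁ * T := by rw [hN₃, hN₁, mul_sub, sub_mul, c3, mul_one, one_mul]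
  have hN2 : N₂ = T * N₁ * (T * T) := by
    calc N₂ = N₂ * (T * (T * T)) := by rw [hT', mul_one]
      _ = (N₂ * T) * (T * T) := by rw [mul_assoc]
      _ = T * N₁ * (T * T) := by rw [d1]
  have hN3 : N₃ = T * N₂ * (T * T) := by
    calc N₃ = N₃ * (T * (T * T)) := by rw [hT', mul_one]
      _ = (N₃ * T) * (T * T) := by rw [mul_assoc]
      _ = T * N₂ * (T * T) := by rw [d2]
  -- Step 4: traces
  have htr2 : N₂.trace = N₁.trace := by
    rw [hN2, Matrix.trace_mul_comm, ← mul_assoc, hT, one_mul]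
  have htr3 : N₃.trace = N₂.trace := by
    rw [hN3, Matrix.trace_mul_comm, ← mul_assoc, hT, one_mul]
  have htr : N₃.trace = N₁.trace + N₂.trace + (N₁ * N₂).trace := by
    have := congrArg Matrix.trace hN3eq
    rwa [Matrix.trace_add, Matrix.trace_add] at this
  have htr12 : (N₁ * N₂).trace = 4 * (M₁ * M₂).trace := by
    rw [hM₁, hM₂, add_mul, mul_add, Matrix.trace_add, Matrix.trace_add]
    ring
  have hτ : N₁.trace = -4 * (M₁ * M₂).trace := by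
    rw [htr3, htr2, htr12] at htr
    linear_combination -htr
  -- Step 5: Cayley–Hamilton
  have e1 : (N₁.trace + 2) • N₁ = N₁.det • (1 : Matrix (Fin 2) (Fin 2) (ZMod (2 ^ k))) := by
    have hch := cayley_hamilton_fin_two N₁
    rw [hN1sq, eq_sub_iff_add_eq] at hch
    rw [add_smul, two_smul, ← hch]
    abel
  obtain ⟨w, hw⟩ := (isUnit_one_add_two_mul k (-(M₁ * M₂).trace)).exists_left_inv
  have hσ : N₁ + N₁ = (w * N₁.det) • (1 : Matrix (Fin 2) (Fin 2) (ZMod (2 ^ k))) := by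
    have e2 : (2 : ZMod (2 ^ k)) = w * (N₁.trace + 2) := by
      linear_combination (-2 : ZMod (2 ^ k)) * hw - w * hτ
    calc N₁ + N₁ = (2 : ZMod (2 ^ k)) • N₁ := (two_smul _ _).symm
      _ = (w * (N₁.trace + 2)) • N₁ := by rw [← e2]
      _ = w • ((N₁.trace + 2) • N₁) := mul_smul _ _ _
      _ = w • (N₁.det • (1 : Matrix (Fin 2) (Fin 2) (ZMod (2 ^ k)))) := by rw [e1]
      _ = (w * N₁.det) • (1 : Matrix (Fin 2) (Fin 2) (ZMod (2 ^ k))) := (mul_smul _ _ _).symm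
  obtain ⟨σ, hσdef⟩ : ∃ σ, σ = w * N₁.det := ⟨_, rfl⟩
  rw [← hσdef] at hσ
  -- Step 6
  have hσ2 : N₂ + N₂ = σ • (1 : Matrix (Fin 2) (Fin 2) (ZMod (2 ^ k))) := by
    calc N₂ + N₂ = T * (N₁ + N₁) * (T * T) := by rw [mul_add, add_mul, ← hN2]
      _ = T * (σ • 1) * (T * T) := by rw [hσ]
      _ = σ • (T * (T * T)) := by rw [Matrix.mul_smul, Matrix.smul_mul, mul_one]
      _ = σ • 1 := by rw [hT']
  have hσ3 : N₃ + N₃ = σ • (1 : Matrix (Fin 2) (Fin 2) (ZMod (2 ^ k))) := by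
    calc N₃ + N₃ = T * (N₂ + N₂) * (T * T) := by rw [mul_add, add_mul, ← hN3]
      _ = T * (σ • 1) * (T * T) := by rw [hσ2]
      _ = σ • (T * (T * T)) := by rw [Matrix.mul_smul, Matrix.smul_mul, mul_one]
      _ = σ • 1 := by rw [hT']
  -- Step 7
  have e2 : N₃ + N₃ = (N₁ + N₁) + (N₂ + N₂) + (N₁ + N₁) * N₂ := by
    rw [hN3eq]
    noncomm_ring
  rw [hσ3, hσ, hσ2, Matrix.smul_mul, one_mul] at e2
  have e3 : σ • V₂ = 0 := by
    rw [hV₂, smul_add]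
    apply add_left_cancel (a := σ • (1 : Matrix (Fin 2) (Fin 2) (ZMod (2 ^ k))))
    rw [add_zero, ← add_assoc]
    exact e2.symm
  have e4 : σ • (1 : Matrix (Fin 2) (Fin 2) (ZMod (2 ^ k))) = 0 := by
    calc σ • (1 : Matrix (Fin 2) (Fin 2) (ZMod (2 ^ k))) = σ • (V₂ * V₂) := by rw [h2]
      _ = (σ • V₂) * V₂ := (Matrix.smul_mul _ _ _).symm
      _ = 0 := by rw [e3, zero_mul]
  rw [e4] at hσ hσ2 hσ3
  -- Step 8
  have hN12 : N₁ * N₂ = 0 := by rw [hM₁, add_mul, ← mul_add, hσ2, mul_zero]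
  have hN3eq' : N₃ = N₁ + N₂ := by rw [hN3eq, hN12, add_zero]
  -- Step 9
  obtain ⟨Y₁, hY₁⟩ := exists_map_lam2 k hk N₁ hσ
  obtain ⟨Y₂, hY₂⟩ := exists_map_lam2 k hk N₂ hσ2
  have hY₃ : N₃ = (Y₁ + Y₂).map (lam2 k) := by
    rw [hN3eq', hY₁, hY₂, Matrix.map_add _ (lam2_add k hk)]
  have hinj := Matrix.map_injective (m := Fin 2) (n := Fin 2) (lam2_injective k hk)
  have r1 : T.map (red2 k hk) * Y₁ = Y₂ * T.map (red2 k hk) := by
    rw [hY₁, hY₂, mul_map_lam2 k hk, map_lam2_mul k hk] at d1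
    exact hinj d1
  have r2 : T.map (red2 k hk) * Y₂ = (Y₁ + Y₂) * T.map (red2 k hk) := by
    rw [hY₃, hY₂, mul_map_lam2 k hk, map_lam2_mul k hk] at d2
    exact hinj d2
  have r3 : T.map (red2 k hk) * (Y₁ + Y₂) = Y₁ * T.map (red2 k hk) := by
    rw [hY₃, hY₁, mul_map_lam2 k hk, map_lam2_mul k hk] at d3
    exact hinj d3
  have hYne : Y₁ ≠ 0 := by
    rintro rfl
    apply hne
    rw [hV₁, hY₁]
    ext i j
    simp
  have hτ3 : T.map (red2 k hk) * T.map (red2 k hk) * T.map (red2 k hk) = 1 := by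
    rw [← RingHom.mapMatrix_apply, ← map_mul, ← map_mul, hT, map_one]
  -- Step 10
  obtain ⟨ht3, hdet, σp, hP1, hP2, hP3⟩ := a4gl2_dec2' _ Y₁ Y₂ hτ3 r1 r2 r3 hYne
  refine ⟨⟨σp, ?_, ?_, ?_⟩, ?_, ?_⟩
  · rw [hV₁, hY₁, hP1, a4M]
  · rw [hV₂, hY₂, hP2, a4M]
  · rw [hV₃, hY₃, hP3, a4M]
  · exact isUnit_of_red2_eq_one k hk _ ht3
  · have hu : IsUnit (T - 1) := by
      rw [Matrix.isUnit_iff_isUnit_det, Matrix.det_fin_two]
      apply isUnit_of_red2_eq_one k hk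
      simp only [Matrix.map_apply] at hdet
      simpa using hdet
    have e5 : (T - 1) * (T * T + T + 1) = 0 := by
      have : (T - 1) * (T * T + T + 1) = T * T * T - 1 := by noncomm_ring
      rw [this, hT, sub_self]
    exact hu.mul_right_eq_zero.mp e5

/-- The companion matrix of `X² + X + 1`. -/
def a4C (k : ℕ) : Matrix (Fin 2) (Fin 2) (ZMod (2 ^ k)) := !![0, -1; 1, -1]

theorem a4gl2_conj_companion (k : ℕ) (T : Matrix (Fin 2) (Fin 2) (ZMod (2 ^ k)))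
    (hq : T * T + T + 1 = 0) :
    T * !![1, T 0 0; 0, T 1 0] = !![1, T 0 0; 0, T 1 0] * a4C k := by
  have e00 := congrFun (congrFun hq 0) 0
  have e10 := congrFun (congrFun hq 1) 0
  simp [Matrix.mul_apply, Fin.sum_univ_two] at e00 e10
  ext i j
  fin_cases i <;> fin_cases j <;> simp [a4C, Matrix.mul_apply, Fin.sum_univ_two]
  · linear_combination e00
  · linear_combination e10

theorem set_perm_fin_three {α : Type*} (f : Fin 3 → α) (σ : Equiv.Perm (Fin 3)) :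
    ({f (σ 0), f (σ 1), f (σ 2)} : Set α) = {f 0, f 1, f 2} := by
  have h3 : ∀ g : Fin 3 → α, ({g 0, g 1, g 2} : Set α) = Set.range g := by
    intro g
    ext x
    constructor
    · rintro (rfl | rfl | rfl) <;> exact ⟨_, rfl⟩
    · rintro ⟨j, rfl⟩
      fin_cases j <;> simp
  rw [h3 f, ← σ.surjective.range_comp f, ← h3]
  rfl

theorem a4gl2_exists_conj (k : ℕ) (hk : 1 ≤ k) : ∃ c : GL (Fin 2) (ZMod (2 ^ k)),
    ∀ v₁ v₂ v₃ t : GL (Fin 2) (ZMod (2 ^ k)), A4Data v₁ v₂ v₃ t →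
      (Units.val '' ({v₁, v₂, v₃} : Set (GL (Fin 2) (ZMod (2 ^ k))))) =
        {a4M k 0, a4M k 1, a4M k 2} ∧
      ∃ g : GL (Fin 2) (ZMod (2 ^ k)), t * g = g * c := by
  have hdetC : IsUnit (a4C k).det := by
    rw [a4C, Matrix.det_fin_two_of]
    simp
  refine ⟨Matrix.GeneralLinearGroup.mk'' (a4C k) hdetC, ?_⟩
  intro v₁ v₂ v₃ t hd
  have hval : ∀ a b : GL (Fin 2) (ZMod (2 ^ k)),
      ((a * b : GL (Fin 2) (ZMod (2 ^ k))) : Matrix (Fin 2) (Fin 2) (ZMod (2 ^ k))) =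
        (a : Matrix (Fin 2) (Fin 2) (ZMod (2 ^ k))) * b := fun a b => Units.val_mul a b
  have hone : ((1 : GL (Fin 2) (ZMod (2 ^ k))) : Matrix (Fin 2) (Fin 2) (ZMod (2 ^ k))) = 1 :=
    Units.val_one
  obtain ⟨⟨σ, e1, e2, e3⟩, hu, hq⟩ := a4gl2_core k hk (v₁ : Matrix (Fin 2) (Fin 2) (ZMod (2 ^ k)))
    v₂ v₃ t (by rw [← hval, hd.sq1, hone]) (by rw [← hval, hd.sq2, hone])
    (by rw [← hval, hd.mul12]) (by rw [← hval, hd.c1, hval]) (by rw [← hval, hd.c2, hval])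
    (by rw [← hval, hd.c3, hval]) (by rw [← hval, ← hval, hd.cube, hone])
    (fun h => hd.ne (Units.ext (h.trans hone.symm)))
  refine ⟨?_, ?_⟩
  · rw [Set.image_insert_eq, Set.image_insert_eq, Set.image_singleton, e1, e2, e3]
    exact set_perm_fin_three (a4M k) σ
  · have hdetG : IsUnit (!![1, (t : Matrix (Fin 2) (Fin 2) (ZMod (2 ^ k))) 0 0;
        0, (t : Matrix (Fin 2) (Fin 2) (ZMod (2 ^ k))) 1 0]).det := by
      rw [Matrix.det_fin_two_of]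
      simpa using hu
    refine ⟨Matrix.GeneralLinearGroup.mk'' _ hdetG, ?_⟩
    apply Units.ext
    rw [hval, hval]
    exact a4gl2_conj_companion k _ hq

/-- For `k ≥ 1`, any two subgroups of `GL₂(ℤ/2ᵏ)` isomorphic to `A₄` are conjugate. -/
theorem a4_subgroups_gl2_conj (k : ℕ) (hk : 1 ≤ k)
    (H₁ H₂ : Subgroup (GL (Fin 2) (ZMod (2 ^ k))))
    (e₁ : H₁ ≃* alternatingGroup (Fin 4)) (e₂ : H₂ ≃* alternatingGroup (Fin 4)) :
    ∃ g : GL (Fin 2) (ZMod (2 ^ k)), H₂ = H₁.map (MulAut.conj g).toMonoidHom := by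
  obtain ⟨c, hc⟩ := a4gl2_exists_conj k hk
  obtain ⟨v₁, v₂, v₃, t, hd, hH₁⟩ := exists_a4Data_of_mulEquiv H₁ e₁
  obtain ⟨v₁', v₂', v₃', t', hd', hH₂⟩ := exists_a4Data_of_mulEquiv H₂ e₂
  obtain ⟨-, g₁, hg₁⟩ := hc _ _ _ _ hd
  obtain ⟨hS', g₂, hg₂⟩ := hc _ _ _ _ hd'
  refine ⟨g₂ * g₁⁻¹, ?_⟩
  obtain ⟨φ, hφ⟩ : ∃ φ, φ = (MulAut.conj (g₂ * g₁⁻¹)).toMonoidHom := ⟨_, rfl⟩
  have hφt : φ t = t' := by
    have h1 : g₁⁻¹ * t * g₁ = c := by
      rw [mul_assoc, hg₁, ← mul_assoc, inv_mul_cancel, one_mul]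
    have h2 : t' = g₂ * c * g₂⁻¹ := by rw [← hg₂, mul_assoc, mul_inv_cancel, mul_one]
    rw [hφ, h2, ← h1]
    simp only [MulEquiv.toMonoidHom_eq_coe, MonoidHom.coe_coe, MulAut.conj_apply]
    group
  have hφinj : Function.Injective φ := by
    rw [hφ]
    exact (MulAut.conj (g₂ * g₁⁻¹)).injective
  have hd'' := hd.map φ hφinj
  obtain ⟨hS'', -⟩ := hc _ _ _ _ hd''
  have hset : ({φ v₁, φ v₂, φ v₃} : Set (GL (Fin 2) (ZMod (2 ^ k)))) = {v₁', v₂', v₃'} :=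
    Units.val_injective.image_injective (hS''.trans hS'.symm)
  rw [← hφ, hH₁, hH₂, MonoidHom.map_closure, Set.image_insert_eq, hφt, Set.image_insert_eq,
    Set.image_insert_eq, Set.image_singleton, hset]

end Cfsg.Agent.Helper48
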