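import Mathlib
import Cfsg.Agent.Helper48.CoprimeGen3

/-!
# Fixed points of automorphisms and coprime generation (helper48)

* `fixSub e` : the subgroup of fixed points of an automorphism `e`.
* `resHom X D hinv` : restriction of a group `D` of automorphisms to an invariant subgroup `X`.
* `le_of_fix_inf_le` : coprime generation for a noncyclic elementary abelian `p`-group of
  automorphisms of a `p'`-group.
-/

set_option autoImplicit false

namespace Cfsg.Agent.Helper48

open Subgroup

section AutFix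

variable {W : Type*} [Group W]

/-- The subgroup of fixed points of an automorphism. -/
def fixSub (e : MulAut W) : Subgroup W where
  carrier := {x | e x = x}
  mul_mem' := by
    intro a b ha hb
    show e (a * b) = a * b
    rw [map_mul, show e a = a from ha, show e b = b from hb]
  one_mem' := map_one e
  inv_mem' := by
    intro a ha
    show e a⁻¹ = a⁻¹
    rw [map_inv, show e a = a from ha]

theorem mem_fixSub {e : MulAut W} {x : W} : x ∈ fixSub e ↔ e x = x := Iff.rfl

theorem mulAut_pow_apply_of_fixed {e : MulAut W} {x : W} (h : e x = x) (n : ℕ) :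
    (e ^ n) x = x := by
  induction n with
  | zero => rw [pow_zero]; rfl
  | succ n ih => rw [pow_succ, MulAut.mul_apply, h, ih]

theorem mulAut_inv_apply_of_fixed {e : MulAut W} {x : W} (h : e x = x) : e⁻¹ x = x := by
  have : e⁻¹ (e x) = x := by
    rw [← MulAut.mul_apply, inv_mul_cancel]; rfl
  rwa [h] at this

/-- `fixSub e` is invariant under every automorphism commuting with `e`. -/
theorem apply_mem_fixSub_of_commute {e d : MulAut W} (hde : d * e = e * d) {x : W}
    (hx : x ∈ fixSub e) : d x ∈ fixSub e := by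
  rw [mem_fixSub] at hx ⊢
  have : (e * d) x = (d * e) x := by rw [hde]
  rw [MulAut.mul_apply, MulAut.mul_apply, hx] at this
  exact this

/-- Restriction of a group of automorphisms to an invariant subgroup. -/
def resHom (X : Subgroup W) (D : Subgroup (MulAut W)) (hinv : ∀ d ∈ D, ∀ x ∈ X, d x ∈ X) :
    D →* MulAut X where
  toFun d :=
    { toFun := fun x => ⟨(d : MulAut W) (x : W), hinv d d.2 x x.2⟩
      invFun := fun x => ⟨(d : MulAut W)⁻¹ (x : W), hinv _ (D.inv_mem d.2) x x.2⟩
      left_inv := by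
        intro x
        apply Subtype.ext
        show (d : MulAut W)⁻¹ ((d : MulAut W) (x : W)) = x
        rw [← MulAut.mul_apply, inv_mul_cancel]; rfl
      right_inv := by
        intro x
        apply Subtype.ext
        show (d : MulAut W) ((d : MulAut W)⁻¹ (x : W)) = x
        rw [← MulAut.mul_apply, mul_inv_cancel]; rfl
      map_mul' := by
        intro x y
        apply Subtype.ext
        show (d : MulAut W) ((x : W) * (y : W)) = (d : MulAut W) x * (d : MulAut W) y
        rw [map_mul] }
  map_one' := by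
    apply MulEquiv.ext
    intro x
    apply Subtype.ext
    rfl
  map_mul' := by
    intro d e
    apply MulEquiv.ext
    intro x
    apply Subtype.ext
    rfl

theorem resHom_apply (X : Subgroup W) (D : Subgroup (MulAut W))
    (hinv : ∀ d ∈ D, ∀ x ∈ X, d x ∈ X) (d : D) (x : X) :
    ((resHom X D hinv d x : X) : W) = (d : MulAut W) (x : W) := rfl

theorem resHom_eq_one_iff (X : Subgroup W) (D : Subgroup (MulAut W))
    (hinv : ∀ d ∈ D, ∀ x ∈ X, d x ∈ X) (d : D) :
    resHom X D hinv d = 1 ↔ ∀ x ∈ X, (d : MulAut W) x = x := by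
  constructor
  · intro h x hx
    have := congrArg (fun f : MulAut X => ((f ⟨x, hx⟩ : X) : W)) h
    exact this
  · intro h
    apply MulEquiv.ext
    intro x
    apply Subtype.ext
    exact h x x.2

/-- **Coprime generation for automorphisms**: let `E₀` be a commutative group of automorphisms of
exponent `p` and order at least `p ^ 2` of the finite `p'`-group `W`, and let `X`, `H` be
`E₀`-invariant subgroups. If `H` contains the fixed points in `X` of all nonidentity elements of
`E₀` then `X ≤ H`. -/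
theorem le_of_fix_inf_le [Finite W] {p : ℕ} [Fact p.Prime] (hW : ¬ p ∣ Nat.card W)
    (E₀ : Subgroup (MulAut W)) (hcomm : ∀ d ∈ E₀, ∀ e ∈ E₀, d * e = e * d)
    (hexp : ∀ e ∈ E₀, e ^ p = 1) (hcard : p ^ 2 ≤ Nat.card E₀)
    (X H : Subgroup W) (hX : ∀ e ∈ E₀, ∀ x ∈ X, e x ∈ X) (hHinv : ∀ e ∈ E₀, ∀ x ∈ H, e x ∈ H)
    (hH : ∀ e ∈ E₀, e ≠ 1 → X ⊓ fixSub e ≤ H) : X ≤ H := by
  obtain ⟨l, hl⟩ : ∃ l : W →* Equiv.Perm W, ∀ w y, l w y = w * y :=
    ⟨MulAction.toPermHom W W, fun w y => rfl⟩
  obtain ⟨μ, hμ⟩ : ∃ μ : MulAut W →* Equiv.Perm W, ∀ e y, μ e y = e y :=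
    ⟨MulAut.toPerm W, fun e y => rfl⟩
  have hlinj : Function.Injective l := by
    intro w w' h
    have := congrArg (fun f : Equiv.Perm W => f 1) h
    simpa [hl] using this
  have hμinj : Function.Injective μ := by
    intro e e' h
    apply MulEquiv.ext
    intro y
    have := congrArg (fun f : Equiv.Perm W => f y) h
    simpa [hμ] using this
  have hconj : ∀ (e : MulAut W) (w : W), μ e * l w * (μ e)⁻¹ = l (e w) := by
    intro e w
    apply Equiv.ext
    intro y
    rw [← map_inv]
    simp only [Equiv.Perm.mul_apply, hl, hμ, map_mul]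
    congr 1
    rw [← MulAut.mul_apply, mul_inv_cancel]; rfl
  have hK : ¬ p ∣ Nat.card (X.map l) := by
    rw [Subgroup.card_map_of_injective hlinj]
    exact fun h => hW (h.trans (Subgroup.card_subgroup_dvd_card X))
  have hAK : E₀.map μ ≤ normalizer ((X.map l : Subgroup (Equiv.Perm W)) : Set (Equiv.Perm W)) := by
    rintro _ ⟨e, he, rfl⟩
    rw [Subgroup.mem_normalizer_iff]
    intro h
    constructor
    · rintro ⟨x, hx, rfl⟩
      rw [hconj]
      exact ⟨e x, hX e he x hx, rfl⟩
    · rintro ⟨x, hx, hxe⟩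
      have h1 : h = μ e⁻¹ * l x * (μ e⁻¹)⁻¹ := by
        rw [hxe, map_inv]; group
      rw [h1, hconj]
      exact ⟨e⁻¹ x, hX _ (E₀.inv_mem he) x hx, rfl⟩
  have hHK : E₀.map μ ≤ normalizer ((H.map l : Subgroup (Equiv.Perm W)) : Set (Equiv.Perm W)) := by
    rintro _ ⟨e, he, rfl⟩
    rw [Subgroup.mem_normalizer_iff]
    intro h
    constructor
    · rintro ⟨x, hx, rfl⟩
      rw [hconj]
      exact ⟨e x, hHinv e he x hx, rfl⟩
    · rintro ⟨x, hx, hxe⟩
      have h1 : h = μ e⁻¹ * l x * (μ e⁻¹)⁻¹ := by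
        rw [hxe, map_inv]; group
      rw [h1, hconj]
      exact ⟨e⁻¹ x, hHinv _ (E₀.inv_mem he) x hx, rfl⟩
  have key : X.map l ≤ H.map l ⊔ E₀.map μ := by
    apply le_of_inf_centralizer_le_of_noncyclic (p := p) (X.map l) hK (E₀.map μ) hAK
    · rintro _ ⟨d, hd, rfl⟩ _ ⟨e, he, rfl⟩
      rw [← map_mul, ← map_mul, hcomm d hd e he]
    · rintro _ ⟨e, he, rfl⟩
      rw [← map_pow, hexp e he, map_one]
    · rw [Subgroup.card_map_of_injective hμinj]; exact hcard
    · exact le_sup_right
    · rintro _ ⟨e, he, rfl⟩ he1 g hg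
      obtain ⟨⟨x, hx, rfl⟩, hg2⟩ := Subgroup.mem_inf.mp hg
      rw [mem_centralizer_singleton_iff] at hg2
      have he1' : e ≠ 1 := by
        rintro rfl
        exact he1 (map_one μ)
      have hfixx : e x = x := by
        have := congrArg (fun f : Equiv.Perm W => f 1) hg2
        simp only [Equiv.Perm.mul_apply, hl, hμ, map_one, mul_one] at this
        exact this.symm
      exact le_sup_left (a := H.map l) ⟨x, hH e he he1' (Subgroup.mem_inf.mpr ⟨hx, hfixx⟩), rfl⟩
  intro x hx
  have h1 : l x ∈ ((H.map l ⊔ E₀.map μ : Subgroup (Equiv.Perm W)) : Set (Equiv.Perm W)) :=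
    key ⟨x, hx, rfl⟩
  rw [Subgroup.coe_mul_of_right_le_normalizer_left (H.map l) (E₀.map μ) hHK] at h1
  obtain ⟨_, ⟨h, hh, rfl⟩, _, ⟨e, he, rfl⟩, hprod⟩ := Set.mem_mul.mp h1
  have := congrArg (fun f : Equiv.Perm W => f 1) hprod
  simp only [Equiv.Perm.mul_apply, hl, hμ, map_one, mul_one] at this
  rw [← this]
  exact hh

end AutFix

end Cfsg.Agent.Helper48
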