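import Mathlib
import Cfsg.Agent.Helper48.AutFix
import Cfsg.Agent.S0016
import Cfsg.Agent.Helper5.QuatRecog
import Cfsg.Agent.Helper54.Basic

/-!
# Automorphisms of odd prime power order of 2-groups with at most one involution (helper48)

`autQ`: a `p`-group `D` (`p` odd) of automorphisms of a finite 2-group `X` with at most one
involution is trivial, unless `p = 3`, `|X| = 8`, `X` is not commutative, `|D| = 3` and the fixed
points of `D` square to one.
-/

set_option autoImplicit false

namespace Cfsg.Agent.Helper48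

open Subgroup

section AutQ

variable {X : Type*} [Group X]

theorem card_fixSub_of_pgroup [Finite X] {p : ℕ} [Fact p.Prime]
    (d : MulAut X) (hd : IsPGroup p (zpowers d)) :
    Nat.card X ≡ Nat.card (fixSub d) [MOD p] := by
  have h := hd.card_modEq_card_fixedPoints X
  have heq : (MulAction.fixedPoints (zpowers d) X) = (fixSub d : Set X) := by
    ext x
    rw [MulAction.mem_fixedPoints]
    constructor
    · intro hx
      exact hx ⟨d, mem_zpowers d⟩
    · intro hx s
      have hle : zpowers d ≤ MulAction.stabilizer (MulAut X) x := by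
        rw [zpowers_le]
        exact hx
      exact hle s.2
  rw [heq] at h
  exact h

/-- Counting lemma for groups of order eight with at most one involution. -/
theorem autQ_eight [Finite X] (hcard : Nat.card X = 8)
    (hinv : ∀ s t : X, orderOf s = 2 → orderOf t = 2 → s = t)
    {p : ℕ} [Fact p.Prime] (hp : p ≠ 2) (D : Subgroup (MulAut X)) (hD : IsPGroup p D) :
    D = ⊥ ∨ (p = 3 ∧ Nat.card D = 3 ∧ ∀ x : X, (∀ d ∈ D, d x = x) → x ^ 2 = 1) := by
  classical
  have hp' : p.Prime := Fact.out
  have : Fact (Nat.Prime 2) := ⟨Nat.prime_two⟩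
  obtain ⟨z, hz⟩ := exists_prime_orderOf_dvd_card' (G := X) 2 (by rw [hcard]; norm_num)
  have hz1 : z ≠ 1 := by
    rintro rfl
    rw [orderOf_one] at hz
    norm_num at hz
  have hzz : z ^ 2 = 1 := by rw [← hz]; exact pow_orderOf_eq_one z
  have hfz : ∀ d : MulAut X, d z = z := fun d =>
    hinv _ _ (by rw [MulEquiv.orderOf_eq, hz]) hz
  have key : ∀ d ∈ D, d ≠ 1 → p = 3 ∧ ∀ x, d x = x → x = 1 ∨ x = z := by
    intro d hd hd1
    have hdP : IsPGroup p (zpowers d) := hD.to_le (zpowers_le.mpr hd)
    have hmod := card_fixSub_of_pgroup d hdP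
    rw [hcard] at hmod
    have hdvd : Nat.card (fixSub d) ∣ 2 ^ 3 := by
      have := Subgroup.card_subgroup_dvd_card (fixSub d)
      rw [hcard] at this
      exact this
    have hne8 : Nat.card (fixSub d) ≠ 8 := by
      intro h
      have htop : fixSub d = ⊤ := Subgroup.eq_top_of_card_eq _ (by rw [h, hcard])
      apply hd1
      apply MulEquiv.ext
      intro x
      have : x ∈ fixSub d := by rw [htop]; exact mem_top x
      exact this
    have hzmem : z ∈ fixSub d := hfz d
    have h2dvd : 2 ∣ Nat.card (fixSub d) := by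
      have := orderOf_dvd_natCard (⟨z, hzmem⟩ : fixSub d)
      rwa [Subgroup.orderOf_mk, hz] at this
    obtain ⟨j, hj, hjeq⟩ := (Nat.dvd_prime_pow Nat.prime_two).mp hdvd
    have hmod' : p ∣ 8 - Nat.card (fixSub d) :=
      (Nat.modEq_iff_dvd' (Nat.le_of_dvd (by norm_num) hdvd)).mp hmod.symm
    rw [hjeq] at hmod' h2dvd hne8
    interval_cases j
    · norm_num at h2dvd
    · have h6 : p ∣ 2 * 3 := by simpa using hmod'
      rcases (Nat.Prime.dvd_mul hp').mp h6 with h | h
      · exact absurd ((Nat.prime_dvd_prime_iff_eq hp' Nat.prime_two).mp h) hp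
      · refine ⟨(Nat.prime_dvd_prime_iff_eq hp' Nat.prime_three).mp h, ?_⟩
        intro x hx
        by_contra hcon
        push Not at hcon
        obtain ⟨y, -, hy⟩ := (Nat.card_eq_two_iff' (1 : fixSub d)).mp (by rw [hjeq]; norm_num)
        have h1 : (⟨x, hx⟩ : fixSub d) = y := hy _ (fun h => hcon.1 (congrArg Subtype.val h))
        have h2 : (⟨z, hzmem⟩ : fixSub d) = y := hy _ (fun h => hz1 (congrArg Subtype.val h))
        exact hcon.2 (congrArg Subtype.val (h1.trans h2.symm))
    · have h4 : p ∣ 2 * 2 := by simpa using hmod'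
      rcases (Nat.Prime.dvd_mul hp').mp h4 with h | h <;>
        exact absurd ((Nat.prime_dvd_prime_iff_eq hp' Nat.prime_two).mp h) hp
    · norm_num at hne8
  by_cases hbot : D = ⊥
  · exact Or.inl hbot
  right
  obtain ⟨d₀, hd₀, hd₀1⟩ : ∃ d ∈ D, d ≠ 1 := by
    by_contra hcon
    push Not at hcon
    exact hbot ((Subgroup.eq_bot_iff_forall _).mpr hcon)
  have hp3 := (key d₀ hd₀ hd₀1).1
  refine ⟨hp3, ?_, ?_⟩
  · obtain ⟨x₁, hx₁1, hx₁z⟩ : ∃ x₁ : X, x₁ ≠ 1 ∧ x₁ ≠ z := by
      by_contra hcon
      push Not at hcon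
      have hinj : Function.Injective (fun x : X => if x = 1 then (0 : Fin 2) else 1) := by
        intro x y hxy
        by_cases hx : x = 1 <;> by_cases hy : y = 1
        · rw [hx, hy]
        · simp [hx, hy] at hxy
        · simp [hx, hy] at hxy
        · rw [hcon x hx, hcon y hy]
      have := Nat.card_le_card_of_injective _ hinj
      rw [hcard, Nat.card_fin] at this
      omega
    have hfinD : Finite D := inferInstance
    obtain ⟨g, hg⟩ : ∃ g : Option (Option D) → X, g = fun o =>
        match o with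
        | none => 1
        | some none => z
        | some (some d) => (d : MulAut X) x₁ := ⟨_, rfl⟩
    have hginj : Function.Injective g := by
      intro o o' h
      rw [hg] at h
      rcases o with _ | _ | d <;> rcases o' with _ | _ | d'
      · rfl
      · exact absurd h.symm hz1
      · exfalso
        have h' : (d' : MulAut X) x₁ = 1 := h.symm
        rw [MulEquiv.map_eq_one_iff] at h'
        exact hx₁1 h'
      · exact absurd h hz1
      · rfl
      · exfalso
        have h' : (d' : MulAut X) z = (d' : MulAut X) x₁ := by rw [hfz]; exact h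
        exact hx₁z ((d' : MulAut X).injective h').symm
      · exfalso
        have h' : (d : MulAut X) x₁ = 1 := h
        rw [MulEquiv.map_eq_one_iff] at h'
        exact hx₁1 h'
      · exfalso
        have h' : (d : MulAut X) x₁ = (d : MulAut X) z := by rw [hfz]; exact h
        exact hx₁z ((d : MulAut X).injective h')
      · have h' : (d : MulAut X) x₁ = (d' : MulAut X) x₁ := h
        have h2 : ((d' : MulAut X)⁻¹ * (d : MulAut X)) x₁ = x₁ := by
          rw [MulAut.mul_apply, h', ← MulAut.mul_apply, inv_mul_cancel]; rfl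
        have h3 : (d' : MulAut X)⁻¹ * (d : MulAut X) = 1 := by
          by_contra hne
          rcases (key _ (D.mul_mem (D.inv_mem d'.2) d.2) hne).2 x₁ h2 with h4 | h4
          · exact hx₁1 h4
          · exact hx₁z h4
        have h4 : (d : MulAut X) = d' := by
          rw [inv_mul_eq_one] at h3
          exact h3.symm
        rw [Subtype.ext h4]
    have hle := Nat.card_le_card_of_injective g hginj
    rw [Finite.card_option, Finite.card_option, hcard] at hle
    obtain ⟨n, hn⟩ := IsPGroup.iff_card.mp hD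
    rw [hp3] at hn
    have hn1 : n ≤ 1 := by
      by_contra hlt
      have : 3 ^ 2 ≤ 3 ^ n := Nat.pow_le_pow_right (by norm_num) (by omega)
      omega
    interval_cases n
    · exfalso
      apply hbot
      rw [← Subgroup.card_eq_one]
      simpa using hn
    · simpa using hn
  · intro x hx
    rcases (key d₀ hd₀ hd₀1).2 x (hx d₀ hd₀) with rfl | rfl
    · exact one_pow 2
    · exact hzz

/-- Automorphisms of odd prime power order of a generalized quaternion group of order at least
sixteen are trivial. -/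
theorem autQ_quat_large [Finite X] (hX : IsPGroup 2 X) (k : ℕ) (hk : 2 ≤ k)
    (e : X ≃* QuaternionGroup (2 ^ k)) {p : ℕ} [Fact p.Prime] (hp : p ≠ 2) (d : MulAut X) (s : ℕ)
    (hd : d ^ (p ^ s) = 1) : d = 1 := by
  have hp' : p.Prime := Fact.out
  have : Fact (Nat.Prime 2) := ⟨Nat.prime_two⟩
  have hn : NeZero (2 ^ k) := ⟨by positivity⟩
  have hn2 : NeZero (2 * 2 ^ k) := ⟨by positivity⟩
  obtain ⟨a₀, ha₀⟩ : ∃ a₀ : X, a₀ = e.symm (QuaternionGroup.a 1) := ⟨_, rfl⟩
  obtain ⟨x₀, hx₀⟩ : ∃ x₀ : X, x₀ = e.symm (QuaternionGroup.xa 0) := ⟨_, rfl⟩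
  have hea : ∀ i : ZMod (2 * 2 ^ k), e.symm (QuaternionGroup.a i) = a₀ ^ i.val := by
    intro i
    rw [ha₀, ← map_pow, QuaternionGroup.a_one_pow, ZMod.natCast_zmod_val]
  have hex : ∀ i : ZMod (2 * 2 ^ k), e.symm (QuaternionGroup.xa i) = x₀ * a₀ ^ i.val := by
    intro i
    rw [hx₀, ← hea, ← map_mul, QuaternionGroup.xa_mul_a, zero_add]
  have hord : orderOf a₀ = 2 * 2 ^ k := by
    rw [ha₀, MulEquiv.orderOf_eq, QuaternionGroup.orderOf_a_one]
  have h8 : 8 ≤ 2 * 2 ^ k := by
    have : 2 ^ 2 ≤ 2 ^ k := Nat.pow_le_pow_right (by norm_num) hk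
    omega
  have hA : ∀ α : MulAut X, α a₀ ∈ zpowers a₀ := by
    intro α
    have hordα : orderOf (α a₀) = 2 * 2 ^ k := by rw [MulEquiv.orderOf_eq, hord]
    rcases hcase : e (α a₀) with i | i
    · have : α a₀ = e.symm (QuaternionGroup.a i) := by rw [← hcase, MulEquiv.symm_apply_apply]
      rw [this, hea]
      exact Subgroup.npow_mem_zpowers _ _
    · exfalso
      have h4 : orderOf (e (α a₀)) = 4 := by rw [hcase, QuaternionGroup.orderOf_xa]
      rw [MulEquiv.orderOf_eq, hordα] at h4
      omega
  have hinvC : ∀ α ∈ (⊤ : Subgroup (MulAut X)), ∀ x ∈ zpowers a₀, α x ∈ zpowers a₀ := by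
    intro α _ x hx
    obtain ⟨j, rfl⟩ := mem_zpowers_iff.mp hx
    rw [map_zpow]
    exact (zpowers a₀).zpow_mem (hA α) j
  have hda : d a₀ = a₀ := by
    have hCcard : Nat.card (zpowers a₀) = 2 ^ (k + 1) := by
      rw [Nat.card_zpowers, hord, pow_succ, mul_comm]
    have hσ : (resHom (zpowers a₀) ⊤ hinvC ⟨d, mem_top d⟩) ^ (p ^ s) = 1 := by
      rw [← map_pow]
      have : (⟨d, mem_top d⟩ : (⊤ : Subgroup (MulAut X))) ^ (p ^ s) = 1 := Subtype.ext hd
      rw [this, map_one]
    have hodd : Odd (p ^ s) := (hp'.odd_of_ne_two hp).pow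
    have h1 := Cfsg.Agent.Helper54.mulAut_eq_one_of_odd_pow (k + 1) hCcard _ _ hodd hσ
    exact (resHom_eq_one_iff _ _ hinvC _).mp h1 a₀ (mem_zpowers a₀)
  have hdC : ∀ c ∈ zpowers a₀, d c = c := by
    intro c hc
    have hle : zpowers a₀ ≤ fixSub d := by
      rw [zpowers_le]; exact hda
    exact hle hc
  obtain ⟨c, hcC, hdx⟩ : ∃ c ∈ zpowers a₀, d x₀ = x₀ * c := by
    rcases hcase : e (d x₀) with i | i
    · exfalso
      have h1 : d x₀ = a₀ ^ i.val := by rw [← hea, ← hcase, MulEquiv.symm_apply_apply]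
      have h2 : d (d x₀) = d x₀ := hdC _ (by rw [h1]; exact Subgroup.npow_mem_zpowers _ _)
      have h3 : d x₀ = x₀ := d.injective h2
      rw [h3] at h1
      have h4 : e x₀ = QuaternionGroup.a (i.val : ZMod (2 * 2 ^ k)) := by
        rw [h1, map_pow, ha₀, MulEquiv.apply_symm_apply, QuaternionGroup.a_one_pow]
      rw [hx₀, MulEquiv.apply_symm_apply] at h4
      cases h4
    · refine ⟨a₀ ^ i.val, Subgroup.npow_mem_zpowers _ _, ?_⟩
      rw [← hex, ← hcase, MulEquiv.symm_apply_apply]
  have hpow : ∀ m : ℕ, (d ^ m) x₀ = x₀ * c ^ m := by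
    intro m
    induction m with
    | zero => rw [pow_zero, pow_zero, mul_one]; rfl
    | succ m ih =>
      rw [pow_succ, MulAut.mul_apply, hdx, map_mul, ih, mulAut_pow_apply_of_fixed (hdC c hcC),
        pow_succ, mul_assoc]
  have hc1 : c = 1 := by
    have h1 : c ^ (p ^ s) = 1 := by
      have := hpow (p ^ s)
      rw [hd] at this
      have h' : x₀ = x₀ * c ^ (p ^ s) := this
      exact mul_left_cancel (show x₀ * c ^ (p ^ s) = x₀ * 1 by rw [mul_one]; exact h'.symm)
    obtain ⟨t, ht⟩ := IsPGroup.iff_orderOf.mp hX c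
    have h2 : c ^ (2 ^ t) = 1 := by rw [← ht]; exact pow_orderOf_eq_one c
    have hcop : Nat.Coprime (p ^ s) (2 ^ t) :=
      Nat.Coprime.pow _ _ ((Nat.coprime_primes hp' Nat.prime_two).mpr hp)
    have := pow_gcd_eq_one.mpr ⟨h1, h2⟩
    rwa [hcop, pow_one] at this
  rw [hc1, mul_one] at hdx
  apply MulEquiv.ext
  intro y
  show d y = y
  rcases hcase : e y with i | i
  · have : y = a₀ ^ i.val := by rw [← hea, ← hcase, MulEquiv.symm_apply_apply]
    rw [this, map_pow, hda]
  · have : y = x₀ * a₀ ^ i.val := by rw [← hex, ← hcase, MulEquiv.symm_apply_apply]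
    rw [this, map_mul, map_pow, hda, hdx]

/-- A `p`-group (`p` odd) of automorphisms of a finite 2-group with at most one involution is
trivial, unless `p = 3`, the group is non-commutative of order eight, the automorphism group has
order three and its fixed points square to one. -/
theorem autQ [Finite X] (hX : IsPGroup 2 X)
    (hinv : ∀ s t : X, orderOf s = 2 → orderOf t = 2 → s = t)
    {p : ℕ} [Fact p.Prime] (hp : p ≠ 2) (D : Subgroup (MulAut X)) (hD : IsPGroup p D) :
    D = ⊥ ∨ (p = 3 ∧ Nat.card X = 8 ∧ Nat.card D = 3 ∧ (∃ x y : X, x * y ≠ y * x) ∧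
      ∀ x : X, (∀ d ∈ D, d x = x) → x ^ 2 = 1) := by
  have hp' : p.Prime := Fact.out
  have : Fact (Nat.Prime 2) := ⟨Nat.prime_two⟩
  have hpow : ∀ d ∈ D, ∃ s : ℕ, d ^ (p ^ s) = 1 := by
    intro d hd
    obtain ⟨s, hs⟩ := hD ⟨d, hd⟩
    exact ⟨s, congrArg Subtype.val hs⟩
  have hall : (∀ d ∈ D, d = 1) → D = ⊥ := fun h => (Subgroup.eq_bot_iff_forall D).mpr h
  by_cases hcomm : ∀ x y : X, x * y = y * x
  · left
    apply hall
    have hcyc : IsCyclic X := by
      have hle : ∀ H K : Subgroup X, Nat.card H = 2 → Nat.card K = 2 → H ≤ K := by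
        intro H K hH hK x hx
        by_cases hx1 : x = 1
        · rw [hx1]
          exact one_mem K
        · have h1 : (⟨x, hx⟩ : H) ^ Nat.card H = 1 := pow_card_eq_one'
          rw [hH] at h1
          have hx2 : x ^ 2 = 1 := congrArg Subtype.val h1
          have hKne : K ≠ ⊥ := by
            intro hb
            rw [hb, Subgroup.card_bot] at hK
            omega
          obtain ⟨y, hy⟩ := (Subgroup.ne_bot_iff_exists_ne_one).1 hKne
          have h2 : y ^ Nat.card K = 1 := pow_card_eq_one'
          rw [hK] at h2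
          have hy2 : (y : X) ^ 2 = 1 := congrArg Subtype.val h2
          have hy1 : (y : X) ≠ 1 := fun h => hy (Subtype.ext h)
          rw [hinv x y (orderOf_eq_prime hx2 hx1) (orderOf_eq_prime hy2 hy1)]
          exact y.2
      have huniq : ∀ H K : Subgroup X, Nat.card H = 2 → Nat.card K = 2 → H = K :=
        fun H K hH hK => le_antisymm (hle H K hH hK) (hle K H hK hH)
      rcases Cfsg.Agent.S0016.result (G := X) 2 hX huniq with h | ⟨-, n, ⟨e⟩⟩
      · exact h
      · rcases Nat.eq_zero_or_pos n with rfl | hn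
        · have hQ : IsCyclic (QuaternionGroup (2 ^ 0)) := by
            have hne : NeZero (2 ^ 0) := ⟨by norm_num⟩
            apply isCyclic_of_orderOf_eq_card (QuaternionGroup.xa 0)
            rw [QuaternionGroup.orderOf_xa, Nat.card_eq_fintype_card, QuaternionGroup.card]
            norm_num
          exact isCyclic_of_surjective e.symm.toMonoidHom e.symm.surjective
        · exfalso
          apply Cfsg.Agent.Helper5.quaternion_not_comm n hn
          have := hcomm (e.symm (QuaternionGroup.a 1)) (e.symm (QuaternionGroup.xa 0))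
          have h2 := congrArg e this
          simpa using h2
    intro d hd
    obtain ⟨s, hs⟩ := hpow d hd
    obtain ⟨r, hr⟩ := IsPGroup.iff_card.mp hX
    exact Cfsg.Agent.Helper54.mulAut_eq_one_of_odd_pow r hr d (p ^ s) (hp'.odd_of_ne_two hp).pow hs
  · have hinv' : ∀ s t : X, s ^ 2 = 1 → t ^ 2 = 1 → s ≠ 1 → t ≠ 1 → s = t := by
      intro s t hs ht hs1 ht1
      exact hinv s t (orderOf_eq_prime hs hs1) (orderOf_eq_prime ht ht1)
    obtain ⟨k, hk, ⟨e⟩⟩ := Cfsg.Agent.Helper5.quat_of_unique_involution hX hinv' hcomm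
    rcases Nat.lt_or_ge k 2 with hk2 | hk2
    · have hk1 : k = 1 := by omega
      subst hk1
      have hcard : Nat.card X = 8 := by
        rw [Nat.card_congr e.toEquiv, Nat.card_eq_fintype_card, QuaternionGroup.card]
        norm_num
      rcases autQ_eight hcard hinv hp D hD with h | ⟨h3, hD3, hfix⟩
      · exact Or.inl h
      · right
        push Not at hcomm
        exact ⟨h3, hcard, hD3, hcomm, hfix⟩
    · left
      apply hall
      intro d hd
      obtain ⟨s, hs⟩ := hpow d hd
      exact autQ_quat_large hX k hk2 e hp d s hs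

end AutQ

end Cfsg.Agent.Helper48
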