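import Mathlib
import Cfsg.Agent.Helper48.AutQ
import Cfsg.Agent.Helper48.PGroupLemmas
import Cfsg.Agent.Helper48.Extraspecial2
import Cfsg.Agent.Helper29.ExtraCrit
import Cfsg.Agent.Helper63.Extraspecial

/-!
# Noncyclic abelian `p`-groups of automorphisms of 2-groups with rank one centralizers (helper48)

`thmA`, `thmB`: let `p` be odd, `W` a finite 2-group and `E` a noncyclic abelian `p`-group of
automorphisms such that every nonidentity element of `E` fixes at most one involution. Then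
`|E| = 9`, `W` is extraspecial of order `2 ^ 5`, `2 ^ 7` or `2 ^ 9` and `C_W(E) = Z(W)`.
-/

set_option autoImplicit false

namespace Cfsg.Agent.Helper48

open Subgroup

section AutRank

variable {W : Type*} [Group W]

/-- The common fixed points of a group of automorphisms. -/
def fixAll (D : Subgroup (MulAut W)) : Subgroup W where
  carrier := {x | ∀ d ∈ D, d x = x}
  mul_mem' := by
    intro a b ha hb d hd
    rw [map_mul, ha d hd, hb d hd]
  one_mem' := fun d _ => map_one d
  inv_mem' := by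
    intro a ha d hd
    rw [map_inv, ha d hd]

theorem mem_fixAll {D : Subgroup (MulAut W)} {x : W} : x ∈ fixAll D ↔ ∀ d ∈ D, d x = x := Iff.rfl

theorem apply_mem_center (d : MulAut W) {x : W} (hx : x ∈ center W) : d x ∈ center W := by
  rw [Subgroup.mem_center_iff] at hx ⊢
  intro g
  have h := hx (d⁻¹ g)
  have h2 := congrArg d h
  rw [map_mul, map_mul] at h2
  have h3 : d (d⁻¹ g) = g := by rw [← MulAut.mul_apply, mul_inv_cancel]; rfl
  rw [h3] at h2
  exact h2

theorem fixSub_mul_self {e : MulAut W} (he : e ^ 3 = 1) : fixSub (e * e) = fixSub e := by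
  ext x
  rw [mem_fixSub, mem_fixSub, MulAut.mul_apply]
  constructor
  · intro h
    have h1 : (e ^ 3) x = x := by rw [he]; rfl
    rw [pow_succ, pow_two, MulAut.mul_apply, MulAut.mul_apply] at h1
    have h2 : e (e (e x)) = e x := congrArg e h
    rw [h1] at h2
    exact h2.symm
  · intro h
    rw [h, h]

theorem sup_invariant (d : MulAut W) {A B : Subgroup W} (hA : ∀ x ∈ A, d x ∈ A)
    (hB : ∀ x ∈ B, d x ∈ B) : ∀ x ∈ A ⊔ B, d x ∈ A ⊔ B := by
  intro x hx
  have h1 : d x ∈ (A ⊔ B).map d.toMonoidHom := Subgroup.mem_map_of_mem d.toMonoidHom hx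
  rw [Subgroup.map_sup] at h1
  have hle : A.map d.toMonoidHom ⊔ B.map d.toMonoidHom ≤ A ⊔ B := by
    apply sup_le_sup
    · rintro _ ⟨y, hy, rfl⟩
      exact hA y hy
    · rintro _ ⟨y, hy, rfl⟩
      exact hB y hy
  exact hle h1

theorem card_mul_relIndex_of_le [Finite W] {H K : Subgroup W} (h : H ≤ K) :
    Nat.card H * H.relIndex K = Nat.card K := by
  rw [← Nat.card_congr (Subgroup.subgroupOfEquivOfLe h).toEquiv]
  exact Subgroup.card_mul_index (H.subgroupOf K)

/-- Product bound for two subgroups containing a centre of order two. -/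
theorem two_mul_card_sup_le [Finite W] (A B : Subgroup W) [B.Normal] (hZA : center W ≤ A)
    (hZB : center W ≤ B) (hZ2 : Nat.card (center W) = 2) :
    2 * Nat.card ↥(A ⊔ B) ≤ Nat.card A * Nat.card B := by
  have h1 : Nat.card B * B.relIndex (A ⊔ B) = Nat.card ↥(A ⊔ B) :=
    card_mul_relIndex_of_le le_sup_right
  rw [Subgroup.relIndex_sup_right, ← Subgroup.inf_relIndex_right] at h1
  have h2 : Nat.card ↥(B ⊓ A) * (B ⊓ A).relIndex A = Nat.card A :=
    card_mul_relIndex_of_le inf_le_right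
  have h3 : 2 ≤ Nat.card ↥(B ⊓ A) := by
    rw [← hZ2]
    exact Subgroup.card_le_of_le (le_inf hZB hZA)
  calc 2 * Nat.card ↥(A ⊔ B) = 2 * (Nat.card B * (B ⊓ A).relIndex A) := by rw [h1]
    _ = (2 * (B ⊓ A).relIndex A) * Nat.card B := by ring
    _ ≤ (Nat.card ↥(B ⊓ A) * (B ⊓ A).relIndex A) * Nat.card B :=
      Nat.mul_le_mul_right _ (Nat.mul_le_mul_right _ h3)
    _ = Nat.card A * Nat.card B := by rw [h2]

/-- Restriction version of `autQ`. -/
theorem autQ_res [Finite W] (hW : IsPGroup 2 W) {p : ℕ} [Fact p.Prime] (hp : p ≠ 2)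
    (D : Subgroup (MulAut W)) (hD : IsPGroup p D) (X : Subgroup W)
    (hinv : ∀ d ∈ D, ∀ x ∈ X, d x ∈ X)
    (hX : ∀ s ∈ X, ∀ t ∈ X, orderOf s = 2 → orderOf t = 2 → s = t) :
    (∀ d ∈ D, ∀ x ∈ X, d x = x) ∨
    (p = 3 ∧ Nat.card X = 8 ∧ Nat.card (resHom X D hinv).range = 3 ∧
      (∃ x ∈ X, ∃ y ∈ X, x * y ≠ y * x) ∧ ∀ x ∈ X, (∀ d ∈ D, d x = x) → x ^ 2 = 1) := by
  have hX2 : IsPGroup 2 X := hW.to_subgroup X
  have hinvX : ∀ s t : X, orderOf s = 2 → orderOf t = 2 → s = t := by
    intro s t hs ht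
    apply Subtype.ext
    exact hX s s.2 t t.2 (by rw [← hs, Subgroup.orderOf_coe]) (by rw [← ht, Subgroup.orderOf_coe])
  have hDr : IsPGroup p (resHom X D hinv).range :=
    hD.of_surjective (resHom X D hinv).rangeRestrict (resHom X D hinv).rangeRestrict_surjective
  rcases autQ hX2 hinvX hp (resHom X D hinv).range hDr with
    h | ⟨h3, h8, hc3, ⟨x, y, hxy⟩, hfix⟩
  · left
    intro d hd x hx
    have h1 : resHom X D hinv ⟨d, hd⟩ ∈ (resHom X D hinv).range := ⟨_, rfl⟩
    rw [h, Subgroup.mem_bot] at h1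
    exact (resHom_eq_one_iff X D hinv ⟨d, hd⟩).mp h1 x hx
  · right
    refine ⟨h3, h8, hc3, ⟨x, x.2, y, y.2, fun h => hxy (Subtype.ext h)⟩, ?_⟩
    intro x hx hfx
    have := hfix ⟨x, hx⟩ (by
      rintro _ ⟨d, rfl⟩
      apply Subtype.ext
      exact hfx d d.2)
    exact congrArg Subtype.val this

/-- If the second centre meets the commutator subgroup inside the centre, the group has class at
most two: here phrased as the existence of a commutator-subgroup element outside the centre whose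
commutators are all central, when some commutator is not central. -/
theorem exists_comm_mem_second_center [Finite W] (hW : IsPGroup 2 W) {x y : W}
    (hxy : x * y * x⁻¹ * y⁻¹ ∉ center W) :
    ∃ c ∈ commutator W, c ∉ center W ∧ ∀ w : W, c * w * c⁻¹ * w⁻¹ ∈ center W := by
  have hf2 : Fact (Nat.Prime 2) := ⟨Nat.prime_two⟩
  have hQ : IsPGroup 2 (W ⧸ center W) := hW.to_quotient (center W)
  have hnorm : ((commutator W).map (QuotientGroup.mk' (center W))).Normal :=
    Subgroup.Normal.map inferInstance _ (QuotientGroup.mk'_surjective (center W))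
  have hne : (commutator W).map (QuotientGroup.mk' (center W)) ≠ ⊥ := by
    intro hbot
    have hmem : (QuotientGroup.mk' (center W)) (x * y * x⁻¹ * y⁻¹) ∈
        (commutator W).map (QuotientGroup.mk' (center W)) := by
      refine Subgroup.mem_map_of_mem _ ?_
      rw [commutator_def]
      have := Subgroup.commutator_mem_commutator (Subgroup.mem_top x) (Subgroup.mem_top y)
      rwa [commutatorElement_def] at this
    rw [hbot, Subgroup.mem_bot] at hmem
    exact hxy ((QuotientGroup.eq_one_iff _).mp hmem)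
  obtain ⟨q, ⟨c, hc, rfl⟩, hq1, hqZ⟩ := exists_ne_one_mem_center_of_normal hQ _ hne
  refine ⟨c, hc, fun h => hq1 ((QuotientGroup.eq_one_iff c).mpr h), ?_⟩
  intro w
  rw [Subgroup.mem_center_iff] at hqZ
  have h1 := hqZ (QuotientGroup.mk' (center W) w)
  rw [← QuotientGroup.eq_one_iff]
  have h2 : (QuotientGroup.mk' (center W)) (c * w * c⁻¹ * w⁻¹) = 1 := by
    rw [map_mul, map_mul, map_mul, map_inv, map_inv, ← h1]
    group
  exact h2

/-- Elements of the commutator subgroup commute with elements all of whose commutators are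
central. -/
theorem commute_of_mem_commutator_of_second_center {a c : W} (ha : a ∈ commutator W)
    (hc : ∀ w : W, c * w * c⁻¹ * w⁻¹ ∈ center W) : c * a = a * c := by
  obtain ⟨M, hM⟩ : ∃ M : Subgroup W, M = closure {c | ∀ w : W, c * w * c⁻¹ * w⁻¹ ∈ center W} :=
    ⟨_, rfl⟩
  have hcM : c ∈ M := by rw [hM]; exact subset_closure hc
  have hMZ : ⁅M, (⊤ : Subgroup W)⁆ ≤ center W := by
    rw [Subgroup.commutator_le]
    intro g₁ hg₁ g₂ _
    rw [commutatorElement_def]
    have key : ∀ g ∈ M, ∀ w : W, g * w * g⁻¹ * w⁻¹ ∈ center W := by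
      intro g hg
      rw [hM] at hg
      induction hg using Subgroup.closure_induction with
      | mem g hg => exact hg
      | one => intro w; simp
      | mul g h _ _ ihg ihh =>
        intro w
        have h1 := ihg (h * w * h⁻¹)
        have h2 := ihh w
        have : g * h * w * (g * h)⁻¹ * w⁻¹ =
            (g * (h * w * h⁻¹) * g⁻¹ * (h * w * h⁻¹)⁻¹) * (h * w * h⁻¹ * w⁻¹) := by group
        rw [this]
        exact mul_mem h1 h2
      | inv g _ ih =>
        intro w
        have h1 := ih (g⁻¹ * w * g)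
        have h2 : g⁻¹ * w * g⁻¹⁻¹ * w⁻¹ = (g * (g⁻¹ * w * g) * g⁻¹ * (g⁻¹ * w * g)⁻¹)⁻¹ := by group
        have h3 := inv_mem h1
        have h4 : (g * (g⁻¹ * w * g) * g⁻¹ * (g⁻¹ * w * g)⁻¹)⁻¹ = g⁻¹ * w * g * w⁻¹ := by group
        rw [h4] at h3
        have h5 : g⁻¹ * w * g⁻¹⁻¹ * w⁻¹ = g⁻¹ * w * g * w⁻¹ := by group
        rw [h5]
        exact h3
    exact key g₁ hg₁ g₂
  have hZtop : ⁅center W, (⊤ : Subgroup W)⁆ = ⊥ :=
    Subgroup.commutator_eq_bot_iff_le_centralizer.mpr (Subgroup.center_le_centralizer _)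
  have h2 : ⁅⁅M, (⊤ : Subgroup W)⁆, (⊤ : Subgroup W)⁆ = ⊥ := by
    rw [eq_bot_iff, ← hZtop]
    exact Subgroup.commutator_mono hMZ le_rfl
  have h1 : ⁅⁅(⊤ : Subgroup W), M⁆, (⊤ : Subgroup W)⁆ = ⊥ := by
    rw [Subgroup.commutator_comm ⊤ M]; exact h2
  have h3 : ⁅⁅(⊤ : Subgroup W), (⊤ : Subgroup W)⁆, M⁆ = ⊥ :=
    Subgroup.commutator_commutator_eq_bot_of_rotate h1 h2
  have h4 := Subgroup.commutator_eq_bot_iff_le_centralizer.mp h3
  rw [commutator_def] at ha
  exact Subgroup.mem_centralizer_iff.mp (h4 ha) c hcM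

end AutRank

end Cfsg.Agent.Helper48
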