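import Mathlib
import Cfsg.Agent.Helper48.AutRank

/-!
# Noncyclic abelian `p`-groups of automorphisms of 2-groups with rank one centralizers, part 2
-/

set_option autoImplicit false

namespace Cfsg.Agent.Helper48

open Subgroup

section AutRank2

variable {W : Type*} [Group W]

/-- **Theorem A**: an elementary abelian `p`-group `E₀` (`p` odd) of order at least `p ^ 2` of
automorphisms of a finite 2-group `W`, all of whose nonidentity elements fix at most one
involution. -/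
theorem thmA [Finite W] (hW : IsPGroup 2 W) {p : ℕ} [Fact p.Prime] (hp : p ≠ 2)
    (E₀ : Subgroup (MulAut W)) (hcomm : ∀ d ∈ E₀, ∀ e ∈ E₀, d * e = e * d)
    (hexp : ∀ e ∈ E₀, e ^ p = 1) (hcard : p ^ 2 ≤ Nat.card E₀)
    (hfix : ∀ e ∈ E₀, e ≠ 1 → ∀ x y : W, orderOf x = 2 → orderOf y = 2 → e x = x → e y = y →
      x = y) :
    p = 3 ∧ Cfsg.IsExtraspecial 2 W ∧ fixAll E₀ = center W ∧ Nat.card (center W) = 2 ∧
    (∃ e₁ ∈ E₀, e₁ ≠ 1 ∧ Nat.card (fixSub e₁) = 8 ∧ ∃ K : Subgroup (MulAut W), K ≤ E₀ ∧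
      (∀ d ∈ K, ∀ x ∈ fixSub e₁, d x = x) ∧ Nat.card E₀ = 3 * Nat.card K) ∧
    ∀ e ∈ E₀, e ≠ 1 → Nat.card (fixSub e) ≤ 8 := by
  have hp' : p.Prime := Fact.out
  have hf2 : Fact (Nat.Prime 2) := ⟨Nat.prime_two⟩
  have hE₀p : IsPGroup p E₀ := by
    intro e
    refine ⟨1, Subtype.ext ?_⟩
    rw [pow_one]
    exact hexp e e.2
  have hWp : ¬ p ∣ Nat.card W := by
    obtain ⟨r, hr⟩ := IsPGroup.iff_card.mp hW
    rw [hr]
    intro h
    exact hp ((Nat.prime_dvd_prime_iff_eq hp' Nat.prime_two).mp (hp'.dvd_of_dvd_pow h))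
  have hFinv : ∀ e ∈ E₀, ∀ d ∈ E₀, ∀ x ∈ fixSub e, d x ∈ fixSub e :=
    fun e he d hd x hx => apply_mem_fixSub_of_commute (hcomm d hd e he) hx
  have hFinvol : ∀ e ∈ E₀, e ≠ 1 → ∀ s ∈ fixSub e, ∀ t ∈ fixSub e, orderOf s = 2 →
      orderOf t = 2 → s = t :=
    fun e he he1 s hs t ht hs2 ht2 => hfix e he he1 s t hs2 ht2 hs ht
  have hT : ∀ e ∈ E₀, e ≠ 1 → ∀ X : Subgroup W, X ≤ fixSub e →
      ∀ hXinv : (∀ d ∈ E₀, ∀ x ∈ X, d x ∈ X),
      (∀ d ∈ E₀, ∀ x ∈ X, d x = x) ∨ (p = 3 ∧ Nat.card X = 8 ∧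
        Nat.card (resHom X E₀ hXinv).range = 3 ∧
        (∃ x ∈ X, ∃ y ∈ X, x * y ≠ y * x) ∧ ∀ x ∈ X, (∀ d ∈ E₀, d x = x) → x ^ 2 = 1) := by
    intro e he he1 X hXe hXinv
    exact autQ_res hW hp E₀ hE₀p X hXinv
      (fun s hs t ht => hFinvol e he he1 s (hXe hs) t (hXe ht))
  have hCinv : ∀ e ∈ E₀, ∀ x ∈ fixAll E₀, e x ∈ fixAll E₀ := by
    intro e he x hx
    rw [hx e he]; exact hx
  -- every invariant commutative subgroup is fixed by `E₀`
  have h3 : ∀ A : Subgroup W, (∀ d ∈ E₀, ∀ x ∈ A, d x ∈ A) →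
      (∀ x ∈ A, ∀ y ∈ A, x * y = y * x) → A ≤ fixAll E₀ := by
    intro A hAinv hAcomm
    apply le_of_fix_inf_le hWp E₀ hcomm hexp hcard A (fixAll E₀) hAinv hCinv
    intro e he he1
    have hinv' : ∀ d ∈ E₀, ∀ x ∈ A ⊓ fixSub e, d x ∈ A ⊓ fixSub e := fun d hd x hx =>
      Subgroup.mem_inf.mpr ⟨hAinv d hd x (Subgroup.mem_inf.mp hx).1,
        hFinv e he d hd x (Subgroup.mem_inf.mp hx).2⟩
    rcases hT e he he1 (A ⊓ fixSub e) inf_le_right hinv' with
      h | ⟨-, -, -, ⟨x, hx, y, hy, hxy⟩, -⟩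
    · intro x hx d hd
      exact h d hd x hx
    · exact absurd (hAcomm x (Subgroup.mem_inf.mp hx).1 y (Subgroup.mem_inf.mp hy).1) hxy
  -- some centralizer is moved
  obtain ⟨e₁, he₁, he₁1, hne⟩ : ∃ e₁ ∈ E₀, e₁ ≠ 1 ∧ ¬ (∀ d ∈ E₀, ∀ x ∈ fixSub e₁, d x = x) := by
    by_contra hcon
    push Not at hcon
    have htop : (⊤ : Subgroup W) ≤ fixAll E₀ := by
      apply le_of_fix_inf_le hWp E₀ hcomm hexp hcard ⊤ (fixAll E₀) (fun _ _ _ _ => mem_top _)
        hCinv
      intro e he he1 x hx d hd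
      exact hcon e he he1 d hd x (Subgroup.mem_inf.mp hx).2
    have hbot : E₀ = ⊥ := by
      rw [Subgroup.eq_bot_iff_forall]
      intro e he
      apply MulEquiv.ext
      intro x
      exact htop (mem_top x) e he
    rw [hbot, Subgroup.card_bot] at hcard
    have := hp'.one_lt
    nlinarith
  rcases hT e₁ he₁ he₁1 (fixSub e₁) le_rfl (hFinv e₁ he₁) with
    h | ⟨hp3, hF8, hR3, ⟨x₁, hx₁, y₁, hy₁, hxy₁⟩, hsq⟩
  · exact absurd h hne
  have hCF : fixAll E₀ ≤ fixSub e₁ := fun x hx => hx e₁ he₁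
  have hCsq : ∀ x ∈ fixAll E₀, x ^ 2 = 1 := fun x hx => hsq x (hCF hx) hx
  have hCuniq : ∀ x ∈ fixAll E₀, ∀ y ∈ fixAll E₀, x ≠ 1 → y ≠ 1 → x = y := by
    intro x hx y hy hx1 hy1
    exact hfix e₁ he₁ he₁1 x y (orderOf_eq_prime (hCsq x hx) hx1)
      (orderOf_eq_prime (hCsq y hy) hy1) (hCF hx) (hCF hy)
  have hZC : center W ≤ fixAll E₀ := by
    apply h3
    · intro d hd x hx
      exact apply_mem_center d hx
    · intro x hx y hy
      exact Subgroup.mem_center_iff.mp hy x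
  have hWnt : Nontrivial W := by
    refine ⟨⟨x₁, y₁, ?_⟩⟩
    rintro rfl
    exact hxy₁ rfl
  obtain ⟨z, hzZ, hz1⟩ : ∃ z ∈ center W, z ≠ 1 := by
    have := hW.center_nontrivial
    obtain ⟨z, hz⟩ := exists_ne (1 : center W)
    exact ⟨z, z.2, fun h => hz (Subtype.ext h)⟩
  have hzC : z ∈ fixAll E₀ := hZC hzZ
  have hCall : ∀ x ∈ fixAll E₀, x = 1 ∨ x = z := by
    intro x hx
    by_cases hx1 : x = 1
    · exact Or.inl hx1
    · exact Or.inr (hCuniq x hx z hzC hx1 hz1)
  have hZall : ∀ c ∈ center W, c = 1 ∨ c = z := fun c hc => hCall c (hZC hc)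
  have hCZ : fixAll E₀ = center W := by
    apply le_antisymm
    · intro x hx
      rcases hCall x hx with rfl | rfl
      · exact one_mem _
      · exact hzZ
    · exact hZC
  -- class two
  have hclass : ∀ x y : W, x * y * x⁻¹ * y⁻¹ ∈ center W := by
    by_contra hcon
    push Not at hcon
    obtain ⟨x, y, hxy⟩ := hcon
    obtain ⟨c, hcW, hcZ, hc2⟩ := exists_comm_mem_second_center hW hxy
    obtain ⟨A, hA⟩ : ∃ A : Subgroup W, A = closure {a | a ∈ commutator W ∧
        ∀ w : W, a * w * a⁻¹ * w⁻¹ ∈ center W} := ⟨_, rfl⟩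
    have hAle : A ≤ commutator W := by
      rw [hA, closure_le]
      exact fun a ha => ha.1
    have hAcomm : ∀ a ∈ A, ∀ b ∈ A, a * b = b * a := by
      have hcl : A ≤ centralizer (A : Set W) := by
        rw [hA, Subgroup.centralizer_closure, closure_le]
        intro a ha
        rw [SetLike.mem_coe, Subgroup.mem_centralizer_iff]
        intro b hb
        exact commute_of_mem_commutator_of_second_center ha.1 hb.2
      intro a ha b hb
      exact (Subgroup.mem_centralizer_iff.mp (hcl hb) a ha)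
    have hAinv : ∀ d ∈ E₀, ∀ a ∈ A, d a ∈ A := by
      intro d _ a ha
      have hmap : A.map d.toMonoidHom ≤ A := by
        rw [hA, MonoidHom.map_closure, closure_le]
        rintro _ ⟨a, ⟨ha1, ha2⟩, rfl⟩
        apply Subgroup.subset_closure
        constructor
        · have hchar : (commutator W).map d.toMonoidHom = commutator W :=
            Subgroup.characteristic_iff_map_eq.mp inferInstance d
          rw [← hchar]
          exact Subgroup.mem_map_of_mem _ ha1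
        · intro w
          have h1 := apply_mem_center d (ha2 (d⁻¹ w))
          have h2 : d (d⁻¹ w) = w := by rw [← MulAut.mul_apply, mul_inv_cancel]; rfl
          rw [map_mul, map_mul, map_mul, map_inv, map_inv, h2] at h1
          exact h1
      exact hmap (Subgroup.mem_map_of_mem _ ha)
    have hcA : c ∈ A := by
      rw [hA]; exact Subgroup.subset_closure ⟨hcW, hc2⟩
    have := h3 A hAinv hAcomm hcA
    rw [hCZ] at this
    exact hcZ this
  have hcardZ : Nat.card (center W) = 2 := by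
    rw [Nat.card_eq_two_iff]
    refine ⟨1, ⟨z, hzZ⟩, fun h => hz1 (congrArg Subtype.val h).symm, ?_⟩
    ext c
    simp only [Set.mem_insert_iff, Set.mem_singleton_iff, Set.mem_univ, iff_true]
    rcases hZall c c.2 with h | h
    · left; exact Subtype.ext h
    · right; exact Subtype.ext h
  have hES : Cfsg.IsExtraspecial 2 W := by
    apply Cfsg.Agent.Helper29.isExtraspecial_two_of_elementwise hW z hz1
    · intro x y; exact hZall _ (hclass x y)
    · intro x; exact hZall _ (sq_mem_center hclass hcardZ x)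
    · intro c hc; exact hZall c (Subgroup.mem_center_iff.mpr (fun g => (hc g).symm))
    · intro y; exact (Subgroup.mem_center_iff.mp hzZ y).symm
    · exact ⟨x₁, y₁, hxy₁⟩
  refine ⟨hp3, hES, hCZ, hcardZ, ⟨e₁, he₁, he₁1, hF8,
    (resHom (fixSub e₁) E₀ (hFinv e₁ he₁)).ker.map E₀.subtype, Subgroup.map_subtype_le _, ?_, ?_⟩,
    ?_⟩
  · rintro _ ⟨k, hk, rfl⟩ x hx
    rw [SetLike.mem_coe, MonoidHom.mem_ker] at hk
    exact (resHom_eq_one_iff _ _ (hFinv e₁ he₁) k).mp hk x hx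
  · rw [Subgroup.card_map_of_injective (Subgroup.subtype_injective E₀), ← hR3,
      ← Subgroup.index_ker, mul_comm]
    exact (Subgroup.card_mul_index _).symm
  · intro e he he1
    rcases hT e he he1 (fixSub e) le_rfl (hFinv e he) with h | ⟨-, h8, -, -, -⟩
    · have hle : fixSub e ≤ center W := by
        rw [← hCZ]
        intro x hx d hd
        exact h d hd x hx
      have := Subgroup.card_le_of_le hle
      omega
    · exact h8.le

end AutRank2

end Cfsg.Agent.Helper48
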