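import Mathlib
import Cfsg.Agent.Helper48.AutRank2

/-!
# Noncyclic abelian `p`-groups of automorphisms of 2-groups with rank one centralizers, part 3
-/

set_option autoImplicit false

namespace Cfsg.Agent.Helper48

open Subgroup

section AutRank3

variable {W : Type*} [Group W]

/-- Order bound: an elementary abelian group of order nine of automorphisms of a `3'`-group of
class two with centre of order two, all of whose nonidentity elements have centralizers of order
at most eight containing the centre. -/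
theorem card_le_of_nine [Finite W] (hW3 : ¬ 3 ∣ Nat.card W) (E₀ : Subgroup (MulAut W))
    (hcomm : ∀ d ∈ E₀, ∀ e ∈ E₀, d * e = e * d) (hexp : ∀ e ∈ E₀, e ^ 3 = 1)
    (hcard : Nat.card E₀ = 9) (hclass : ∀ x y : W, x * y * x⁻¹ * y⁻¹ ∈ center W)
    (hZ2 : Nat.card (center W) = 2) (hZ : ∀ e ∈ E₀, center W ≤ fixSub e)
    (hF8 : ∀ e ∈ E₀, e ≠ 1 → Nat.card (fixSub e) ≤ 8) : Nat.card W ≤ 2 ^ 9 := by
  have hf3 : Fact (Nat.Prime 3) := ⟨Nat.prime_three⟩
  obtain ⟨a, haE, ha1⟩ : ∃ a ∈ E₀, a ≠ 1 := by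
    by_contra hcon
    push Not at hcon
    have : E₀ = ⊥ := (Subgroup.eq_bot_iff_forall _).mpr hcon
    rw [this, Subgroup.card_bot] at hcard
    omega
  have ha3 := hexp a haE
  have hza : Nat.card (zpowers a) = 3 := by
    rw [Nat.card_zpowers]; exact orderOf_eq_prime ha3 ha1
  obtain ⟨b, hbE, hbA⟩ : ∃ b ∈ E₀, b ∉ zpowers a := by
    by_contra hcon
    push Not at hcon
    have hle : E₀ ≤ zpowers a := hcon
    have := Subgroup.card_le_of_le hle
    omega
  have hb3 := hexp b hbE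
  have hab : a * b = b * a := hcomm a haE b hbE
  have hPle : zpowers a ⊔ zpowers b ≤ E₀ := sup_le (zpowers_le.mpr haE) (zpowers_le.mpr hbE)
  have hPeq : zpowers a ⊔ zpowers b = E₀ := by
    apply Subgroup.eq_of_le_of_card_ge hPle
    have h1 : Nat.card (zpowers a) ∣ Nat.card ↥(zpowers a ⊔ zpowers b) :=
      Subgroup.card_dvd_of_le le_sup_left
    have h2 : Nat.card ↥(zpowers a ⊔ zpowers b) ∣ Nat.card E₀ := Subgroup.card_dvd_of_le hPle
    rw [hza] at h1
    rw [hcard] at h2 ⊢
    have h3 : Nat.card ↥(zpowers a ⊔ zpowers b) ≠ 3 := by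
      intro h
      have heq : zpowers a = zpowers a ⊔ zpowers b :=
        Subgroup.eq_of_le_of_card_ge le_sup_left (by rw [h, hza])
      apply hbA
      rw [heq]
      exact le_sup_right (a := zpowers a) (mem_zpowers b)
    have h4 : Nat.card ↥(zpowers a ⊔ zpowers b) ≤ 9 := Nat.le_of_dvd (by norm_num) h2
    obtain ⟨c, hc⟩ := h1
    rw [hc] at h2 h3 h4 ⊢
    have hc3 : c ≤ 3 := by omega
    interval_cases c
    · norm_num at h2
    · exact absurd rfl h3
    · norm_num at h2
    · norm_num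
  have hnormb : zpowers b ≤ normalizer ((zpowers a : Subgroup (MulAut W)) : Set (MulAut W)) := by
    rw [zpowers_le, Subgroup.mem_normalizer_iff]
    intro h
    have hconj : ∀ g ∈ zpowers a, b * g * b⁻¹ = g := by
      intro g hg
      obtain ⟨j, rfl⟩ := mem_zpowers_iff.mp hg
      have : Commute b (a ^ j) := (show Commute b a from hab.symm).zpow_right j
      rw [this.eq, mul_inv_cancel_right]
    constructor
    · intro hh
      rw [hconj h hh]; exact hh
    · intro hh
      have h1 := hconj _ hh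
      have h2 : b * h * b⁻¹ = h := mul_left_cancel (mul_right_cancel h1)
      rw [← h2]; exact hh
  have hdecomp : ∀ e ∈ E₀, ∃ i j : ℤ, e = a ^ i * b ^ j := by
    intro e he
    rw [← hPeq] at he
    have he' : e ∈ ((zpowers a ⊔ zpowers b : Subgroup (MulAut W)) : Set (MulAut W)) := he
    rw [Subgroup.coe_mul_of_right_le_normalizer_left (zpowers a) (zpowers b) hnormb] at he'
    obtain ⟨x, hx, y, hy, hxy⟩ := Set.mem_mul.mp he'
    obtain ⟨i, rfl⟩ := mem_zpowers_iff.mp hx
    obtain ⟨j, rfl⟩ := mem_zpowers_iff.mp hy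
    exact ⟨i, j, hxy.symm⟩
  obtain ⟨H, hH⟩ : ∃ H : Subgroup W,
      H = fixSub a ⊔ fixSub b ⊔ fixSub (a * b) ⊔ fixSub (a * b * b) := ⟨_, rfl⟩
  have hHa : fixSub a ≤ H := by
    rw [hH]; exact le_sup_of_le_left (le_sup_of_le_left le_sup_left)
  have hHb : fixSub b ≤ H := by
    rw [hH]; exact le_sup_of_le_left (le_sup_of_le_left le_sup_right)
  have hHab : fixSub (a * b) ≤ H := by
    rw [hH]; exact le_sup_of_le_left le_sup_right
  have hHabb : fixSub (a * b * b) ≤ H := by
    rw [hH]; exact le_sup_right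
  have habE : a * b ∈ E₀ := E₀.mul_mem haE hbE
  have habbE : a * b * b ∈ E₀ := E₀.mul_mem habE hbE
  have hkey : ∀ e ∈ E₀, e ≠ 1 → fixSub e ≤ H := by
    intro e he he1
    obtain ⟨i, j, rfl⟩ := hdecomp e he
    have ha3' : a ^ (3 : ℤ) = 1 := by
      have : a ^ ((3 : ℕ) : ℤ) = 1 := by rw [zpow_natCast]; exact ha3
      exact this
    have hb3' : b ^ (3 : ℤ) = 1 := by
      have : b ^ ((3 : ℕ) : ℤ) = 1 := by rw [zpow_natCast]; exact hb3
      exact this
    rw [zpow_eq_zpow_emod i ha3', zpow_eq_zpow_emod j hb3'] at he1 ⊢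
    have hi0 := Int.emod_nonneg i (by norm_num : (3 : ℤ) ≠ 0)
    have hi3 := Int.emod_lt_of_pos i (by norm_num : (0 : ℤ) < 3)
    have hj0 := Int.emod_nonneg j (by norm_num : (3 : ℤ) ≠ 0)
    have hj3 := Int.emod_lt_of_pos j (by norm_num : (0 : ℤ) < 3)
    generalize i % 3 = i' at *
    generalize j % 3 = j' at *
    interval_cases i' <;> interval_cases j'
    · exact absurd (by rw [zpow_zero, zpow_zero, one_mul]) he1
    · rw [zpow_zero, zpow_one, one_mul]; exact hHb
    · rw [zpow_zero, one_mul, zpow_two, fixSub_mul_self hb3]; exact hHb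
    · rw [zpow_one, zpow_zero, mul_one]; exact hHa
    · rw [zpow_one, zpow_one]; exact hHab
    · rw [zpow_one, zpow_two, ← mul_assoc]; exact hHabb
    · rw [zpow_two, zpow_zero, mul_one, fixSub_mul_self ha3]; exact hHa
    · have h : a ^ (2 : ℤ) * b ^ (1 : ℤ) = (a * b * b) * (a * b * b) := by
        rw [zpow_two, zpow_one]
        have hc : Commute a (b ^ 2) := (show Commute a b from hab).pow_right 2
        have h1 : (a * b * b) * (a * b * b) = (a * b ^ 2) ^ 2 := by
          rw [mul_assoc a b b, ← pow_two b, ← pow_two]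
        rw [h1, hc.mul_pow, ← pow_mul, pow_two a]
        have h2 : b ^ (2 * 2) = b := by
          have : b ^ (2 * 2) = b ^ 3 * b := by
            rw [show 2 * 2 = 3 + 1 by norm_num, pow_succ]
          rw [this, hb3, one_mul]
        rw [h2]
      rw [h, fixSub_mul_self (hexp _ habbE)]; exact hHabb
    · have h : a ^ (2 : ℤ) * b ^ (2 : ℤ) = (a * b) * (a * b) := by
        rw [zpow_two, zpow_two]
        calc a * a * (b * b) = a * (a * b) * b := by group
          _ = a * (b * a) * b := by rw [hab]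
          _ = a * b * (a * b) := by group
      rw [h, fixSub_mul_self (hexp _ habE)]; exact hHab
  have hFinv : ∀ c ∈ E₀, ∀ d ∈ E₀, ∀ x ∈ fixSub c, d x ∈ fixSub c :=
    fun c hc d hd x hx => apply_mem_fixSub_of_commute (hcomm d hd c hc) hx
  have hHinv : ∀ d ∈ E₀, ∀ x ∈ H, d x ∈ H := by
    intro d hd
    rw [hH]
    exact sup_invariant d (sup_invariant d (sup_invariant d (hFinv a haE d hd)
      (hFinv b hbE d hd)) (hFinv _ habE d hd)) (hFinv _ habbE d hd)
  have htop : (⊤ : Subgroup W) ≤ H := by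
    apply le_of_fix_inf_le hW3 E₀ hcomm hexp (by rw [hcard]; norm_num) ⊤ H
      (fun _ _ _ _ => mem_top _) hHinv
    intro e he he1 x hx
    exact hkey e he he1 (Subgroup.mem_inf.mp hx).2
  have hnormal : ∀ c ∈ E₀, (fixSub c).Normal := by
    intro c hc
    constructor
    intro n hn g
    have h1 : g * n * g⁻¹ * n⁻¹ ∈ fixSub c := hZ c hc (hclass g n)
    have h2 : g * n * g⁻¹ = (g * n * g⁻¹ * n⁻¹) * n := by group
    rw [h2]
    exact mul_mem h1 hn
  have hb1 : b ≠ 1 := by
    rintro rfl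
    exact hbA (one_mem _)
  have hab1 : a * b ≠ 1 := by
    intro h
    apply hbA
    rw [eq_inv_of_mul_eq_one_right h]
    exact inv_mem (mem_zpowers a)
  have habb1 : a * b * b ≠ 1 := by
    intro h
    apply hbA
    have h1 : b * b = a⁻¹ := by
      have : a * (b * b) = 1 := by rw [← mul_assoc]; exact h
      exact eq_inv_of_mul_eq_one_right this
    have h2 : b = (b * b) * (b * b) := by
      have : b * b * (b * b) = b ^ 3 * b := by
        rw [pow_succ, pow_two, mul_assoc (b * b) b b]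
      rw [this, hb3, one_mul]
    rw [h2, h1]
    exact mul_mem (inv_mem (mem_zpowers a)) (inv_mem (mem_zpowers a))
  have c1 : 2 * Nat.card ↥(fixSub a ⊔ fixSub b) ≤ Nat.card (fixSub a) * Nat.card (fixSub b) :=
    haveI := hnormal b hbE
    two_mul_card_sup_le _ _ (hZ a haE) (hZ b hbE) hZ2
  have c2 : 2 * Nat.card ↥(fixSub a ⊔ fixSub b ⊔ fixSub (a * b)) ≤
      Nat.card ↥(fixSub a ⊔ fixSub b) * Nat.card (fixSub (a * b)) :=
    haveI := hnormal _ habE
    two_mul_card_sup_le _ _ ((hZ a haE).trans le_sup_left) (hZ _ habE) hZ2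
  have c3 : 2 * Nat.card ↥(fixSub a ⊔ fixSub b ⊔ fixSub (a * b) ⊔ fixSub (a * b * b)) ≤
      Nat.card ↥(fixSub a ⊔ fixSub b ⊔ fixSub (a * b)) * Nat.card (fixSub (a * b * b)) :=
    haveI := hnormal _ habbE
    two_mul_card_sup_le _ _ (((hZ a haE).trans le_sup_left).trans le_sup_left) (hZ _ habbE) hZ2
  have b1 := hF8 a haE ha1
  have b2 := hF8 b hbE hb1
  have b3 := hF8 _ habE hab1
  have b4 := hF8 _ habbE habb1
  have d1 : Nat.card ↥(fixSub a ⊔ fixSub b) ≤ 32 := by
    have : Nat.card (fixSub a) * Nat.card (fixSub b) ≤ 8 * 8 := Nat.mul_le_mul b1 b2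
    omega
  have d2 : Nat.card ↥(fixSub a ⊔ fixSub b ⊔ fixSub (a * b)) ≤ 128 := by
    have : Nat.card ↥(fixSub a ⊔ fixSub b) * Nat.card (fixSub (a * b)) ≤ 32 * 8 :=
      Nat.mul_le_mul d1 b3
    omega
  have d3 : Nat.card H ≤ 512 := by
    rw [hH]
    have : Nat.card ↥(fixSub a ⊔ fixSub b ⊔ fixSub (a * b)) * Nat.card (fixSub (a * b * b)) ≤
        128 * 8 := Nat.mul_le_mul d2 b4
    omega
  calc Nat.card W = Nat.card (⊤ : Subgroup W) := Subgroup.card_top.symm
    _ ≤ Nat.card H := Subgroup.card_le_of_le htop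
    _ ≤ 2 ^ 9 := by norm_num; exact d3

/-- **Theorem B**: a noncyclic abelian `p`-group `E` (`p` odd) of automorphisms of a finite
2-group `W`, all of whose nonidentity elements fix at most one involution, has order nine; `W`
is extraspecial of order `2 ^ 5`, `2 ^ 7` or `2 ^ 9`, and `C_W(E) = Z(W)`. -/
theorem thmB [Finite W] (hW : IsPGroup 2 W) {p : ℕ} [Fact p.Prime] (hp : p ≠ 2)
    (E : Subgroup (MulAut W)) (hE : IsPGroup p E) (hab : IsMulCommutative E)
    (hnc : ¬ IsCyclic E)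
    (hfix : ∀ e ∈ E, e ≠ 1 → ∀ x y : W, orderOf x = 2 → orderOf y = 2 → e x = x → e y = y →
      x = y) :
    Nat.card E = 9 ∧ Cfsg.IsExtraspecial 2 W ∧
      (Nat.card W = 2 ^ 5 ∨ Nat.card W = 2 ^ 7 ∨ Nat.card W = 2 ^ 9) ∧
      {x : W | ∀ e ∈ E, e x = x} = (center W : Set W) := by
  have hp' : p.Prime := Fact.out
  have hf2 : Fact (Nat.Prime 2) := ⟨Nat.prime_two⟩
  have hcommE : ∀ d ∈ E, ∀ e ∈ E, d * e = e * d := fun d hd e he =>
    congrArg Subtype.val (hab.is_comm.comm ⟨d, hd⟩ ⟨e, he⟩)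
  obtain ⟨E₀, hE₀⟩ : ∃ E₀ : Subgroup (MulAut W), ∀ e, e ∈ E₀ ↔ e ∈ E ∧ e ^ p = 1 := by
    refine ⟨{ carrier := {e | e ∈ E ∧ e ^ p = 1}
              mul_mem' := ?_
              one_mem' := ⟨E.one_mem, one_pow p⟩
              inv_mem' := ?_ }, fun e => Iff.rfl⟩
    · rintro a b ⟨ha, ha'⟩ ⟨hb, hb'⟩
      exact ⟨E.mul_mem ha hb, by
        rw [(show Commute a b from hcommE a ha b hb).mul_pow, ha', hb', one_mul]⟩
    · rintro a ⟨ha, ha'⟩
      exact ⟨E.inv_mem ha, by rw [inv_pow, ha', inv_one]⟩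
  have hE₀E : E₀ ≤ E := fun e he => ((hE₀ e).mp he).1
  have hexp : ∀ e ∈ E₀, e ^ p = 1 := fun e he => ((hE₀ e).mp he).2
  have hcomm₀ : ∀ d ∈ E₀, ∀ e ∈ E₀, d * e = e * d :=
    fun d hd e he => hcommE d (hE₀E hd) e (hE₀E he)
  have hfix₀ : ∀ e ∈ E₀, e ≠ 1 → ∀ x y : W, orderOf x = 2 → orderOf y = 2 → e x = x →
      e y = y → x = y := fun e he => hfix e (hE₀E he)
  have hcard₀ : p ^ 2 ≤ Nat.card E₀ := by
    by_contra hlt
    push Not at hlt
    apply hnc
    have hE₀p : IsPGroup p E₀ := hE.to_le hE₀E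
    obtain ⟨n, hn⟩ := IsPGroup.iff_card.mp hE₀p
    have hn1 : Nat.card E₀ ≤ p := by
      rw [hn] at hlt ⊢
      have : n < 2 := (Nat.pow_lt_pow_iff_right hp'.one_lt).mp hlt
      calc p ^ n ≤ p ^ 1 := Nat.pow_le_pow_right hp'.pos (by omega)
        _ = p := pow_one p
    have hmap : ∀ H : Subgroup E, Nat.card H = p → H.map E.subtype = E₀ := by
      intro H hH
      apply Subgroup.eq_of_le_of_card_ge
      · rintro _ ⟨x, hx, rfl⟩
        rw [hE₀]
        refine ⟨x.2, ?_⟩
        have h1 : (⟨x, hx⟩ : H) ^ Nat.card H = 1 := pow_card_eq_one'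
        rw [hH] at h1
        have h2 : x ^ p = 1 := congrArg Subtype.val h1
        exact congrArg Subtype.val h2
      · rw [Subgroup.card_map_of_injective (Subgroup.subtype_injective E), hH]; exact hn1
    have huniq : ∀ H K : Subgroup E, Nat.card H = p → Nat.card K = p → H = K := by
      intro H K hH hK
      apply Subgroup.map_injective (Subgroup.subtype_injective E)
      rw [hmap H hH, hmap K hK]
    rcases Cfsg.Agent.S0016.result (G := E) p hE huniq with h | ⟨h, -⟩
    · exact h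
    · exact absurd h hp
  obtain ⟨hp3, hES, hCZ, hZ2, ⟨e₁, he₁, he₁1, hF8, K, hKE, hKfix, hKcard⟩, hF8le⟩ :=
    thmA hW hp E₀ hcomm₀ hexp hcard₀ hfix₀
  subst hp3
  have hWp : ¬ 3 ∣ Nat.card W := by
    obtain ⟨r, hr⟩ := IsPGroup.iff_card.mp hW
    rw [hr]
    intro h
    have := (Nat.prime_dvd_prime_iff_eq Nat.prime_three Nat.prime_two).mp
      (Nat.prime_three.dvd_of_dvd_pow h)
    omega
  have hfixE : {x : W | ∀ e ∈ E, e x = x} = (center W : Set W) := by
    ext x
    constructor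
    · intro hx
      have : x ∈ fixAll E₀ := fun e he => hx e (hE₀E he)
      rw [hCZ] at this
      exact this
    · intro hx e he
      have hex : e x ∈ center W := apply_mem_center e hx
      by_cases hx1 : x = 1
      · rw [hx1, map_one]
      · obtain ⟨y, -, hy⟩ := (Nat.card_eq_two_iff' (1 : center W)).mp hZ2
        have h1 : (⟨x, hx⟩ : center W) = y := hy _ (fun h => hx1 (congrArg Subtype.val h))
        have h2 : (⟨e x, hex⟩ : center W) = y := hy _ (fun h => hx1 (by
          have : e x = 1 := congrArg Subtype.val h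
          exact (MulEquiv.map_eq_one_iff e).mp this))
        exact congrArg Subtype.val (h2.trans h1.symm)
  have hK3 : Nat.card K ≤ 3 := by
    by_contra hlt
    push Not at hlt
    have hKp : IsPGroup 3 K := hE.to_le (hKE.trans hE₀E)
    obtain ⟨n, hn⟩ := IsPGroup.iff_card.mp hKp
    have h9 : 3 ^ 2 ≤ Nat.card K := by
      rw [hn] at hlt ⊢
      apply Nat.pow_le_pow_right (by norm_num)
      by_contra h
      have h1 : n ≤ 1 := by omega
      have : 3 ^ n ≤ 3 ^ 1 := Nat.pow_le_pow_right (by norm_num) h1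
      omega
    obtain ⟨-, -, hCZK, -, -, -⟩ := thmA hW hp K
      (fun d hd e he => hcomm₀ d (hKE hd) e (hKE he)) (fun e he => hexp e (hKE he)) h9
      (fun e he => hfix₀ e (hKE he))
    have hle : fixSub e₁ ≤ center W := by
      rw [← hCZK]
      intro x hx d hd
      exact hKfix d hd x hx
    have := Subgroup.card_le_of_le hle
    omega
  have hE₀9 : Nat.card E₀ = 9 := by
    have h1 : Nat.card E₀ ≤ 9 := by rw [hKcard]; omega
    have h2 : 9 ≤ Nat.card E₀ := by
      have : (3 : ℕ) ^ 2 = 9 := by norm_num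
      omega
    omega
  have hEE₀ : E ≤ E₀ := by
    intro d hd
    by_contra hdE₀
    have hd3 : d ^ 3 ≠ 1 := fun h => hdE₀ ((hE₀ d).mpr ⟨hd, h⟩)
    obtain ⟨k, hk⟩ := IsPGroup.iff_orderOf.mp hE ⟨d, hd⟩
    have hk' : orderOf d = 3 ^ k := by rw [← hk, Subgroup.orderOf_mk]
    have hk2 : 2 ≤ k := by
      by_contra h
      have hk1 : k ≤ 1 := by omega
      apply hd3
      apply orderOf_dvd_iff_pow_eq_one.mp
      rw [hk']
      simpa using pow_dvd_pow 3 hk1
    obtain ⟨g, hg⟩ : ∃ g, g = d ^ (3 ^ (k - 2)) := ⟨_, rfl⟩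
    obtain ⟨f, hf⟩ : ∃ f, f = g ^ 3 := ⟨_, rfl⟩
    have hgE : g ∈ E := by rw [hg]; exact E.pow_mem hd _
    have hfd : f = d ^ (3 ^ (k - 1)) := by
      rw [hf, hg, ← pow_mul, ← pow_succ]
      congr 2
      omega
    have hf1 : f ≠ 1 := by
      rw [hfd]
      intro h
      have h1 := orderOf_dvd_iff_pow_eq_one.mpr h
      rw [hk'] at h1
      have := (Nat.pow_dvd_pow_iff_le_right (by norm_num : 1 < 3)).mp h1
      omega
    have hf3 : f ^ 3 = 1 := by
      rw [hfd, ← pow_mul, ← pow_succ]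
      have : k - 1 + 1 = k := by omega
      rw [this, ← hk']
      exact pow_orderOf_eq_one d
    have hfE₀ : f ∈ E₀ := (hE₀ f).mpr ⟨by rw [hf]; exact E.pow_mem hgE _, hf3⟩
    have hkey : ∀ e ∈ E₀, e ≠ 1 → fixSub e ≤ fixSub f := by
      intro e he he1 x hx
      have hinvE : ∀ d' ∈ E, ∀ y ∈ fixSub e, d' y ∈ fixSub e := fun d' hd' y hy =>
        apply_mem_fixSub_of_commute (hcommE d' hd' e (hE₀E he)) hy
      have hinvol : ∀ s ∈ fixSub e, ∀ t ∈ fixSub e, orderOf s = 2 → orderOf t = 2 → s = t :=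
        fun s hs t ht hs2 ht2 => hfix e (hE₀E he) he1 s t hs2 ht2 hs ht
      rw [mem_fixSub, hf]
      rcases autQ_res hW hp E hE (fixSub e) hinvE hinvol with h | ⟨-, -, hR3, -, -⟩
      · exact mulAut_pow_apply_of_fixed (h g hgE x hx) 3
      · have h1 : (⟨resHom (fixSub e) E hinvE ⟨g, hgE⟩, ⟨_, rfl⟩⟩ :
            (resHom (fixSub e) E hinvE).range) ^ Nat.card (resHom (fixSub e) E hinvE).range = 1 :=
          pow_card_eq_one'
        rw [hR3] at h1
        have h2 : (resHom (fixSub e) E hinvE ⟨g, hgE⟩) ^ 3 = 1 := congrArg Subtype.val h1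
        rw [← map_pow] at h2
        exact (resHom_eq_one_iff _ _ hinvE _).mp h2 x hx
    have htop : (⊤ : Subgroup W) ≤ fixSub f := by
      apply le_of_fix_inf_le hWp E₀ hcomm₀ hexp hcard₀ ⊤ (fixSub f) (fun _ _ _ _ => mem_top _)
      · intro e he x hx
        exact apply_mem_fixSub_of_commute (hcomm₀ e he f hfE₀) hx
      · intro e he he1 x hx
        exact hkey e he he1 (Subgroup.mem_inf.mp hx).2
    apply hf1
    apply MulEquiv.ext
    intro x
    exact htop (mem_top x)
  have hEeq : E = E₀ := le_antisymm hEE₀ hE₀E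
  obtain ⟨m, hm1, hWcard⟩ := Cfsg.Agent.Helper63.extraspecial_card_odd hES
  have hm2 : m ≠ 1 := by
    rintro rfl
    have htop : fixSub e₁ = ⊤ := Subgroup.eq_top_of_card_eq _ (by rw [hF8, hWcard]; norm_num)
    apply he₁1
    apply MulEquiv.ext
    intro x
    have : x ∈ fixSub e₁ := by rw [htop]; exact mem_top x
    exact this
  have hm4 : Nat.card W ≤ 2 ^ 9 := by
    apply card_le_of_nine hWp E₀ hcomm₀ hexp hE₀9 (comm_mem_center_of_isExtraspecial hES) hZ2
    · intro e he
      rw [← hCZ]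
      intro x hx
      exact hx e he
    · exact hF8le
  have hm4' : m ≤ 4 := by
    rw [hWcard] at hm4
    have := (Nat.pow_le_pow_iff_right (by norm_num : 1 < 2)).mp hm4
    omega
  refine ⟨by rw [hEeq, hE₀9], hES, ?_, hfixE⟩
  have hm' : m = 2 ∨ m = 3 ∨ m = 4 := by omega
  rcases hm' with rfl | rfl | rfl
  · left; rw [hWcard]
  · right; left; rw [hWcard]
  · right; right; rw [hWcard]

end AutRank3

end Cfsg.Agent.Helper48
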