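import Cfsg.Agent.Helper55.BGFpf

/-!
# CALL S1428 (helper68), piece FC2: the section form of `bg_fpf_comm_centralizes`
-/

set_option autoImplicit false

namespace Cfsg.Agent.Helper48

open Subgroup
open scoped Pointwise commutatorElement

universe u

variable {G : Type u} [Group G] [Finite G]

/-- PIECE FC2 -/
theorem bg134_fpf_section (hodd : Odd (Nat.card G)) {r : ℕ} (hr : r.Prime)
    {N Z Y : Subgroup G} {x : G} (hNnil : Group.IsNilpotent N) (hZN : Z ≤ N)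
    (hNZ : N ≤ normalizer (Z : Set G)) (hYN : Y ≤ normalizer (N : Set G))
    (hYZ : Y ≤ normalizer (Z : Set G)) (hxN : x ∈ normalizer (N : Set G))
    (hxZ : x ∈ normalizer (Z : Set G)) (hxY : x ∈ normalizer (Y : Set G))
    (hxr : x ^ r = 1) (hrN : ¬ r ∣ Nat.card N) (hrY : ¬ r ∣ Nat.card Y)
    (hcop : (Nat.card N).Coprime (Nat.card Y))
    (hfix : ∀ a ∈ N, x * a * x⁻¹ * a⁻¹ ∈ Z → a ∈ Z) :
    ∀ y ∈ Y, ∀ a ∈ N,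
      (x * y * x⁻¹ * y⁻¹) * a * (x * y * x⁻¹ * y⁻¹)⁻¹ * a⁻¹ ∈ Z := by
  intro y hy a ha
  obtain ⟨Γ, hΓ⟩ : ∃ Γ : Subgroup G, Γ = normalizer (N : Set G) ⊓ normalizer (Z : Set G) :=
    ⟨_, rfl⟩
  have hΓZ : Γ ≤ normalizer (Z : Set G) := by rw [hΓ]; exact inf_le_right
  have hNΓ : N ≤ Γ := by rw [hΓ]; exact le_inf le_normalizer hNZ
  have hYΓ : Y ≤ Γ := by rw [hΓ]; exact le_inf hYN hYZ
  have hxΓ : x ∈ Γ := by rw [hΓ]; exact ⟨hxN, hxZ⟩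
  have hZΓ : Z ≤ Γ := hZN.trans hNΓ
  have hZn : (Z.subgroupOf Γ).Normal := (normal_subgroupOf_iff_le_normalizer hZΓ).mpr hΓZ
  obtain ⟨π, hπ⟩ : ∃ π : ↥Γ →* ↥Γ ⧸ Z.subgroupOf Γ, π = QuotientGroup.mk' (Z.subgroupOf Γ) :=
    ⟨_, rfl⟩
  have hπ1 : ∀ g : ↥Γ, π g = 1 ↔ (g : G) ∈ Z := by
    intro g
    rw [hπ, QuotientGroup.mk'_apply, QuotientGroup.eq_one_iff, mem_subgroupOf]
  have hoddQ : Odd (Nat.card (↥Γ ⧸ Z.subgroupOf Γ)) := by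
    have h1 : Nat.card (↥Γ ⧸ Z.subgroupOf Γ) ∣ Nat.card ↥Γ :=
      Subgroup.card_dvd_of_surjective π (by rw [hπ]; exact QuotientGroup.mk'_surjective _)
    exact Odd.of_dvd_nat hodd (h1.trans (Subgroup.card_subgroup_dvd_card Γ))
  obtain ⟨N₂, hN₂⟩ : ∃ N₂ : Subgroup (↥Γ ⧸ Z.subgroupOf Γ), N₂ = (N.subgroupOf Γ).map π :=
    ⟨_, rfl⟩
  obtain ⟨Y₂, hY₂⟩ : ∃ Y₂ : Subgroup (↥Γ ⧸ Z.subgroupOf Γ), Y₂ = (Y.subgroupOf Γ).map π :=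
    ⟨_, rfl⟩
  have hcN : Nat.card (N.subgroupOf Γ) = Nat.card N :=
    Nat.card_congr (Subgroup.subgroupOfEquivOfLe hNΓ).toEquiv
  have hcY : Nat.card (Y.subgroupOf Γ) = Nat.card Y :=
    Nat.card_congr (Subgroup.subgroupOfEquivOfLe hYΓ).toEquiv
  have hdN : Nat.card N₂ ∣ Nat.card N := by
    rw [hN₂, ← hcN]; exact Subgroup.card_map_dvd _ π
  have hdY : Nat.card Y₂ ∣ Nat.card Y := by
    rw [hY₂, ← hcY]; exact Subgroup.card_map_dvd _ π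
  have hnil₂ : Group.IsNilpotent N₂ := by
    have : Group.IsNilpotent (N.subgroupOf Γ) :=
      (Group.isNilpotent_congr (Subgroup.subgroupOfEquivOfLe hNΓ)).mpr hNnil
    rw [hN₂]
    exact Group.nilpotent_of_surjective (π.subgroupMap (N.subgroupOf Γ))
      (π.subgroupMap_surjective _)
  -- normalizer facts inside `Γ`
  have hnorm : ∀ (K : Subgroup G) (g : ↥Γ), (g : G) ∈ normalizer (K : Set G) →
      g ∈ normalizer ((K.subgroupOf Γ : Subgroup ↥Γ) : Set ↥Γ) := by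
    intro K g hg
    rw [mem_normalizer_iff]
    intro h
    rw [mem_subgroupOf, mem_subgroupOf]
    exact mem_normalizer_iff.mp hg h
  have hYN₁ : Y.subgroupOf Γ ≤ normalizer ((N.subgroupOf Γ : Subgroup ↥Γ) : Set ↥Γ) := by
    intro g hg
    rw [mem_subgroupOf] at hg
    exact hnorm N g (hYN hg)
  have hYN₂ : Y₂ ≤ normalizer (N₂ : Set (↥Γ ⧸ Z.subgroupOf Γ)) := by
    rw [hY₂, hN₂]
    exact (Subgroup.map_mono hYN₁).trans (le_normalizer_map π)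
  have hxN₂ : π ⟨x, hxΓ⟩ ∈ normalizer (N₂ : Set (↥Γ ⧸ Z.subgroupOf Γ)) := by
    rw [hN₂]
    exact le_normalizer_map π (mem_map_of_mem π (hnorm N ⟨x, hxΓ⟩ hxN))
  have hxY₂ : π ⟨x, hxΓ⟩ ∈ normalizer (Y₂ : Set (↥Γ ⧸ Z.subgroupOf Γ)) := by
    rw [hY₂]
    exact le_normalizer_map π (mem_map_of_mem π (hnorm Y ⟨x, hxΓ⟩ hxY))
  have hxr₂ : (π ⟨x, hxΓ⟩) ^ r = 1 := by
    have h1 : (⟨x, hxΓ⟩ : ↥Γ) ^ r = 1 := Subtype.ext (by simpa using hxr)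
    rw [← map_pow, h1, map_one]
  have hrN₂ : ¬ r ∣ Nat.card N₂ := fun h => hrN (h.trans hdN)
  have hrY₂ : ¬ r ∣ Nat.card Y₂ := fun h => hrY (h.trans hdY)
  have hcop₂ : (Nat.card N₂).Coprime (Nat.card Y₂) :=
    Nat.Coprime.coprime_dvd_left hdN (Nat.Coprime.coprime_dvd_right hdY hcop)
  have hfix₂ : ∀ a' ∈ N₂, π ⟨x, hxΓ⟩ * a' = a' * π ⟨x, hxΓ⟩ → a' = 1 := by
    intro a' ha' hcomm
    rw [hN₂] at ha'
    obtain ⟨b, hb, rfl⟩ := ha'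
    rw [SetLike.mem_coe, mem_subgroupOf] at hb
    have h1 : π (⟨x, hxΓ⟩ * b * (⟨x, hxΓ⟩ : ↥Γ)⁻¹ * b⁻¹) = 1 := by
      rw [map_mul, map_mul, map_mul, map_inv, map_inv, hcomm]; group
    rw [hπ1] at h1
    have h2 : (b : G) ∈ Z := hfix b hb (by simpa using h1)
    exact (hπ1 b).mpr h2
  have hy₂ : π ⟨y, hYΓ hy⟩ ∈ Y₂ := by
    rw [hY₂]; exact mem_map_of_mem π (mem_subgroupOf.mpr hy)
  have ha₂ : π ⟨a, hNΓ ha⟩ ∈ N₂ := by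
    rw [hN₂]; exact mem_map_of_mem π (mem_subgroupOf.mpr ha)
  have key := Cfsg.Agent.Helper55.bg_fpf_comm_centralizes hoddQ hr N₂ Y₂ (π ⟨x, hxΓ⟩) hnil₂ hYN₂
    hxN₂ hxY₂ hxr₂ hrN₂ hrY₂ hcop₂ hfix₂ _ hy₂ _ ha₂
  have h3 : π ((⟨x, hxΓ⟩ * ⟨y, hYΓ hy⟩ * (⟨x, hxΓ⟩ : ↥Γ)⁻¹ * (⟨y, hYΓ hy⟩ : ↥Γ)⁻¹) *
      ⟨a, hNΓ ha⟩ * (⟨x, hxΓ⟩ * ⟨y, hYΓ hy⟩ * (⟨x, hxΓ⟩ : ↥Γ)⁻¹ * (⟨y, hYΓ hy⟩ : ↥Γ)⁻¹)⁻¹ *
      (⟨a, hNΓ ha⟩ : ↥Γ)⁻¹) = 1 := by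
    simp only [map_mul, map_inv]
    rw [key]
    group
  rw [hπ1] at h3
  simpa using h3

end Cfsg.Agent.Helper48
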