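import Cfsg.Agent.Helper35.CoprimeGen
import Cfsg.Agent.Helper48.BG134FC2

/-!
# CALL S1428 (helper68), piece FC3 (FROB-CYC), part a: the argument with FC1 as a hypothesis
-/

set_option autoImplicit false

namespace Cfsg.Agent.Helper48

open Subgroup Cfsg.Agent.Helper35
open scoped Pointwise commutatorElement

universe u

variable {G : Type u} [Group G]

/-- In a finite cyclic group, `orderOf u ∣ orderOf v` implies `u ∈ zpowers v`. -/
theorem fc3_mem_zpowers_of_orderOf_dvd {C : Type*} [Group C] [Finite C] [IsCyclic C] {u v : C}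
    (h : orderOf u ∣ orderOf v) : u ∈ Subgroup.zpowers v := by
  classical
  have := Fintype.ofFinite C
  obtain ⟨c, hc⟩ := h
  have hn : 0 < orderOf u := orderOf_pos u
  have hm : 0 < orderOf v := orderOf_pos v
  have hc0 : c ≠ 0 := by
    rintro rfl
    rw [mul_zero] at hc
    omega
  have hord : orderOf (v ^ c) = orderOf u := by
    rw [orderOf_pow_of_dvd hc0 ⟨orderOf u, by rw [hc, mul_comm]⟩, hc,
      Nat.mul_div_cancel _ (Nat.pos_of_ne_zero hc0)]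
  have hsub : (Finset.range (orderOf u)).image (fun k => (v ^ c) ^ k) ⊆
      Finset.univ.filter (fun a : C => a ^ orderOf u = 1) := by
    intro a ha
    rw [Finset.mem_image] at ha
    obtain ⟨k, -, rfl⟩ := ha
    rw [Finset.mem_filter]
    refine ⟨Finset.mem_univ _, ?_⟩
    rw [← pow_mul, mul_comm, pow_mul, ← hord, pow_orderOf_eq_one, one_pow]
  have hcard : ((Finset.range (orderOf u)).image (fun k => (v ^ c) ^ k)).card = orderOf u := by
    rw [Finset.card_image_of_injOn, Finset.card_range]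
    intro a ha b hb hab
    rw [Finset.coe_range, Set.mem_Iio] at ha hb
    exact pow_injOn_Iio_orderOf (by rw [Set.mem_Iio, hord]; exact ha)
      (by rw [Set.mem_Iio, hord]; exact hb) hab
  have heq := Finset.eq_of_subset_of_card_le hsub
    (by rw [hcard]; exact IsCyclic.card_pow_eq_one_le hn)
  have hu : u ∈ Finset.univ.filter (fun a : C => a ^ orderOf u = 1) := by
    rw [Finset.mem_filter]; exact ⟨Finset.mem_univ _, pow_orderOf_eq_one u⟩
  rw [← heq, Finset.mem_image] at hu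
  obtain ⟨k, -, hk⟩ := hu
  rw [← hk, ← pow_mul]
  exact Subgroup.pow_mem _ (Subgroup.mem_zpowers v) _

/-- In a cyclic `p`-subgroup any two elements are comparable. -/
theorem fc3_cyclic_chain [Finite G] {p : ℕ} [Fact p.Prime] {C : Subgroup G}
    (hcyc : IsCyclic ↥C) (hp : IsPGroup p ↥C) {u v : G} (hu : u ∈ C) (hv : v ∈ C) :
    u ∈ zpowers v ∨ v ∈ zpowers u := by
  have := hcyc
  have key : ∀ w : ↥C, ∃ a, orderOf w = p ^ a := by
    intro w
    obtain ⟨k, hk⟩ := hp w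
    obtain ⟨a, -, ha⟩ := (Nat.dvd_prime_pow (Fact.out : p.Prime)).mp (orderOf_dvd_of_pow_eq_one hk)
    exact ⟨a, ha⟩
  have lift : ∀ (s t : G) (hs : s ∈ C) (ht : t ∈ C),
      orderOf (⟨s, hs⟩ : ↥C) ∣ orderOf (⟨t, ht⟩ : ↥C) → s ∈ zpowers t := by
    intro s t hs ht hdvd
    have h2 := fc3_mem_zpowers_of_orderOf_dvd hdvd
    obtain ⟨k, hk⟩ := Subgroup.mem_zpowers_iff.mp h2
    exact Subgroup.mem_zpowers_iff.mpr ⟨k, by have := congrArg Subtype.val hk; simpa using this⟩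
  obtain ⟨a, ha⟩ := key ⟨u, hu⟩
  obtain ⟨b, hb⟩ := key ⟨v, hv⟩
  rcases le_total a b with hab | hab
  · left
    exact lift u v hu hv (by rw [ha, hb]; exact pow_dvd_pow p hab)
  · right
    exact lift v u hv hu (by rw [ha, hb]; exact pow_dvd_pow p hab)

/-- If `A` normalises `H` and `K`, it normalises `H ⊓ C(K)`. -/
theorem fc3_norm_inf_cent {A H K : Subgroup G} (hH : A ≤ normalizer (H : Set G))
    (hK : A ≤ normalizer (K : Set G)) :
    A ≤ normalizer ((H ⊓ centralizer (K : Set G) : Subgroup G) : Set G) := by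
  apply le_normalizer_of_forall_conj_mem
  intro a ha x hx
  refine Subgroup.mem_inf.mpr ⟨(mem_normalizer_iff.mp (hH ha) x).mp hx.1, ?_⟩
  rw [mem_centralizer_iff]
  intro k hk
  have h1 : a⁻¹ * k * a ∈ K := by
    have := (mem_normalizer_iff.mp (hK (A.inv_mem ha)) k).mp hk
    simpa using this
  have h2 := (mem_centralizer_iff.mp hx.2) _ h1
  calc k * (a * x * a⁻¹) = a * ((a⁻¹ * k * a) * x) * a⁻¹ := by group
    _ = a * (x * (a⁻¹ * k * a)) * a⁻¹ := by rw [h2]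
    _ = a * x * a⁻¹ * k := by group

/-- Elements normalising `Z` and acting trivially on `T` modulo `Z`. -/
def fc3Triv (T Z : Subgroup G) : Subgroup G where
  carrier := {g | g ∈ normalizer (Z : Set G) ∧ ∀ a ∈ T, g * a * g⁻¹ * a⁻¹ ∈ Z}
  one_mem' := ⟨Subgroup.one_mem _, fun a _ => by simp⟩
  mul_mem' := by
    rintro g h ⟨hg, hg'⟩ ⟨hh, hh'⟩
    refine ⟨Subgroup.mul_mem _ hg hh, fun a ha => ?_⟩
    have e : g * h * a * (g * h)⁻¹ * a⁻¹ =
        g * (h * a * h⁻¹ * a⁻¹) * g⁻¹ * (g * a * g⁻¹ * a⁻¹) := by group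
    rw [e]
    exact Z.mul_mem ((mem_normalizer_iff.mp hg _).mp (hh' a ha)) (hg' a ha)
  inv_mem' := by
    rintro g ⟨hg, hg'⟩
    refine ⟨Subgroup.inv_mem _ hg, fun a ha => ?_⟩
    have e : g⁻¹ * a * g⁻¹⁻¹ * a⁻¹ = g⁻¹ * (g * a * g⁻¹ * a⁻¹)⁻¹ * g⁻¹⁻¹ := by group
    rw [e]
    exact (mem_normalizer_iff.mp (Subgroup.inv_mem _ hg) _).mp (Z.inv_mem (hg' a ha))

theorem fc3_pow_conj (ρ a z : G) (hz : ρ * a * ρ⁻¹ = z * a) (hρz : ρ * z = z * ρ) (i : ℕ) :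
    ρ ^ i * a * (ρ ^ i)⁻¹ = z ^ i * a := by
  induction i with
  | zero => simp
  | succ i ih =>
    have e : ρ ^ (i + 1) * a * (ρ ^ (i + 1))⁻¹ = ρ * (ρ ^ i * a * (ρ ^ i)⁻¹) * ρ⁻¹ := by
      rw [pow_succ']; group
    have hc : ρ * z ^ i = z ^ i * ρ := (Commute.pow_right (show Commute ρ z from hρz) i).eq
    rw [e, ih]
    calc ρ * (z ^ i * a) * ρ⁻¹ = (ρ * z ^ i) * a * ρ⁻¹ := by group
      _ = z ^ i * (ρ * a * ρ⁻¹) := by rw [hc]; group
      _ = z ^ (i + 1) * a := by rw [hz, pow_succ]; group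

theorem fc3_comm_calc (c y ρ d : G) (hd : c * y * c⁻¹ = d * y) (h1 : d * ρ = ρ * d)
    (h2 : d * (y * ρ * y⁻¹ * ρ⁻¹) = (y * ρ * y⁻¹ * ρ⁻¹) * d) (h3 : c * ρ = ρ * c) :
    (y * ρ * y⁻¹ * ρ⁻¹) * c = c * (y * ρ * y⁻¹ * ρ⁻¹) := by
  have hcρ : c * ρ * c⁻¹ = ρ := by rw [h3]; group
  have e1 : c * (y * ρ * y⁻¹ * ρ⁻¹) * c⁻¹ =
      (c * y * c⁻¹) * (c * ρ * c⁻¹) * (c * y * c⁻¹)⁻¹ * (c * ρ * c⁻¹)⁻¹ := by group
  have h1' : d⁻¹ * ρ⁻¹ = ρ⁻¹ * d⁻¹ := by
    rw [← mul_inv_rev, ← mul_inv_rev, h1]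
  have e2 : d * y * ρ * (d * y)⁻¹ * ρ⁻¹ = d * y * ρ * y⁻¹ * (d⁻¹ * ρ⁻¹) := by group
  have e3 : d * y * ρ * y⁻¹ * (ρ⁻¹ * d⁻¹) = d * (y * ρ * y⁻¹ * ρ⁻¹) * d⁻¹ := by group
  have e4 : c * (y * ρ * y⁻¹ * ρ⁻¹) * c⁻¹ = y * ρ * y⁻¹ * ρ⁻¹ := by
    rw [e1, hd, hcρ, e2, h1', e3, h2]; group
  calc (y * ρ * y⁻¹ * ρ⁻¹) * c = (c * (y * ρ * y⁻¹ * ρ⁻¹) * c⁻¹) * c := by rw [e4]
    _ = c * (y * ρ * y⁻¹ * ρ⁻¹) := by group

theorem fc3_pow_card [Finite G] {R : Subgroup G} {r : ℕ} (hR : Nat.card R = r) {ρ : G}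
    (hρ : ρ ∈ R) : ρ ^ r = 1 := by
  have h1 : (⟨ρ, hρ⟩ : ↥R) ^ Nat.card R = 1 := pow_card_eq_one'
  rw [hR] at h1
  have h2 := congrArg Subtype.val h1
  simpa using h2

theorem fc3_coprime_card [Finite G] {p : ℕ} [Fact p.Prime] {T U R : Subgroup G}
    (hT : IsPGroup p T) (hUT : U ≤ T) {r : ℕ} (hr : r.Prime) (hR : Nat.card R = r)
    (hrp : r ≠ p) : (Nat.card R).Coprime (Nat.card U) := by
  obtain ⟨k, hk⟩ := IsPGroup.iff_card.mp (hT.to_le hUT)
  rw [hR, hk]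
  exact Nat.Coprime.pow_right k ((Nat.coprime_primes hr Fact.out).mpr hrp)

/-- Step 7: `R` centralises the cyclic group `T ⊓ C(Q₁)`. -/
theorem fc3_R_cent [Finite G] {p : ℕ} [Fact p.Prime] {T Q₁ R : Subgroup G} (hT : IsPGroup p T)
    (hRT : R ≤ normalizer (T : Set G)) (hRQ : R ≤ normalizer (Q₁ : Set G))
    {r : ℕ} (hr : r.Prime) (hR : Nat.card R = r) (hrp : r ≠ p)
    (hcQ : IsCyclic ↥(T ⊓ centralizer (Q₁ : Set G)))
    {x₀ : G} (hx₀ : x₀ ∈ T) (hx₀1 : x₀ ≠ 1) (hx₀Q : x₀ ∈ centralizer (Q₁ : Set G))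
    (hx₀R : x₀ ∈ centralizer (R : Set G)) :
    T ⊓ centralizer (Q₁ : Set G) ≤ centralizer (R : Set G) := by
  obtain ⟨Y0, hY0⟩ : ∃ Y0 : Subgroup G, Y0 = T ⊓ centralizer (Q₁ : Set G) := ⟨_, rfl⟩
  rw [← hY0] at hcQ ⊢
  have hY0T : Y0 ≤ T := by rw [hY0]; exact inf_le_left
  have hRY0 : R ≤ normalizer (Y0 : Set G) := by rw [hY0]; exact fc3_norm_inf_cent hRT hRQ
  have hY0p : IsPGroup p ↥Y0 := hT.to_le hY0T
  have hcomm : ∀ x ∈ Y0, ∀ y ∈ Y0, x * y = y * x := by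
    intro x hx y hy
    have := hcQ
    let _ := IsCyclic.commGroup (α := ↥Y0)
    exact congrArg Subtype.val (mul_comm (⟨x, hx⟩ : ↥Y0) ⟨y, hy⟩)
  have hcop : (Nat.card R).Coprime (Nat.card Y0) := fc3_coprime_card hT hY0T hr hR hrp
  have hbot := commutator_inf_centralizer_eq_bot_of_comm hRY0 hcop hcomm
  have hx₀Y : x₀ ∈ Y0 := by rw [hY0]; exact ⟨hx₀, hx₀Q⟩
  have hcomY : (⁅Y0, R⁆ : Subgroup G) ≤ Y0 := commutator_le_of_le_normalizer hRY0
  rw [← Subgroup.commutator_eq_bot_iff_le_centralizer]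
  by_contra hne
  obtain ⟨w, hw, hw1⟩ := (Subgroup.bot_or_exists_ne_one _).resolve_left hne
  rcases fc3_cyclic_chain hcQ hY0p (hcomY hw) hx₀Y with h | h
  · have h1 : w ∈ centralizer (R : Set G) := (Subgroup.zpowers_le.mpr hx₀R) h
    have h2 : w ∈ (⁅Y0, R⁆ : Subgroup G) ⊓ centralizer (R : Set G) := ⟨hw, h1⟩
    rw [hbot, Subgroup.mem_bot] at h2
    exact hw1 h2
  · have h1 : x₀ ∈ (⁅Y0, R⁆ : Subgroup G) := (Subgroup.zpowers_le.mpr hw) h
    have h2 : x₀ ∈ (⁅Y0, R⁆ : Subgroup G) ⊓ centralizer (R : Set G) := ⟨h1, hx₀R⟩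
    rw [hbot, Subgroup.mem_bot] at h2
    exact hx₀1 h2

/-- Step 8: the fixed points of `R` on the class-two group `T1` are central. -/
theorem fc3_fixed_central [Finite G] {p : ℕ} [Fact p.Prime] {T T1 R : Subgroup G}
    (hT : IsPGroup p T) (hT1T : T1 ≤ T) (hRT1 : R ≤ normalizer (T1 : Set G)) {r : ℕ}
    (hr : r.Prime) (hR : Nat.card R = r) (hrp : r ≠ p)
    (hcR : IsCyclic ↥(T ⊓ centralizer (R : Set G)))
    (hDZ : (⁅T1, T1⁆ : Subgroup G) ≤ centralizer (T1 : Set G))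
    (hDR : (⁅T1, T1⁆ : Subgroup G) ≤ centralizer (R : Set G)) :
    T1 ⊓ centralizer (R : Set G) ≤ centralizer (T1 : Set G) := by
  intro c hc
  obtain ⟨hcT1, hcR'⟩ := hc
  have hT1p : IsPGroup p ↥T1 := hT.to_le hT1T
  have hcop : (Nat.card R).Coprime (Nat.card T1) := fc3_coprime_card hT hT1T hr hR hrp
  have hsolv : Group.IsSolvable ↥T1 := by
    have := hT1p.isNilpotent
    infer_instance
  have h1 : (⁅T1, R⁆ : Subgroup G) ≤ centralizer ({c} : Set G) := by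
    rw [Subgroup.commutator_le]
    intro y hy ρ hρ
    rw [mem_centralizer_iff]
    intro c' hc'
    rw [Set.mem_singleton_iff] at hc'
    subst hc'
    rw [commutatorElement_def]
    obtain ⟨d, hd⟩ : ∃ d, d = c' * y * c'⁻¹ * y⁻¹ := ⟨_, rfl⟩
    have hdD : d ∈ (⁅T1, T1⁆ : Subgroup G) := by
      rw [hd, ← commutatorElement_def]; exact Subgroup.commutator_mem_commutator hcT1 hy
    have hcy : c' * y * c'⁻¹ = d * y := by rw [hd]; group
    have hdρ : d * ρ = ρ * d := ((mem_centralizer_iff.mp (hDR hdD)) ρ hρ).symm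
    have hw : y * ρ * y⁻¹ * ρ⁻¹ ∈ T1 := by
      have h3 : ρ * y⁻¹ * ρ⁻¹ ∈ T1 := (mem_normalizer_iff.mp (hRT1 hρ) _).mp (T1.inv_mem hy)
      have e : y * ρ * y⁻¹ * ρ⁻¹ = y * (ρ * y⁻¹ * ρ⁻¹) := by group
      rw [e]; exact T1.mul_mem hy h3
    have hdw : d * (y * ρ * y⁻¹ * ρ⁻¹) = (y * ρ * y⁻¹ * ρ⁻¹) * d :=
      ((mem_centralizer_iff.mp (hDZ hdD)) _ hw).symm
    have hcρ : c' * ρ = ρ * c' := ((mem_centralizer_iff.mp hcR') ρ hρ).symm
    exact (fc3_comm_calc c' y ρ d hcy hdρ hdw hcρ).symm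
  rw [mem_centralizer_iff]
  intro t ht
  obtain ⟨n, hn, f, hf, rfl⟩ := exists_commutator_mul_fixed hRT1 hcop (Or.inr hsolv) ht
  have hnc : n * c = c * n :=
    ((mem_centralizer_iff.mp (h1 hn)) c (Set.mem_singleton c)).symm
  have hfc : f * c = c * f := by
    have := hcR
    let _ := IsCyclic.commGroup (α := ↥(T ⊓ centralizer (R : Set G)))
    have hf' : f ∈ T ⊓ centralizer (R : Set G) := ⟨hT1T hf.1, hf.2⟩
    have hc' : c ∈ T ⊓ centralizer (R : Set G) := ⟨hT1T hcT1, hcR'⟩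
    exact congrArg Subtype.val
      (mul_comm (⟨f, hf'⟩ : ↥(T ⊓ centralizer (R : Set G))) ⟨c, hc'⟩)
  calc n * f * c = n * (f * c) := by group
    _ = n * (c * f) := by rw [hfc]
    _ = (n * c) * f := by group
    _ = c * n * f := by rw [hnc]
    _ = c * (n * f) := by group

/-- Step 9, the fixed-point hypothesis of FC2. -/
theorem fc3_hfix [Finite G] {T1 R : Subgroup G} {r : ℕ} (hr : r.Prime) (hR : Nat.card R = r)
    (hrT1 : ¬ r ∣ Nat.card T1)
    (hZR : T1 ⊓ centralizer (T1 : Set G) ≤ centralizer (R : Set G))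
    (hfixc : T1 ⊓ centralizer (R : Set G) ≤ centralizer (T1 : Set G))
    {ρ : G} (hρ : ρ ∈ R) (hρ1 : ρ ≠ 1) :
    ∀ a ∈ T1, ρ * a * ρ⁻¹ * a⁻¹ ∈ T1 ⊓ centralizer (T1 : Set G) →
      a ∈ T1 ⊓ centralizer (T1 : Set G) := by
  intro a ha hz
  obtain ⟨z, hzdef⟩ : ∃ z, z = ρ * a * ρ⁻¹ * a⁻¹ := ⟨_, rfl⟩
  rw [← hzdef] at hz
  have hza : ρ * a * ρ⁻¹ = z * a := by rw [hzdef]; group
  have hρz : ρ * z = z * ρ := (mem_centralizer_iff.mp (hZR hz)) ρ hρ
  have hρr : ρ ^ r = 1 := fc3_pow_card hR hρ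
  have hpow := fc3_pow_conj ρ a z hza hρz r
  rw [hρr] at hpow
  have hzr : z ^ r = 1 := by
    have h1 : a = z ^ r * a := by simpa using hpow
    exact mul_eq_right.mp h1.symm
  have hz1 : z = 1 := by
    have hdvd : orderOf z ∣ r := orderOf_dvd_of_pow_eq_one hzr
    rcases (Nat.dvd_prime hr).mp hdvd with h | h
    · exact orderOf_eq_one_iff.mp h
    · exfalso
      apply hrT1
      rw [← h]
      exact Subgroup.orderOf_dvd_natCard T1 hz.1
  have hcomm : ρ * a = a * ρ := by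
    have h1 : ρ * a * ρ⁻¹ = a := by rw [hza, hz1, one_mul]
    calc ρ * a = (ρ * a * ρ⁻¹) * ρ := by group
      _ = a * ρ := by rw [h1]
  have haR : a ∈ centralizer (R : Set G) := by
    have : Fact r.Prime := ⟨hr⟩
    have htop : Subgroup.zpowers (⟨ρ, hρ⟩ : ↥R) = ⊤ :=
      zpowers_eq_top_of_prime_card hR (by intro h; exact hρ1 (congrArg Subtype.val h))
    rw [mem_centralizer_iff]
    intro h hh
    have hmem : (⟨h, hh⟩ : ↥R) ∈ Subgroup.zpowers (⟨ρ, hρ⟩ : ↥R) := by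
      rw [htop]; exact Subgroup.mem_top _
    obtain ⟨k, hk⟩ := Subgroup.mem_zpowers_iff.mp hmem
    have hk' : ρ ^ k = h := by have := congrArg Subtype.val hk; simpa using this
    rw [← hk']
    exact (Commute.zpow_left (show Commute ρ a from hcomm) k).eq
  exact ⟨ha, hfixc ⟨ha, haR⟩⟩

/-- FROB-CYC with FC1 as a hypothesis. -/
theorem bg134_frob_cyc_aux [Finite G] (hodd : Odd (Nat.card G)) {p : ℕ} [Fact p.Prime]
    {T Q₁ R : Subgroup G} (hT : IsPGroup p T) (hQT : Q₁ ≤ normalizer (T : Set G))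
    (hRT : R ≤ normalizer (T : Set G)) (hRQ : R ≤ normalizer (Q₁ : Set G))
    {r : ℕ} (hr : r.Prime) (hR : Nat.card R = r) (hrp : r ≠ p)
    (hQp : ¬ p ∣ Nat.card Q₁) (hQr : ¬ r ∣ Nat.card Q₁) (hQ1 : ⁅Q₁, R⁆ = Q₁)
    (hQsolv : Group.IsSolvable Q₁)
    (hTnc : ¬ IsCyclic ↥T) (hcQ : IsCyclic ↥(T ⊓ centralizer (Q₁ : Set G)))
    (hcR : IsCyclic ↥(T ⊓ centralizer (R : Set G)))
    (hFC1 : ∀ (U : Subgroup G) (x₀ : G), U ≤ T → (∀ x ∈ U, ∀ y ∈ U, x * y = y * x) →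
      Q₁ ≤ normalizer (U : Set G) → R ≤ normalizer (U : Set G) → x₀ ∈ T → x₀ ≠ 1 →
      x₀ ∈ centralizer (Q₁ : Set G) → x₀ ∈ centralizer (R : Set G) →
      U ≤ centralizer (Q₁ : Set G)) :
    T ⊓ centralizer (Q₁ : Set G) ⊓ centralizer (R : Set G) = ⊥ := by
  classical
  by_contra hne
  obtain ⟨x₀, hx₀mem, hx₀1⟩ := (Subgroup.bot_or_exists_ne_one _).resolve_left hne
  obtain ⟨⟨hx₀T, hx₀Q⟩, hx₀R⟩ := hx₀mem
  have hp : p.Prime := Fact.out
  have hTQ : ¬ T ≤ centralizer (Q₁ : Set G) := by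
    intro h
    apply hTnc
    rw [inf_eq_left.mpr h] at hcQ
    exact hcQ
  obtain ⟨T1, ⟨hT1T, hQT1, hRT1, hT1Q⟩, hmin⟩ : ∃ T1 : Subgroup G,
      (T1 ≤ T ∧ Q₁ ≤ normalizer (T1 : Set G) ∧ R ≤ normalizer (T1 : Set G) ∧
        ¬ T1 ≤ centralizer (Q₁ : Set G)) ∧
      ∀ U : Subgroup G, U ≤ T → Q₁ ≤ normalizer (U : Set G) → R ≤ normalizer (U : Set G) →
        ¬ U ≤ centralizer (Q₁ : Set G) → Nat.card T1 ≤ Nat.card U := by
    have hex : ∃ n, ∃ U : Subgroup G, (U ≤ T ∧ Q₁ ≤ normalizer (U : Set G) ∧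
        R ≤ normalizer (U : Set G) ∧ ¬ U ≤ centralizer (Q₁ : Set G)) ∧ Nat.card U = n :=
      ⟨_, T, ⟨le_rfl, hQT, hRT, hTQ⟩, rfl⟩
    obtain ⟨U, hU, hUcard⟩ := Nat.find_spec hex
    refine ⟨U, hU, fun V h1 h2 h3 h4 => ?_⟩
    rw [hUcard]
    exact Nat.find_min' hex ⟨V, ⟨h1, h2, h3, h4⟩, rfl⟩
  have hT1p : IsPGroup p ↥T1 := hT.to_le hT1T
  obtain ⟨k, hk⟩ := IsPGroup.iff_card.mp hT1p
  have hcopQ : (Nat.card Q₁).Coprime (Nat.card T1) := by
    rw [hk]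
    exact Nat.Coprime.pow_right k
      (Nat.Coprime.symm ((Nat.Prime.coprime_iff_not_dvd hp).mpr hQp))
  have hrT1 : ¬ r ∣ Nat.card T1 := by
    rw [hk]; intro h
    exact hrp ((Nat.prime_dvd_prime_iff_eq hr hp).mp (hr.dvd_of_dvd_pow h))
  -- `T1` is not abelian
  have hT1nab : ¬ T1 ≤ centralizer (T1 : Set G) := by
    intro hab
    apply hT1Q
    refine hFC1 T1 x₀ hT1T (fun x hx y hy => ?_) hQT1 hRT1 hx₀T hx₀1 hx₀Q hx₀R
    exact (mem_centralizer_iff.mp (hab hy)) x hx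
  -- step 4
  have hcomle : (⁅T1, Q₁⁆ : Subgroup G) ≤ T1 := commutator_le_of_le_normalizer hQT1
  have hcomeq : (⁅T1, Q₁⁆ : Subgroup G) = T1 := by
    apply Subgroup.eq_of_le_of_card_ge hcomle
    apply hmin _ (hcomle.trans hT1T) (le_normalizer_commutator' hQT1 le_normalizer)
      (le_normalizer_commutator' hRT1 hRQ)
    intro hcen
    apply hT1Q
    rw [← Subgroup.commutator_eq_bot_iff_le_centralizer] at hcen ⊢
    rw [← commutator_commutator_eq_of_coprime hQT1 hcopQ (Or.inl hQsolv)]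
    exact hcen
  -- step 5
  obtain ⟨Z, hZ⟩ : ∃ Z : Subgroup G, Z = T1 ⊓ centralizer (T1 : Set G) := ⟨_, rfl⟩
  obtain ⟨D, hD⟩ : ∃ D : Subgroup G, D = ⁅T1, T1⁆ := ⟨_, rfl⟩
  have hZT1 : Z ≤ T1 := by rw [hZ]; exact inf_le_left
  have hDT1 : D ≤ T1 := by rw [hD]; exact commutator_le_of_le_normalizer le_normalizer
  have hZlt : Nat.card Z < Nat.card T1 := by
    by_contra hge
    push Not at hge
    have hZeq : Z = T1 := Subgroup.eq_of_le_of_card_ge hZT1 hge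
    apply hT1nab
    intro t ht
    have h1 : t ∈ Z := by rw [hZeq]; exact ht
    rw [hZ] at h1
    exact h1.2
  have hDlt : Nat.card D < Nat.card T1 := by
    by_contra hge
    push Not at hge
    have hDeq : D = T1 := Subgroup.eq_of_le_of_card_ge hDT1 hge
    have : Nontrivial ↥T1 := by
      by_contra hnt
      rw [not_nontrivial_iff_subsingleton] at hnt
      apply hT1nab
      intro t ht
      rw [mem_centralizer_iff]
      intro s hs
      have h1 : (⟨t, ht⟩ : ↥T1) = ⟨s, hs⟩ := Subsingleton.elim _ _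
      have h2 : t = s := congrArg Subtype.val h1
      rw [h2]
    have : Group.IsNilpotent ↥T1 := hT1p.isNilpotent
    have hlt : _root_.commutator ↥T1 < ⊤ := Group.IsSolvable.commutator_lt_top_of_nontrivial ↥T1
    have hmap : (_root_.commutator ↥T1).map T1.subtype = ⁅T1, T1⁆ :=
      Subgroup.map_subtype_commutator T1
    rw [← hD, hDeq] at hmap
    have htop : _root_.commutator ↥T1 = ⊤ := by
      apply Subgroup.map_injective T1.subtype_injective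
      rw [hmap, ← MonoidHom.range_eq_map, Subgroup.range_subtype]
    exact hlt.ne htop
  have hQZ : Q₁ ≤ normalizer (Z : Set G) := by rw [hZ]; exact fc3_norm_inf_cent hQT1 hQT1
  have hRZ : R ≤ normalizer (Z : Set G) := by rw [hZ]; exact fc3_norm_inf_cent hRT1 hRT1
  have hQD : Q₁ ≤ normalizer (D : Set G) := by
    rw [hD]; exact le_normalizer_commutator' hQT1 hQT1
  have hRD : R ≤ normalizer (D : Set G) := by
    rw [hD]; exact le_normalizer_commutator' hRT1 hRT1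
  have hZcQ : Z ≤ centralizer (Q₁ : Set G) := by
    by_contra h
    exact absurd (hmin Z (hZT1.trans hT1T) hQZ hRZ h) (not_le.mpr hZlt)
  have hDcQ : D ≤ centralizer (Q₁ : Set G) := by
    by_contra h
    exact absurd (hmin D (hDT1.trans hT1T) hQD hRD h) (not_le.mpr hDlt)
  -- step 6
  have hDcT1 : D ≤ centralizer (T1 : Set G) := by
    have h1 : (⁅⁅Q₁, D⁆, T1⁆ : Subgroup G) = ⊥ := by
      have h0 : (⁅Q₁, D⁆ : Subgroup G) = ⊥ := by
        rw [Subgroup.commutator_comm, Subgroup.commutator_eq_bot_iff_le_centralizer]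
        exact hDcQ
      rw [h0, Subgroup.commutator_bot_left]
    have h2 : (⁅⁅D, T1⁆, Q₁⁆ : Subgroup G) = ⊥ := by
      rw [Subgroup.commutator_eq_bot_iff_le_centralizer]
      have h3 : (⁅D, T1⁆ : Subgroup G) ≤ D := by
        apply commutator_le_of_le_normalizer
        rw [hD]; exact le_normalizer_commutator' le_normalizer le_normalizer
      exact h3.trans hDcQ
    have h3 := Subgroup.commutator_commutator_eq_bot_of_rotate h1 h2
    rw [hcomeq, Subgroup.commutator_eq_bot_iff_le_centralizer] at h3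
    exact Subgroup.le_centralizer_iff.mp h3
  -- step 7
  have hY0R := fc3_R_cent hT hRT hRQ hr hR hrp hcQ hx₀T hx₀1 hx₀Q hx₀R
  have hZcR : Z ≤ centralizer (R : Set G) := fun z hz => hY0R ⟨hT1T (hZT1 hz), hZcQ hz⟩
  have hDcR : D ≤ centralizer (R : Set G) := fun z hz => hY0R ⟨hT1T (hDT1 hz), hDcQ hz⟩
  -- step 8
  have hfixc : T1 ⊓ centralizer (R : Set G) ≤ centralizer (T1 : Set G) :=
    fc3_fixed_central hT hT1T hRT1 hr hR hrp hcR (by rw [← hD]; exact hDcT1)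
      (by rw [← hD]; exact hDcR)
  -- step 9
  have hT1Z : T1 ≤ normalizer (Z : Set G) := by
    rw [hZ]; exact fc3_norm_inf_cent le_normalizer le_normalizer
  have hnil : Group.IsNilpotent ↥T1 := hT1p.isNilpotent
  have hQle : Q₁ ≤ fc3Triv T1 Z := by
    have h0 : (⁅Q₁, R⁆ : Subgroup G) ≤ fc3Triv T1 Z := by
      rw [Subgroup.commutator_le]
      intro y hy ρ hρ
      have e : ⁅y, ρ⁆ = (ρ * y * ρ⁻¹ * y⁻¹)⁻¹ := by rw [commutatorElement_def]; group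
      rw [e]
      apply Subgroup.inv_mem
      by_cases hρ1 : ρ = 1
      · subst hρ1
        have e1 : (1 : G) * y * 1⁻¹ * y⁻¹ = 1 := by group
        rw [e1]; exact Subgroup.one_mem _
      · refine ⟨?_, ?_⟩
        · exact Subgroup.mul_mem _ (Subgroup.mul_mem _ (Subgroup.mul_mem _ (hRZ hρ) (hQZ hy))
            (Subgroup.inv_mem _ (hRZ hρ))) (Subgroup.inv_mem _ (hQZ hy))
        · intro a ha
          have hfix : ∀ a ∈ T1, ρ * a * ρ⁻¹ * a⁻¹ ∈ Z → a ∈ Z := by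
            rw [hZ]
            exact fc3_hfix hr hR hrT1 (by rw [← hZ]; exact hZcR) hfixc hρ hρ1
          exact bg134_fpf_section hodd hr hnil hZT1 hT1Z hQT1 hQZ (hRT1 hρ) (hRZ hρ)
            (hRQ hρ) (fc3_pow_card hR hρ) hrT1 hQr hcopQ.symm hfix y hy a ha
    rwa [hQ1] at h0
  have hle : (⁅T1, Q₁⁆ : Subgroup G) ≤ Z := by
    rw [Subgroup.commutator_le]
    intro a ha g hg
    have h1 := (hQle hg).2 a ha
    have e : ⁅a, g⁆ = (g * a * g⁻¹ * a⁻¹)⁻¹ := by rw [commutatorElement_def]; group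
    rw [e]; exact Z.inv_mem h1
  rw [hcomeq] at hle
  apply hT1nab
  intro t ht
  have h1 := hle ht
  rw [hZ] at h1
  exact h1.2

end Cfsg.Agent.Helper48
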