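import Cfsg.Agent.Helper88.BG134FC1
import Cfsg.Agent.Helper48.BG134FC3a

/-!
# CALL S1428 (helper68), piece FC3 (FROB-CYC)
-/

set_option autoImplicit false

namespace Cfsg.Agent.Helper48

open Cfsg Subgroup Cfsg.Agent.Helper23 Cfsg.Agent.Helper35 Cfsg.Agent.Helper22 Cfsg.Agent.Helper68
open scoped Pointwise commutatorElement

universe u

variable {G : Type u} [Group G] [Finite G]

/-- PIECE FC3 (FROB-CYC) -/
theorem bg134_frob_cyc (hodd : Odd (Nat.card G)) {p : ℕ} [Fact p.Prime]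
    {T Q₁ R : Subgroup G} (hT : IsPGroup p T) (hQT : Q₁ ≤ normalizer (T : Set G))
    (hRT : R ≤ normalizer (T : Set G)) (hRQ : R ≤ normalizer (Q₁ : Set G))
    {r : ℕ} (hr : r.Prime) (hR : Nat.card R = r) (hrp : r ≠ p)
    (hQp : ¬ p ∣ Nat.card Q₁) (hQr : ¬ r ∣ Nat.card Q₁) (hQ1 : ⁅Q₁, R⁆ = Q₁)
    (hQsolv : Group.IsSolvable Q₁)
    (hTnc : ¬ IsCyclic ↥T) (hcQ : IsCyclic ↥(T ⊓ centralizer (Q₁ : Set G)))
    (hcR : IsCyclic ↥(T ⊓ centralizer (R : Set G))) :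
    T ⊓ centralizer (Q₁ : Set G) ⊓ centralizer (R : Set G) = ⊥ := by
  exact bg134_frob_cyc_aux hodd hT hQT hRT hRQ hr hR hrp hQp hQr hQ1 hQsolv hTnc hcQ hcR
    (fun U x₀ hUT hUab hQU hRU hx₀ hx₀1 hx₀Q hx₀R =>
      Cfsg.Agent.Helper88.bg134_fc_abelian hodd hT hUT hUab hQU hRU hRQ hr hR hrp hQp hQr hQ1
        hcR hx₀ hx₀1 hx₀Q hx₀R)

end Cfsg.Agent.Helper48
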