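import Mathlib
import Cfsg.Agent.Helper48.BkHCore
import Cfsg.Agent.Helper47.BkF
import Cfsg.Agent.Helper52.BkG

/-!
# Blackburn, piece H: lifting maximal class from `R ⧸ ⟨z⟩` to `R` for `3`-groups
-/

set_option autoImplicit false

namespace Cfsg.Agent.Helper48

/-- PIECE H of CALL S3888. -/
theorem bk_lift_maxclass {R : Type*} [Group R] [Finite R] (n : ℕ) (hn : Nat.card R = 3 ^ n)
    (hS : ∀ S : Subgroup R, (∀ s ∈ S, s ^ 3 = 1) → Nat.card S ≤ 3 ^ 2)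
    (c : ℕ) (hc1 : 1 ≤ c) (hc : (⊤ : Subgroup R).lowerCentralSeries c ≠ ⊥)
    (hc' : (⊤ : Subgroup R).lowerCentralSeries (c + 1) = ⊥)
    (z : R) (hzL : z ∈ (⊤ : Subgroup R).lowerCentralSeries c) (hz3 : z ^ 3 = 1) (hz1 : z ≠ 1)
    [(Subgroup.zpowers z).Normal]
    (hQ : Group.nilpotencyClass (R ⧸ Subgroup.zpowers z) = n - 2) :
    Group.nilpotencyClass R = n - 1 := by
  have hp3 : Fact (Nat.Prime 3) := ⟨Nat.prime_three⟩
  exact bkH_core n hn (fun X _ _ h1 h2 h3 => Helper47.bk_cube_81 h1 h2 h3)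
    (fun h1 h2 h3 => Helper52.bk_comm_card h1 h2 h3) hS c hc1 hc hc' z hzL hz3 hz1 hQ

end Cfsg.Agent.Helper48
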