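import Cfsg.Agent.Helper96.CWDefs

/-!
# CALL S5707, piece SB4 (helper48): symplectic basis in dimension 4, characteristic 2.
-/

set_option autoImplicit false
set_option linter.unusedSectionVars false
set_option linter.unusedSimpArgs false
set_option linter.unusedVariables false

namespace Cfsg.Agent.Helper48.CWSB4

open Matrix Cfsg Cfsg.Geo Cfsg.Agent.Helper96 Cfsg.Agent.Helper96.CW

variable {F : Type*} [Field F] {k t : ℕ}

theorem gram_entry {n : ℕ} (G A : Matrix (Fin n) (Fin n) F) (i j : Fin n) :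
    (Aᵀ * G * A) i j = T5.bf G (fun r => A r i) (fun r => A r j) := by
  have h1 : T5.bf G (A *ᵥ Pi.single i 1) (A *ᵥ Pi.single j 1) = (Aᵀ * G * A) i j := by
    rw [T5.bf_mulVec_left, T5.bf_mulVec_right]
    simp [T5.bf, Matrix.mulVec_single_one, single_one_dotProduct]
  rw [← h1]
  congr 1
  · funext r
    simp [Matrix.mulVec_single_one]
  · funext r
    simp [Matrix.mulVec_single_one]

theorem g4_sq : G4 F * G4 F = 1 := by
  ext i j
  fin_cases i <;> fin_cases j <;> simp [G4, Matrix.mul_apply, Fin.sum_univ_four]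

/-- PIECE SB4: symplectic basis in dimension 4 (characteristic 2). -/
theorem sb4 (h2 : (2 : F) = 0) (G : Matrix (Fin 4) (Fin 4) F) (halt : ∀ u, T5.bf G u u = 0)
    (hdet : G.det ≠ 0) :
    ∃ A Ainv : Matrix (Fin 4) (Fin 4) F, A * Ainv = 1 ∧ Ainv * A = 1 ∧ Aᵀ * G * A = G4 F := by
  classical
  have h11 : (1 : F) + 1 = 0 := by rw [one_add_one_eq_two]; exact h2
  have hneg : (-1 : F) = 1 := by linear_combination -h11
  have hsw : ∀ x y, T5.bf G x y = - T5.bf G y x := T5.bf_swap G halt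
  -- first hyperbolic pair
  obtain ⟨u1, hu1⟩ : ∃ u1 : Fin 4 → F, u1 = Pi.single 0 1 := ⟨_, rfl⟩
  have hu1ne : u1 ≠ 0 := by
    intro h
    have := congrFun h 0
    rw [hu1] at this
    simp at this
  obtain ⟨v1, huv1⟩ := T5.exists_bf_eq_one G hdet u1 hu1ne
  -- a nonzero vector orthogonal to both
  obtain ⟨M, hM⟩ : ∃ M : Matrix (Fin 4) (Fin 4) F,
      M = Matrix.of ![G *ᵥ u1, G *ᵥ v1, 0, 0] := ⟨_, rfl⟩
  have hMdet : M.det = 0 := by
    apply Matrix.det_eq_zero_of_row_eq_zero (2 : Fin 4)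
    intro j
    rw [hM]
    rfl
  obtain ⟨u2, hu2ne, hu2⟩ := Matrix.exists_mulVec_eq_zero_iff.mpr hMdet
  have hu2u1 : T5.bf G u2 u1 = 0 := by
    have h := congrFun hu2 0
    rw [hM] at h
    have h' : (G *ᵥ u1) ⬝ᵥ u2 = 0 := h
    rw [T5.bf, dotProduct_comm]
    exact h'
  have hu2v1 : T5.bf G u2 v1 = 0 := by
    have h := congrFun hu2 1
    rw [hM] at h
    have h' : (G *ᵥ v1) ⬝ᵥ u2 = 0 := h
    rw [T5.bf, dotProduct_comm]
    exact h'
  obtain ⟨w, hw⟩ := T5.exists_bf_eq_one G hdet u2 hu2ne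
  obtain ⟨v2, hv2⟩ : ∃ v2 : Fin 4 → F,
      v2 = w - T5.bf G w v1 • u1 + T5.bf G w u1 • v1 := ⟨_, rfl⟩
  have hu1u2 : T5.bf G u1 u2 = 0 := by rw [hsw, hu2u1, neg_zero]
  have hv1u2 : T5.bf G v1 u2 = 0 := by rw [hsw, hu2v1, neg_zero]
  have hv1u1 : T5.bf G v1 u1 = 1 := by rw [hsw, huv1, hneg]
  have hu2v2 : T5.bf G u2 v2 = 1 := by
    rw [hv2, T5.bf_add_right, T5.bf_sub_right, T5.bf_smul_right, T5.bf_smul_right, hu2u1, hu2v1, hw]
    ring
  have hv2u2 : T5.bf G v2 u2 = 1 := by rw [hsw, hu2v2, hneg]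
  have hu1v2 : T5.bf G u1 v2 = 0 := by
    rw [hv2, T5.bf_add_right, T5.bf_sub_right, T5.bf_smul_right, T5.bf_smul_right, halt u1, huv1,
      hsw u1 w]
    ring
  have hv2u1 : T5.bf G v2 u1 = 0 := by rw [hsw, hu1v2, neg_zero]
  have hv1v2 : T5.bf G v1 v2 = 0 := by
    rw [hv2, T5.bf_add_right, T5.bf_sub_right, T5.bf_smul_right, T5.bf_smul_right, halt v1, hv1u1,
      hsw v1 w]
    linear_combination (-(T5.bf G w v1)) * h2
  have hv2v1 : T5.bf G v2 v1 = 0 := by rw [hsw, hv1v2, neg_zero]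
  obtain ⟨A, hA⟩ : ∃ A : Matrix (Fin 4) (Fin 4) F,
      A = Matrix.of (fun r c => (![u1, u2, v2, v1] : Fin 4 → Fin 4 → F) c r) := ⟨_, rfl⟩
  have hc0 : (fun r => A r 0) = u1 := by rw [hA]; rfl
  have hc1 : (fun r => A r 1) = u2 := by rw [hA]; rfl
  have hc2 : (fun r => A r 2) = v2 := by rw [hA]; rfl
  have hc3 : (fun r => A r 3) = v1 := by rw [hA]; rfl
  have hgram : Aᵀ * G * A = G4 F := by
    ext i j
    rw [gram_entry]
    fin_cases i <;> fin_cases j
    · show T5.bf G (fun r => A r 0) (fun r => A r 0) = G4 F 0 0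
      rw [hc0, halt]; simp [G4]
    · show T5.bf G (fun r => A r 0) (fun r => A r 1) = G4 F 0 1
      rw [hc0, hc1, hu1u2]; simp [G4]
    · show T5.bf G (fun r => A r 0) (fun r => A r 2) = G4 F 0 2
      rw [hc0, hc2, hu1v2]; simp [G4]
    · show T5.bf G (fun r => A r 0) (fun r => A r 3) = G4 F 0 3
      rw [hc0, hc3, huv1]; simp [G4]
    · show T5.bf G (fun r => A r 1) (fun r => A r 0) = G4 F 1 0
      rw [hc0, hc1, hu2u1]; simp [G4]
    · show T5.bf G (fun r => A r 1) (fun r => A r 1) = G4 F 1 1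
      rw [hc1, halt]; simp [G4]
    · show T5.bf G (fun r => A r 1) (fun r => A r 2) = G4 F 1 2
      rw [hc1, hc2, hu2v2]; simp [G4]
    · show T5.bf G (fun r => A r 1) (fun r => A r 3) = G4 F 1 3
      rw [hc1, hc3, hu2v1]; simp [G4]
    · show T5.bf G (fun r => A r 2) (fun r => A r 0) = G4 F 2 0
      rw [hc0, hc2, hv2u1]; simp [G4]
    · show T5.bf G (fun r => A r 2) (fun r => A r 1) = G4 F 2 1
      rw [hc1, hc2, hv2u2]; simp [G4]
    · show T5.bf G (fun r => A r 2) (fun r => A r 2) = G4 F 2 2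
      rw [hc2, halt]; simp [G4]
    · show T5.bf G (fun r => A r 2) (fun r => A r 3) = G4 F 2 3
      rw [hc2, hc3, hv2v1]; simp [G4]
    · show T5.bf G (fun r => A r 3) (fun r => A r 0) = G4 F 3 0
      rw [hc0, hc3, hv1u1]; simp [G4]
    · show T5.bf G (fun r => A r 3) (fun r => A r 1) = G4 F 3 1
      rw [hc1, hc3, hv1u2]; simp [G4]
    · show T5.bf G (fun r => A r 3) (fun r => A r 2) = G4 F 3 2
      rw [hc2, hc3, hv1v2]; simp [G4]
    · show T5.bf G (fun r => A r 3) (fun r => A r 3) = G4 F 3 3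
      rw [hc3, halt]; simp [G4]
  have hG4det : (G4 F).det ≠ 0 := by
    intro h
    have h1 := congrArg Matrix.det (g4_sq (F := F))
    rw [Matrix.det_mul, h, Matrix.det_one, mul_zero] at h1
    exact zero_ne_one h1
  have hAdet : A.det ≠ 0 := by
    intro h
    apply hG4det
    rw [← hgram, Matrix.det_mul, h, mul_zero]
  exact ⟨A, A⁻¹, Matrix.mul_nonsing_inv A (isUnit_iff_ne_zero.mpr hAdet),
    Matrix.nonsing_inv_mul A (isUnit_iff_ne_zero.mpr hAdet), hgram⟩

end Cfsg.Agent.Helper48.CWSB4
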