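import Cfsg.Agent.Helper96.CWDefs

/-!
# CALL S5707, piece SM (helper48): the factors of an isometry in normal form are similitudes.
-/

set_option autoImplicit false
set_option linter.unusedSectionVars false
set_option linter.unusedSimpArgs false
set_option linter.unusedVariables false

namespace Cfsg.Agent.Helper48.CWSM

open Matrix Cfsg Cfsg.Geo Cfsg.Agent.Helper96 Cfsg.Agent.Helper96.CW

variable {F : Type*} [Field F] {k t : ℕ}

theorem ptM_transpose' (a : Fin t → Matrix (Fin k) (Fin k) F) :
    (ptM a)ᵀ = ptM (fun i => (a i)ᵀ) := by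
  ext x y
  rw [Matrix.transpose_apply, ptM_apply, ptM_apply]
  rfl

theorem bf_single_single {ι : Type*} [Fintype ι] [DecidableEq ι] (J : Matrix ι ι F) (u v : ι) :
    T5.bf J (Pi.single u 1) (Pi.single v 1) = J u v := by
  simp [T5.bf, Matrix.mulVec_single_one, single_one_dotProduct]

theorem fpM_transpose (σ : Equiv.Perm (Fin t)) :
    (fpM F k σ)ᵀ = fpM F k σ.symm := by
  ext x y
  rw [Matrix.transpose_apply, fpM_apply, fpM_apply]
  have h : (x = y ∘ σ) ↔ (y = x ∘ σ.symm) := by
    constructor
    · intro h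
      rw [h]
      funext i
      simp
    · intro h
      rw [h]
      funext i
      simp
  simp only [h]

theorem fpM_gram (G : Matrix (Fin k) (Fin k) F) (σ : Equiv.Perm (Fin t)) :
    (fpM F k σ)ᵀ * GT t G * fpM F k σ = GT t G := by
  ext x y
  rw [mul_fpM_apply, fpM_transpose, fpM_mul_apply, GT, ptM_apply, ptM_apply]
  exact Equiv.prod_comp σ.symm (fun i => G (x i) (y i))

/-- PIECE SM: the factors of an isometry in normal form are similitudes. -/
theorem sm (hk : 0 < k) (G : Matrix (Fin k) (Fin k) F) (hG : G.det ≠ 0)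
    (σ : Equiv.Perm (Fin t)) (a ainv : Fin t → Matrix (Fin k) (Fin k) F)
    (h1 : ∀ i, a i * ainv i = 1) (h2 : ∀ i, ainv i * a i = 1)
    (hB : ∀ x y : (Fin t → Fin k) → F,
      T5.bf (GT t G) ((fpM F k σ * ptM a) *ᵥ x) ((fpM F k σ * ptM a) *ᵥ y) = T5.bf (GT t G) x y) :
    ∀ i, ∃ μ : F, μ ≠ 0 ∧ (a i)ᵀ * G * a i = μ • G := by
  classical
  have hN : (fpM F k σ * ptM a)ᵀ * GT t G * (fpM F k σ * ptM a) = GT t G := by
    ext u v
    have h := hB (Pi.single u 1) (Pi.single v 1)
    rw [T5.bf_mulVec_left, T5.bf_mulVec_right, bf_single_single, bf_single_single] at h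
    exact h
  have hK : ptM (fun i => (a i)ᵀ * G * a i) = ptM (fun _ : Fin t => G) := by
    have h3 : (fpM F k σ * ptM a)ᵀ * GT t G * (fpM F k σ * ptM a)
        = (ptM a)ᵀ * ((fpM F k σ)ᵀ * GT t G * fpM F k σ) * ptM a := by
      rw [Matrix.transpose_mul]
      simp only [Matrix.mul_assoc]
    rw [h3, fpM_gram, ptM_transpose', GT, ptM_mul, ptM_mul] at hN
    exact hN
  have hent : ∀ x y : Fin t → Fin k,
      ∏ j, ((a j)ᵀ * G * a j) (x j) (y j) = ∏ j : Fin t, G (x j) (y j) := by
    intro x y
    have h := congrFun (congrFun hK x) y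
    rw [ptM_apply, ptM_apply] at h
    exact h
  obtain ⟨α, β, hαβ⟩ : ∃ α β, G α β ≠ 0 := by
    by_contra hcon
    push Not at hcon
    apply hG
    have : G = 0 := by
      ext p q
      exact hcon p q
    rw [this]
    have hne : Nonempty (Fin k) := ⟨⟨0, hk⟩⟩
    exact Matrix.det_zero
  intro i
  obtain ⟨c, hc⟩ : ∃ c : F, c = ∏ j ∈ Finset.univ.erase i, ((a j)ᵀ * G * a j) α β := ⟨_, rfl⟩
  obtain ⟨d, hd⟩ : ∃ d : F, d = ∏ j ∈ Finset.univ.erase i, G α β := ⟨_, rfl⟩
  have hpq : ∀ p q : Fin k, ((a i)ᵀ * G * a i) p q * c = G p q * d := by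
    intro p q
    have h := hent (Function.update (fun _ => α) i p) (Function.update (fun _ => β) i q)
    rw [← Finset.mul_prod_erase Finset.univ _ (Finset.mem_univ i),
      ← Finset.mul_prod_erase Finset.univ
        (fun j => G (Function.update (fun _ => α) i p j) (Function.update (fun _ => β) i q j))
        (Finset.mem_univ i)] at h
    simp only [Function.update_self] at h
    have e1 : ∏ j ∈ Finset.univ.erase i, ((a j)ᵀ * G * a j)
        (Function.update (fun _ => α) i p j) (Function.update (fun _ => β) i q j) = c := by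
      rw [hc]
      apply Finset.prod_congr rfl
      intro j hj
      rw [Function.update_of_ne (Finset.ne_of_mem_erase hj),
        Function.update_of_ne (Finset.ne_of_mem_erase hj)]
    have e2 : ∏ j ∈ Finset.univ.erase i,
        G (Function.update (fun _ => α) i p j) (Function.update (fun _ => β) i q j) = d := by
      rw [hd]
      apply Finset.prod_congr rfl
      intro j hj
      rw [Function.update_of_ne (Finset.ne_of_mem_erase hj),
        Function.update_of_ne (Finset.ne_of_mem_erase hj)]
    rw [e1, e2] at h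
    exact h
  have hd0 : d ≠ 0 := by
    rw [hd]
    exact Finset.prod_ne_zero_iff.mpr (fun _ _ => hαβ)
  have hc0 : c ≠ 0 := by
    intro h
    have h3 := hpq α β
    rw [h, mul_zero] at h3
    exact mul_ne_zero hαβ hd0 h3.symm
  refine ⟨d / c, div_ne_zero hd0 hc0, ?_⟩
  ext p q
  rw [Matrix.smul_apply, smul_eq_mul]
  have h3 := hpq p q
  field_simp
  linear_combination h3

end Cfsg.Agent.Helper48.CWSM
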