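import Cfsg.Agent.Helper48.Cores

set_option autoImplicit false

namespace Cfsg.Agent.Helper48

open Subgroup Cfsg

theorem pCore_normal (p : ℕ) (G : Type*) [Group G] : (pCore p G).Normal :=
  Subgroup.sSup_normal _ (fun _ hH => hH.1)

/-- A `p'`-element `d` commuting with the `p`-element `[x, d]` commutes with `x`. -/
theorem commute_of_coprime_of_commute_comm {G : Type*} [Group G] {p : ℕ} [Fact p.Prime] (d x : G)
    (hr : ∃ k : ℕ, (x⁻¹ * d * x * d⁻¹) ^ p ^ k = 1) (hd : (orderOf d).Coprime p)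
    (hcomm : d * (x⁻¹ * d * x * d⁻¹) = (x⁻¹ * d * x * d⁻¹) * d) : d * x = x * d := by
  obtain ⟨k, hk⟩ := hr
  have hc : Commute d (x⁻¹ * d * x * d⁻¹) := hcomm
  have key : ∀ n : ℕ, d ^ n * x * (d ^ n)⁻¹ = x * (x⁻¹ * d * x * d⁻¹) ^ n := by
    intro n
    induction n with
    | zero => simp
    | succ n ih =>
      have h1 : d ^ (n + 1) * x * (d ^ (n + 1))⁻¹ = d * (d ^ n * x * (d ^ n)⁻¹) * d⁻¹ := by
        rw [pow_succ']; group
      have h2 : d * (x⁻¹ * d * x * d⁻¹) ^ n * d⁻¹ = (x⁻¹ * d * x * d⁻¹) ^ n := by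
        rw [(hc.pow_right n).eq, mul_inv_cancel_right]
      rw [h1, ih, pow_succ']
      calc d * (x * (x⁻¹ * d * x * d⁻¹) ^ n) * d⁻¹
          = (d * x * d⁻¹) * (d * (x⁻¹ * d * x * d⁻¹) ^ n * d⁻¹) := by group
        _ = (d * x * d⁻¹) * (x⁻¹ * d * x * d⁻¹) ^ n := by rw [h2]
        _ = x * ((x⁻¹ * d * x * d⁻¹) * (x⁻¹ * d * x * d⁻¹) ^ n) := by
          have h0 : d * x * d⁻¹ = x * (x⁻¹ * d * x * d⁻¹) := by group
          rw [h0, mul_assoc]
  have h3 := key (orderOf d)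
  rw [pow_orderOf_eq_one] at h3
  have h4 : (x⁻¹ * d * x * d⁻¹) ^ orderOf d = 1 := by
    have : x * (x⁻¹ * d * x * d⁻¹) ^ orderOf d = x * 1 := by
      rw [← h3]; group
    exact mul_left_cancel this
  have h5 : orderOf (x⁻¹ * d * x * d⁻¹) ∣ orderOf d := orderOf_dvd_of_pow_eq_one h4
  have h6 : orderOf (x⁻¹ * d * x * d⁻¹) ∣ p ^ k := orderOf_dvd_of_pow_eq_one hk
  have h7 : orderOf (x⁻¹ * d * x * d⁻¹) = 1 :=
    Nat.eq_one_of_dvd_coprimes (Nat.Coprime.pow_right k hd) h5 h6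
  have h8 : x⁻¹ * d * x * d⁻¹ = 1 := orderOf_eq_one_iff.mp h7
  calc d * x = x * (x⁻¹ * d * x * d⁻¹) * d := by group
    _ = x * d := by rw [h8, mul_one]

/-- In a finite group, a subgroup all of whose `p'`-elements are trivial is a `p`-group. -/
theorem isPGroup_of_forall_coprime_eq_one {G : Type*} [Group G] [Finite G] {p : ℕ} [Fact p.Prime]
    (D : Subgroup G) (h : ∀ d ∈ D, (orderOf d).Coprime p → d = 1) : IsPGroup p D := by
  have hp : p.Prime := Fact.out
  intro ⟨d, hd⟩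
  obtain ⟨e, m, hm, hord⟩ := Nat.exists_eq_pow_mul_and_not_dvd (orderOf_pos d).ne' p hp.ne_one
  refine ⟨e, ?_⟩
  apply Subtype.ext
  show d ^ p ^ e = 1
  apply h _ (D.pow_mem hd _)
  have h1 : (d ^ p ^ e) ^ m = 1 := by
    rw [← pow_mul, ← hord, pow_orderOf_eq_one]
  have h2 : orderOf (d ^ p ^ e) ∣ m := orderOf_dvd_of_pow_eq_one h1
  have h3 : m.Coprime p := by
    rw [Nat.coprime_comm]; exact (Nat.Prime.coprime_iff_not_dvd hp).mpr hm
  exact Nat.Coprime.coprime_dvd_left h2 h3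

/-- Normal subgroups of a finite group of characteristic `p` have characteristic `p`. -/
theorem centralizer_pCore_le_of_normal {K : Type*} [Group K] [Finite K] {p : ℕ} [Fact p.Prime]
    (hK : Subgroup.centralizer (pCore p K : Set K) ≤ pCore p K) (N : Subgroup K) [hN : N.Normal] :
    Subgroup.centralizer (pCore p ↥N : Set ↥N) ≤ pCore p ↥N := by
  have hQn : (pCore p K).Normal := pCore_normal p K
  have hQN : (pCore p K).subgroupOf N ≤ pCore p ↥N :=
    le_pCore (hQn.subgroupOf N) ((isPGroup_pCore p K).comap_subtype)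
  have hRn : (pCore p ↥N).Normal := pCore_normal p ↥N
  have hDn : (Subgroup.centralizer (pCore p ↥N : Set ↥N)).Normal := Subgroup.normal_centralizer
  apply le_pCore hDn
  apply isPGroup_of_forall_coprime_eq_one
  intro d hd hcop
  have hcop' : (orderOf (d : K)).Coprime p := by rwa [Subgroup.orderOf_coe]
  have hdQ : (d : K) ∈ Subgroup.centralizer (pCore p K : Set K) := by
    rw [Subgroup.mem_centralizer_iff]
    intro x hx
    have hrQ : x⁻¹ * (d : K) * x * (d : K)⁻¹ ∈ pCore p K := by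
      have e1 : x⁻¹ * (d : K) * x * (d : K)⁻¹ = x⁻¹ * ((d : K) * x * (d : K)⁻¹) := by group
      rw [e1]; exact mul_mem (inv_mem hx) (hQn.conj_mem x hx d)
    have hrN : x⁻¹ * (d : K) * x * (d : K)⁻¹ ∈ N := by
      have e1 : x⁻¹ * (d : K) * x * (d : K)⁻¹ = (x⁻¹ * (d : K) * x⁻¹⁻¹) * (d : K)⁻¹ := by group
      rw [e1]; exact mul_mem (hN.conj_mem d d.2 x⁻¹) (inv_mem d.2)
    have hrR : (⟨_, hrN⟩ : ↥N) ∈ pCore p ↥N := hQN (Subgroup.mem_subgroupOf.mpr hrQ)
    have hdr : (⟨_, hrN⟩ : ↥N) * d = d * ⟨_, hrN⟩ := Subgroup.mem_centralizer_iff.mp hd _ hrR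
    have hdr' : (x⁻¹ * (d : K) * x * (d : K)⁻¹) * (d : K) = (d : K) * (x⁻¹ * (d : K) * x * (d : K)⁻¹) :=
      congrArg Subtype.val hdr
    obtain ⟨k, hk⟩ := (isPGroup_pCore p K) ⟨_, hrQ⟩
    have hk' : (x⁻¹ * (d : K) * x * (d : K)⁻¹) ^ p ^ k = 1 := congrArg Subtype.val hk
    exact (commute_of_coprime_of_commute_comm (d : K) x ⟨k, hk'⟩ hcop' hdr'.symm).symm
  have hdQ' := hK hdQ
  obtain ⟨k, hk⟩ := (isPGroup_pCore p K) ⟨_, hdQ'⟩
  have hk' : (d : K) ^ p ^ k = 1 := congrArg Subtype.val hk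
  have h1 : orderOf (d : K) ∣ p ^ k := orderOf_dvd_of_pow_eq_one hk'
  have h2 : orderOf (d : K) = 1 :=
    Nat.eq_one_of_dvd_coprimes (Nat.Coprime.pow_right k hcop') dvd_rfl h1
  have h3 : (d : K) = 1 := orderOf_eq_one_iff.mp h2
  exact Subtype.ext h3

theorem map_pCore_mulEquiv_le {A B : Type*} [Group A] [Group B] (p : ℕ) (f : A ≃* B) :
    (pCore p A).map f.toMonoidHom ≤ pCore p B :=
  le_pCore ((pCore_normal p A).map f.toMonoidHom f.surjective)
    ((isPGroup_pCore p A).map f.toMonoidHom)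

/-- The `p`-core is transported by group isomorphisms. -/
theorem map_pCore_mulEquiv {A B : Type*} [Group A] [Group B] (p : ℕ) (e : A ≃* B) :
    (pCore p A).map e.toMonoidHom = pCore p B := by
  apply le_antisymm (map_pCore_mulEquiv_le p e)
  intro b hb
  have h1 : e.symm b ∈ pCore p A := map_pCore_mulEquiv_le p e.symm ⟨b, hb, rfl⟩
  exact ⟨e.symm b, h1, e.apply_symm_apply b⟩

/-- Being of characteristic `p` is invariant under isomorphism. -/
theorem centralizer_pCore_le_of_mulEquiv {A B : Type*} [Group A] [Group B] {p : ℕ} (e : A ≃* B)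
    (hA : Subgroup.centralizer (pCore p A : Set A) ≤ pCore p A) :
    Subgroup.centralizer (pCore p B : Set B) ≤ pCore p B := by
  intro b hb
  have h1 : e.symm b ∈ Subgroup.centralizer (pCore p A : Set A) := by
    rw [Subgroup.mem_centralizer_iff]
    intro a ha
    have ha' : e a ∈ pCore p B := by
      rw [← map_pCore_mulEquiv p e]; exact ⟨a, ha, rfl⟩
    have h2 := Subgroup.mem_centralizer_iff.mp hb (e a) ha'
    apply e.injective
    rw [map_mul, map_mul, e.apply_symm_apply]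
    exact h2
  have h3 := hA h1
  rw [← map_pCore_mulEquiv p e]
  exact ⟨e.symm b, h3, e.apply_symm_apply b⟩

end Cfsg.Agent.Helper48
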