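/-
helper48: "characteristic p" (`F*(Y) = O_p(Y)`) bookkeeping on top of helper34's `PCons3`:
the equivalence with the core properties, transport along equalities/conjugation, and the
standard inheritance statements for centralizers and normalizers of `p`-subgroups
(parabolic and local characteristic `p`).
-/
import Cfsg.Agent.Helper34.PCons3
import Cfsg.Agent.Helper22.FStar
import Cfsg.Agent.Helper48.PGroupLemmas
import Cfsg.Prelude.Def_LocalStructure

set_option autoImplicit false

namespace Cfsg.Agent.Helper48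

open Cfsg

/-- The core properties: `O_{p'}(Y) = 1` and `C_Y(O_p(Y)) ≤ O_p(Y)`. -/
def CoreProps (p : ℕ) (Y : Type*) [Group Y] : Prop :=
  pPrimeCore p Y = ⊥ ∧ Subgroup.centralizer (pCore p Y : Set Y) ≤ pCore p Y

section

variable {p : ℕ} [Fact p.Prime]

/-- `F*(Y) = O_p(Y)` iff the core properties hold. -/
theorem generalizedFittingSubgroup_eq_pCore_iff {Y : Type*} [Group Y] [Finite Y] :
    generalizedFittingSubgroup Y = pCore p Y ↔ CoreProps p Y := by
  constructor
  · intro h
    apply Cfsg.Agent.Helper34.pPrimeCore_eq_bot_and_centralizer_le_of_isPGroup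
    rw [h]
    exact Cfsg.Agent.Helper22.pCore_isPGroup p Y
  · rintro ⟨h1, h2⟩
    exact Cfsg.Agent.Helper34.generalizedFittingSubgroup_eq_pCore_of h1 h2

omit [Fact p.Prime] in
/-- `C_Y(O_p(Y)) ≤ O_p(Y)` already gives the core properties. -/
theorem coreProps_of_centralizer_le {Y : Type*} [Group Y] [Finite Y]
    (h : Subgroup.centralizer (pCore p Y : Set Y) ≤ pCore p Y) : CoreProps p Y := by
  refine ⟨?_, h⟩
  rw [eq_bot_iff]
  intro x hx
  have hn : (pCore p Y).Normal := Cfsg.pCore_normal p Y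
  have hP := Cfsg.Agent.Helper22.pCore_isPGroup p Y
  have hxC : x ∈ Subgroup.centralizer (pCore p Y : Set Y) := by
    rw [Subgroup.mem_centralizer_iff]
    intro r hr
    exact (Cfsg.Agent.Helper54.commute_of_normal_coprime (Cfsg.pPrimeCore_normal p Y)
      hn hP (Cfsg.Agent.Helper34.card_pPrimeCore_coprime p Y) hx hr).eq.symm
  exact Subgroup.mem_bot.mpr (Cfsg.Agent.Helper54.eq_one_of_mem_pgroup_of_mem_coprime hP
    (Cfsg.Agent.Helper34.card_pPrimeCore_coprime p Y) (h hxC) hx)

omit [Fact p.Prime] in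
/-- Transport of the core properties along an isomorphism. -/
theorem CoreProps.of_mulEquiv {X X' : Type*} [Group X] [Group X'] (e : X ≃* X')
    (h : CoreProps p X) : CoreProps p X' :=
  Cfsg.Agent.Helper34.core_props_of_mulEquiv e h

omit [Fact p.Prime] in
/-- Transport of the core properties along an equality of subgroups. -/
theorem CoreProps.of_eq {G : Type*} [Group G] {H K : Subgroup G} (h : CoreProps p ↥H)
    (hHK : H = K) : CoreProps p ↥K := by
  subst hHK
  exact h

/-- The core properties pass to normal subgroups. -/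
theorem CoreProps.of_normal {Y : Type*} [Group Y] [Finite Y] (K : Subgroup Y) [hK : K.Normal]
    (h : CoreProps p Y) : CoreProps p ↥K := by
  have hF := generalizedFittingSubgroup_eq_pCore_iff.mpr h
  have h1 := Cfsg.Agent.Helper22.generalizedFittingSubgroup_inf_eq (B := K) hK.isSubnormal
  apply Cfsg.Agent.Helper34.pPrimeCore_eq_bot_and_centralizer_le_of_isPGroup
  have h2 : IsPGroup p ↥((generalizedFittingSubgroup ↥K).map K.subtype) := by
    rw [← h1, hF]
    exact (Cfsg.Agent.Helper22.pCore_isPGroup p Y).to_inf_left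
  exact h2.of_equiv
    ((generalizedFittingSubgroup ↥K).equivMapOfInjective K.subtype K.subtype_injective).symm

end

section Ambient

variable {p : ℕ} [Fact p.Prime] {G : Type*} [Group G]

omit [Fact p.Prime] in
theorem centralizer_singleton_eq_centralizer_zpowers (z : G) :
    Subgroup.centralizer ({z} : Set G) = Subgroup.centralizer (Subgroup.zpowers z : Set G) := by
  ext x
  rw [Subgroup.mem_centralizer_singleton_iff, Subgroup.mem_centralizer_iff]
  constructor
  · intro h y hy
    obtain ⟨k, rfl⟩ := Subgroup.mem_zpowers_iff.mp hy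
    exact ((Commute.zpow_right (show Commute x z from h) k).eq).symm
  · intro h
    exact (h z (Subgroup.mem_zpowers z)).symm

/-- Conjugation by `g` as an isomorphism `C(z) ≃* C(g z g⁻¹)`. -/
def centralizerConjEquiv (g z : G) :
    ↥(Subgroup.centralizer ({z} : Set G)) ≃* ↥(Subgroup.centralizer ({g * z * g⁻¹} : Set G)) where
  toFun x := ⟨g * x * g⁻¹, by
    have h := Subgroup.mem_centralizer_singleton_iff.mp x.2
    rw [Subgroup.mem_centralizer_singleton_iff]
    calc g * (x : G) * g⁻¹ * (g * z * g⁻¹) = g * ((x : G) * z) * g⁻¹ := by group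
      _ = g * (z * (x : G)) * g⁻¹ := by rw [h]
      _ = g * z * g⁻¹ * (g * (x : G) * g⁻¹) := by group⟩
  invFun y := ⟨g⁻¹ * y * g, by
    have h := Subgroup.mem_centralizer_singleton_iff.mp y.2
    rw [Subgroup.mem_centralizer_singleton_iff]
    calc g⁻¹ * (y : G) * g * z = g⁻¹ * ((y : G) * (g * z * g⁻¹)) * g := by group
      _ = g⁻¹ * ((g * z * g⁻¹) * (y : G)) * g := by rw [h]
      _ = z * (g⁻¹ * (y : G) * g) := by group⟩
  left_inv x := Subtype.ext (by simp [mul_assoc])
  right_inv y := Subtype.ext (by simp [mul_assoc])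
  map_mul' x y := Subtype.ext (by simp [mul_assoc])

omit [Fact p.Prime] in
/-- The core properties of `C(z)` transfer to `C(g z g⁻¹)`. -/
theorem coreProps_centralizer_conj (g z : G)
    (h : CoreProps p ↥(Subgroup.centralizer ({z} : Set G))) :
    CoreProps p ↥(Subgroup.centralizer ({g * z * g⁻¹} : Set G)) :=
  h.of_mulEquiv (centralizerConjEquiv g z)

omit [Fact p.Prime] in
/-- The core properties of `C(g⁻¹ z g)` transfer to `C(z)`. -/
theorem coreProps_centralizer_of_conj (g z : G)
    (h : CoreProps p ↥(Subgroup.centralizer ({g⁻¹ * z * g} : Set G))) :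
    CoreProps p ↥(Subgroup.centralizer ({z} : Set G)) := by
  have h1 := coreProps_centralizer_conj g _ h
  have h2 : g * (g⁻¹ * z * g) * g⁻¹ = z := by group
  rw [h2] at h1
  exact h1

variable [Finite G]

/-- If `z` lies in the `p`-subgroup `X` and `C(z)` has the core properties, so does `C(X)`. -/
theorem coreProps_centralizer_of_mem {X : Subgroup G} (hX : IsPGroup p X) {z : G} (hz : z ∈ X)
    (h : CoreProps p ↥(Subgroup.centralizer ({z} : Set G))) :
    CoreProps p ↥(Subgroup.centralizer (X : Set G)) := by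
  have h1 : CoreProps p ↥(Subgroup.centralizer (Subgroup.zpowers z : Set G)) :=
    h.of_eq (centralizer_singleton_eq_centralizer_zpowers z)
  exact Cfsg.Agent.Helper34.core_props_centralizer_of_le hX _ (Subgroup.zpowers z)
    (Subgroup.zpowers_le.mpr hz) le_rfl h1

/-- If `z` lies in the `p`-subgroup `X` and `C(z)` has the core properties, so does `N(X)`. -/
theorem coreProps_normalizer_of_mem {X : Subgroup G} (hX : IsPGroup p X) {z : G} (hz : z ∈ X)
    (h : CoreProps p ↥(Subgroup.centralizer ({z} : Set G))) :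
    CoreProps p ↥(Subgroup.normalizer (X : Set G)) :=
  Cfsg.Agent.Helper34.core_props_normalizer_of_centralizer hX (coreProps_centralizer_of_mem hX hz h)

/-- If `C ⊴ B` are `p`-subgroups and `N(C)` has the core properties, so does `C(B)`. -/
theorem coreProps_centralizer_of_normalizer {B C : Subgroup G} (hB : IsPGroup p B) (hCB : C ≤ B)
    (hBN : B ≤ Subgroup.normalizer (C : Set G))
    (h : CoreProps p ↥(Subgroup.normalizer (C : Set G))) :
    CoreProps p ↥(Subgroup.centralizer (B : Set G)) :=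
  Cfsg.Agent.Helper34.core_props_local_in h B hB hBN (Subgroup.centralizer (B : Set G))
    ((Subgroup.centralizer_le hCB).trans (Subgroup.centralizer_le_normalizer _)) inf_le_left
    (Subgroup.centralizer_le_normalizer _) (Or.inr le_rfl)

/-- In a group of parabolic characteristic `p`, the centralizer of a nontrivial element of the
centre of a Sylow `p`-subgroup has the core properties. -/
theorem coreProps_centralizer_of_parabolic (hG : IsOfParabolicCharacteristic p G) (S : Sylow p G)
    {z : G} (hz1 : z ≠ 1) (hzS : z ∈ (S : Subgroup G))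
    (hzC : z ∈ Subgroup.centralizer ((S : Subgroup G) : Set G)) :
    CoreProps p ↥(Subgroup.centralizer ({z} : Set G)) := by
  have hR : IsPGroup p ↥(Subgroup.zpowers z) := S.isPGroup'.to_le (Subgroup.zpowers_le.mpr hzS)
  have hR1 : Subgroup.zpowers z ≠ ⊥ := by
    rw [Ne, Subgroup.zpowers_eq_bot]; exact hz1
  have hSC : (S : Subgroup G) ≤ Subgroup.centralizer (Subgroup.zpowers z : Set G) := by
    intro s hs
    rw [← centralizer_singleton_eq_centralizer_zpowers, Subgroup.mem_centralizer_singleton_iff]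
    exact Subgroup.mem_centralizer_iff.mp hzC s hs
  have hpar : IsParabolic p (Subgroup.normalizer (Subgroup.zpowers z : Set G)) :=
    ⟨S, hSC.trans (Subgroup.centralizer_le_normalizer _)⟩
  have hN : CoreProps p ↥(Subgroup.normalizer (Subgroup.zpowers z : Set G)) :=
    coreProps_of_centralizer_le (hG _ hR hR1 hpar)
  have hC : CoreProps p ↥(Subgroup.centralizer (Subgroup.zpowers z : Set G)) :=
    coreProps_centralizer_of_normalizer hR le_rfl Subgroup.le_normalizer hN
  exact hC.of_eq (centralizer_singleton_eq_centralizer_zpowers z).symm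

omit [Finite G] in
/-- Sylow conjugacy, elementwise. -/
theorem exists_conj_mem_sylow [Finite G] (S T : Sylow p G) :
    ∃ g : G, ∀ x : G, x ∈ (T : Subgroup G) ↔ g⁻¹ * x * g ∈ (S : Subgroup G) := by
  obtain ⟨g, hg⟩ := MulAction.exists_smul_eq G S T
  refine ⟨g, fun x => ?_⟩
  rw [← hg, Sylow.coe_subgroup_smul, Subgroup.mem_pointwise_smul_iff_inv_smul_mem]
  simp [MulAut.smul_def]

/-- If the centralizers of the elements of order `p` in the centre of the Sylow `p`-subgroup `S`
have the core properties, then so does every parabolic `p`-local subgroup. -/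
theorem coreProps_normalizer_of_sylow (S : Sylow p G)
    (h : ∀ z : G, z ≠ 1 → z ∈ (S : Subgroup G) →
      z ∈ Subgroup.centralizer ((S : Subgroup G) : Set G) → z ^ p = 1 →
      CoreProps p ↥(Subgroup.centralizer ({z} : Set G)))
    (R : Subgroup G) (hR : IsPGroup p R) (hR1 : R ≠ ⊥) (T : Sylow p G)
    (hT : (T : Subgroup G) ≤ Subgroup.normalizer (R : Set G)) :
    CoreProps p ↥(Subgroup.normalizer (R : Set G)) := by
  have hRT : R ≤ (T : Subgroup G) := by
    have h1 : IsPGroup p ↥(R ⊔ (T : Subgroup G)) := IsPGroup.to_sup_of_normal_left' hR T.isPGroup' hT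
    have h2 := T.is_maximal' h1 le_sup_right
    rw [← h2]; exact le_sup_left
  have hne : (T : Subgroup G) ⊓ R ≠ ⊥ := by
    rw [inf_eq_right.mpr hRT]; exact hR1
  obtain ⟨z, hz, hzp, hzc⟩ := exists_central_orderOf_eq_of_inf_ne_bot T.isPGroup' hT hne
  obtain ⟨g, hg⟩ := exists_conj_mem_sylow S T
  have hp : p.Prime := Fact.out
  have hz1 : z ≠ 1 := by
    intro h1
    rw [h1, orderOf_one] at hzp
    exact hp.one_lt.ne hzp
  have h1 : CoreProps p ↥(Subgroup.centralizer ({g⁻¹ * z * g} : Set G)) := by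
    apply h
    · intro h2
      apply hz1
      calc z = g * (g⁻¹ * z * g) * g⁻¹ := by group
        _ = 1 := by rw [h2]; group
    · exact (hg z).mp hz.1
    · rw [Subgroup.mem_centralizer_iff]
      intro s hs
      have hs' : g * s * g⁻¹ ∈ (T : Subgroup G) := by
        rw [hg]
        have : g⁻¹ * (g * s * g⁻¹) * g = s := by group
        rw [this]; exact hs
      have h3 := hzc _ hs'
      calc s * (g⁻¹ * z * g) = g⁻¹ * (g * s * g⁻¹ * z) * g := by group
        _ = g⁻¹ * (z * (g * s * g⁻¹)) * g := by rw [h3]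
        _ = g⁻¹ * z * g * s := by group
    · have h4 : z ^ p = 1 := by rw [← hzp]; exact pow_orderOf_eq_one z
      calc (g⁻¹ * z * g) ^ p = g⁻¹ * z ^ p * g := by
            have := conj_pow (a := g⁻¹) (b := z) (i := p)
            simpa using this
        _ = 1 := by rw [h4]; group
  exact coreProps_normalizer_of_mem hR hz.2 (coreProps_centralizer_of_conj g z h1)

/-- If the centralizers of the elements of order `p` of the Sylow `p`-subgroup `S` have the
core properties, then so does every `p`-local subgroup. -/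
theorem coreProps_normalizer_of_local (S : Sylow p G)
    (h : ∀ z : G, z ∈ (S : Subgroup G) → orderOf z = p →
      CoreProps p ↥(Subgroup.centralizer ({z} : Set G)))
    (T : Subgroup G) (hT : IsPGroup p T) (hT1 : T ≠ ⊥) :
    CoreProps p ↥(Subgroup.normalizer (T : Set G)) := by
  obtain ⟨z, hz, hzp⟩ := exists_orderOf_eq_prime_of_ne_bot hT hT1
  obtain ⟨T', hT'⟩ := hT.exists_le_sylow
  obtain ⟨g, hg⟩ := exists_conj_mem_sylow S T'
  have h1 : CoreProps p ↥(Subgroup.centralizer ({g⁻¹ * z * g} : Set G)) := by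
    apply h
    · exact (hg z).mp (hT' hz)
    · have := orderOf_conj_eq (g := g⁻¹) (x := z)
      rw [inv_inv] at this
      rw [this, hzp]
  exact coreProps_normalizer_of_mem hT hz (coreProps_centralizer_of_conj g z h1)

omit [Fact p.Prime] [Finite G] in
/-- `C_G(z) ∩ G₁ ≅ C_{G₁}(z)`. -/
def subgroupOfCentralizerEquiv (G₁ : Subgroup G) (z₁ : ↥G₁) :
    ↥(G₁.subgroupOf (Subgroup.centralizer ({(z₁ : G)} : Set G))) ≃*
      ↥(Subgroup.centralizer ({z₁} : Set ↥G₁)) where
  toFun x := ⟨⟨x.1.1, Subgroup.mem_subgroupOf.mp x.2⟩, by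
    rw [Subgroup.mem_centralizer_singleton_iff]
    exact Subtype.ext (Subgroup.mem_centralizer_singleton_iff.mp x.1.2)⟩
  invFun y := ⟨⟨y.1.1, by
    rw [Subgroup.mem_centralizer_singleton_iff]
    exact congrArg Subtype.val (Subgroup.mem_centralizer_singleton_iff.mp y.2)⟩,
    Subgroup.mem_subgroupOf.mpr y.1.2⟩
  left_inv _ := rfl
  right_inv _ := rfl
  map_mul' _ _ := rfl

/-- A normal subgroup `G₁` of a group of parabolic characteristic `p` has parabolic
characteristic `p`, provided the elements of order dividing `p` in `Z(S ∩ G₁)` are central in the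
Sylow `p`-subgroup `S`. -/
theorem isOfParabolicCharacteristic_of_normal (hG : IsOfParabolicCharacteristic p G)
    (S : Sylow p G) (G₁ : Subgroup G) [hG₁ : G₁.Normal]
    (hle : ∀ z ∈ (S : Subgroup G) ⊓ G₁, (∀ x ∈ (S : Subgroup G) ⊓ G₁, x * z = z * x) → z ^ p = 1 →
      z ∈ (S : Subgroup G) ⊓ Subgroup.centralizer ((S : Subgroup G) : Set G)) :
    IsOfParabolicCharacteristic p ↥G₁ := by
  rintro R hR hR1 ⟨T₁, hT₁⟩
  refine (coreProps_normalizer_of_sylow T₁ ?_ R hR hR1 T₁ hT₁).2
  intro z₁ hz1 hzT hzC hzp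
  have hP₁ : IsPGroup p ↥((T₁ : Subgroup ↥G₁).map G₁.subtype) := T₁.isPGroup'.map _
  obtain ⟨S', hS'⟩ := hP₁.exists_le_sylow
  obtain ⟨g, hg⟩ := exists_conj_mem_sylow S S'
  have hmax : ∀ x ∈ (S' : Subgroup G) ⊓ G₁, x ∈ (T₁ : Subgroup ↥G₁).map G₁.subtype := by
    have hQ : IsPGroup p ↥((S' : Subgroup G).subgroupOf G₁) := S'.isPGroup'.comap_subtype
    have hle' : (T₁ : Subgroup ↥G₁) ≤ (S' : Subgroup G).subgroupOf G₁ :=
      fun t ht => Subgroup.mem_subgroupOf.mpr (hS' ⟨t, ht, rfl⟩)
    have heq := T₁.is_maximal' hQ hle'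
    intro x hx
    refine ⟨⟨x, hx.2⟩, ?_, rfl⟩
    rw [SetLike.mem_coe, ← heq]
    exact Subgroup.mem_subgroupOf.mpr hx.1
  have hz'S : g⁻¹ * (z₁ : G) * g ∈ (S : Subgroup G) := (hg _).mp (hS' ⟨z₁, hzT, rfl⟩)
  have hz'G : g⁻¹ * (z₁ : G) * g ∈ G₁ := by
    have := hG₁.conj_mem (z₁ : G) z₁.2 g⁻¹
    simpa using this
  have hz'c : ∀ x ∈ (S : Subgroup G) ⊓ G₁, x * (g⁻¹ * (z₁ : G) * g) = g⁻¹ * (z₁ : G) * g * x := by
    intro x hx
    have hx' : g * x * g⁻¹ ∈ (S' : Subgroup G) ⊓ G₁ := by
      refine ⟨(hg _).mpr ?_, hG₁.conj_mem x hx.2 g⟩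
      have : g⁻¹ * (g * x * g⁻¹) * g = x := by group
      rw [this]; exact hx.1
    obtain ⟨y, hy, hyx⟩ := hmax _ hx'
    have h1 := Subgroup.mem_centralizer_iff.mp hzC y hy
    have h2 : (g * x * g⁻¹) * (z₁ : G) = (z₁ : G) * (g * x * g⁻¹) := by
      rw [← hyx]; exact congrArg Subtype.val h1
    calc x * (g⁻¹ * (z₁ : G) * g) = g⁻¹ * ((g * x * g⁻¹) * (z₁ : G)) * g := by group
      _ = g⁻¹ * ((z₁ : G) * (g * x * g⁻¹)) * g := by rw [h2]
      _ = g⁻¹ * (z₁ : G) * g * x := by group
  have hz'p : (g⁻¹ * (z₁ : G) * g) ^ p = 1 := by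
    have h4 : (z₁ : G) ^ p = 1 := by
      have := congrArg Subtype.val hzp
      simpa using this
    calc (g⁻¹ * (z₁ : G) * g) ^ p = g⁻¹ * (z₁ : G) ^ p * g := by
          have := conj_pow (a := g⁻¹) (b := (z₁ : G)) (i := p)
          simpa using this
      _ = 1 := by rw [h4]; group
  have hz'1 : g⁻¹ * (z₁ : G) * g ≠ 1 := by
    intro h2
    apply hz1
    apply Subtype.ext
    calc (z₁ : G) = g * (g⁻¹ * (z₁ : G) * g) * g⁻¹ := by group
      _ = 1 := by rw [h2]; group
  have h3 := hle _ ⟨hz'S, hz'G⟩ hz'c hz'p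
  have h4 := coreProps_centralizer_of_parabolic hG S hz'1 h3.1 h3.2
  have h5 := coreProps_centralizer_of_conj g (z₁ : G) h4
  have h6 : CoreProps p ↥(G₁.subgroupOf (Subgroup.centralizer ({(z₁ : G)} : Set G))) :=
    h5.of_normal _
  exact h6.of_mulEquiv (subgroupOfCentralizerEquiv G₁ z₁)

end Ambient

end Cfsg.Agent.Helper48
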