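import Mathlib

/-!
# Recognition of `SL₂(3)` by generators and relations (helper48)

A group generated by `i, j, x` subject to the relations `QCRel` (the relations of `Q₈ ⋊ C₃`)
has order at most 24; if the order is exactly 24 it is isomorphic to `SL₂(3)`.
-/

set_option autoImplicit false
set_option linter.unusedSimpArgs false

namespace Cfsg.Agent.Helper48

open Subgroup

/-- The relations of `Q₈ ⋊ C₃ ≅ SL₂(3)` on generators `i, j, x`. -/
structure QCRel {H : Type*} [Group H] (i j x : H) : Prop where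
  i4 : i * i * i * i = 1
  jj : j * j = i * i
  ji : j * i = i * i * i * j
  xi : x * i = j * x
  xj : x * j = i * j * x
  x3 : x * x * x = 1

namespace QCRel

variable {H : Type*} [Group H] {i j x : H}

theorem jij (h : QCRel i j x) : j * i * j = i := by
  calc j * i * j = (j * i) * j := rfl
    _ = i * i * i * j * j := by rw [h.ji]
    _ = i * i * i * (j * j) := by group
    _ = i * (i * i * i * i) := by rw [h.jj]; group
    _ = i := by rw [h.i4, mul_one]

theorem xxi (h : QCRel i j x) : x * x * i = i * j * (x * x) := by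
  calc x * x * i = x * (x * i) := by group
    _ = x * (j * x) := by rw [h.xi]
    _ = (x * j) * x := by group
    _ = i * j * x * x := by rw [h.xj]
    _ = i * j * (x * x) := by group

theorem xxj (h : QCRel i j x) : x * x * j = i * (x * x) := by
  calc x * x * j = x * (x * j) := by group
    _ = x * (i * j * x) := by rw [h.xj]
    _ = (x * i) * j * x := by group
    _ = j * x * j * x := by rw [h.xi]
    _ = j * (x * j) * x := by group
    _ = j * (i * j * x) * x := by rw [h.xj]
    _ = (j * i * j) * (x * x) := by group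
    _ = i * (x * x) := by rw [h.jij]

/-- Normal form predicate. -/
def NF (i j x g : H) : Prop :=
  ∃ a b c : ℕ, b < 2 ∧ c < 3 ∧ g = i ^ a * j ^ b * x ^ c

theorem nf_mul_x (h : QCRel i j x) {g : H} (hg : NF i j x g) : NF i j x (g * x) := by
  obtain ⟨a, b, c, hb, hc, rfl⟩ := hg
  interval_cases c
  · exact ⟨a, b, 1, hb, by norm_num, by simp only [pow_succ, pow_zero, pow_add, pow_one, one_mul, mul_one, mul_assoc]⟩
  · exact ⟨a, b, 2, hb, by norm_num, by simp only [pow_succ, pow_zero, pow_add, pow_one, one_mul, mul_one, mul_assoc]⟩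
  · refine ⟨a, b, 0, hb, by norm_num, ?_⟩
    calc i ^ a * j ^ b * x ^ 2 * x = i ^ a * j ^ b * (x * x * x) := by simp only [pow_succ, pow_zero, pow_add, pow_one, one_mul, mul_one, mul_assoc]
      _ = i ^ a * j ^ b * x ^ 0 := by rw [h.x3, pow_zero]

theorem nf_mul_i (h : QCRel i j x) {g : H} (hg : NF i j x g) : NF i j x (g * i) := by
  obtain ⟨a, b, c, hb, hc, rfl⟩ := hg
  interval_cases c <;> interval_cases b
  · exact ⟨a + 1, 0, 0, by norm_num, by norm_num, by simp only [pow_succ, pow_zero, pow_add, pow_one, one_mul, mul_one, mul_assoc]⟩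
  · refine ⟨a + 3, 1, 0, by norm_num, by norm_num, ?_⟩
    calc i ^ a * j ^ 1 * x ^ 0 * i = i ^ a * (j * i) := by simp only [pow_succ, pow_zero, pow_add, pow_one, one_mul, mul_one, mul_assoc]
      _ = i ^ a * (i * i * i * j) := by rw [h.ji]
      _ = i ^ (a + 3) * j ^ 1 * x ^ 0 := by simp only [pow_succ, pow_zero, pow_add, pow_one, one_mul, mul_one, mul_assoc]
  · refine ⟨a, 1, 1, by norm_num, by norm_num, ?_⟩
    calc i ^ a * j ^ 0 * x ^ 1 * i = i ^ a * (x * i) := by simp only [pow_succ, pow_zero, pow_add, pow_one, one_mul, mul_one, mul_assoc]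
      _ = i ^ a * (j * x) := by rw [h.xi]
      _ = i ^ a * j ^ 1 * x ^ 1 := by simp only [pow_succ, pow_zero, pow_add, pow_one, one_mul, mul_one, mul_assoc]
  · refine ⟨a + 2, 0, 1, by norm_num, by norm_num, ?_⟩
    calc i ^ a * j ^ 1 * x ^ 1 * i = i ^ a * j * (x * i) := by simp only [pow_succ, pow_zero, pow_add, pow_one, one_mul, mul_one, mul_assoc]
      _ = i ^ a * j * (j * x) := by rw [h.xi]
      _ = i ^ a * (j * j) * x := by simp only [pow_succ, pow_zero, pow_add, pow_one, one_mul, mul_one, mul_assoc]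
      _ = i ^ a * (i * i) * x := by rw [h.jj]
      _ = i ^ (a + 2) * j ^ 0 * x ^ 1 := by simp only [pow_succ, pow_zero, pow_add, pow_one, one_mul, mul_one, mul_assoc]
  · refine ⟨a + 1, 1, 2, by norm_num, by norm_num, ?_⟩
    calc i ^ a * j ^ 0 * x ^ 2 * i = i ^ a * (x * x * i) := by simp only [pow_succ, pow_zero, pow_add, pow_one, one_mul, mul_one, mul_assoc]
      _ = i ^ a * (i * j * (x * x)) := by rw [h.xxi]
      _ = i ^ (a + 1) * j ^ 1 * x ^ 2 := by simp only [pow_succ, pow_zero, pow_add, pow_one, one_mul, mul_one, mul_assoc]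
  · refine ⟨a + 1, 0, 2, by norm_num, by norm_num, ?_⟩
    calc i ^ a * j ^ 1 * x ^ 2 * i = i ^ a * j * (x * x * i) := by simp only [pow_succ, pow_zero, pow_add, pow_one, one_mul, mul_one, mul_assoc]
      _ = i ^ a * j * (i * j * (x * x)) := by rw [h.xxi]
      _ = i ^ a * (j * i * j) * (x * x) := by simp only [pow_succ, pow_zero, pow_add, pow_one, one_mul, mul_one, mul_assoc]
      _ = i ^ a * i * (x * x) := by rw [h.jij]
      _ = i ^ (a + 1) * j ^ 0 * x ^ 2 := by simp only [pow_succ, pow_zero, pow_add, pow_one, one_mul, mul_one, mul_assoc]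

theorem nf_mul_j (h : QCRel i j x) {g : H} (hg : NF i j x g) : NF i j x (g * j) := by
  obtain ⟨a, b, c, hb, hc, rfl⟩ := hg
  interval_cases c <;> interval_cases b
  · exact ⟨a, 1, 0, by norm_num, by norm_num, by simp only [pow_succ, pow_zero, pow_add, pow_one, one_mul, mul_one, mul_assoc]⟩
  · refine ⟨a + 2, 0, 0, by norm_num, by norm_num, ?_⟩
    calc i ^ a * j ^ 1 * x ^ 0 * j = i ^ a * (j * j) := by simp only [pow_succ, pow_zero, pow_add, pow_one, one_mul, mul_one, mul_assoc]
      _ = i ^ a * (i * i) := by rw [h.jj]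
      _ = i ^ (a + 2) * j ^ 0 * x ^ 0 := by simp only [pow_succ, pow_zero, pow_add, pow_one, one_mul, mul_one, mul_assoc]
  · refine ⟨a + 1, 1, 1, by norm_num, by norm_num, ?_⟩
    calc i ^ a * j ^ 0 * x ^ 1 * j = i ^ a * (x * j) := by simp only [pow_succ, pow_zero, pow_add, pow_one, one_mul, mul_one, mul_assoc]
      _ = i ^ a * (i * j * x) := by rw [h.xj]
      _ = i ^ (a + 1) * j ^ 1 * x ^ 1 := by simp only [pow_succ, pow_zero, pow_add, pow_one, one_mul, mul_one, mul_assoc]
  · refine ⟨a + 1, 0, 1, by norm_num, by norm_num, ?_⟩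
    calc i ^ a * j ^ 1 * x ^ 1 * j = i ^ a * j * (x * j) := by simp only [pow_succ, pow_zero, pow_add, pow_one, one_mul, mul_one, mul_assoc]
      _ = i ^ a * j * (i * j * x) := by rw [h.xj]
      _ = i ^ a * (j * i * j) * x := by simp only [pow_succ, pow_zero, pow_add, pow_one, one_mul, mul_one, mul_assoc]
      _ = i ^ a * i * x := by rw [h.jij]
      _ = i ^ (a + 1) * j ^ 0 * x ^ 1 := by simp only [pow_succ, pow_zero, pow_add, pow_one, one_mul, mul_one, mul_assoc]
  · refine ⟨a + 1, 0, 2, by norm_num, by norm_num, ?_⟩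
    calc i ^ a * j ^ 0 * x ^ 2 * j = i ^ a * (x * x * j) := by simp only [pow_succ, pow_zero, pow_add, pow_one, one_mul, mul_one, mul_assoc]
      _ = i ^ a * (i * (x * x)) := by rw [h.xxj]
      _ = i ^ (a + 1) * j ^ 0 * x ^ 2 := by simp only [pow_succ, pow_zero, pow_add, pow_one, one_mul, mul_one, mul_assoc]
  · refine ⟨a + 3, 1, 2, by norm_num, by norm_num, ?_⟩
    calc i ^ a * j ^ 1 * x ^ 2 * j = i ^ a * j * (x * x * j) := by simp only [pow_succ, pow_zero, pow_add, pow_one, one_mul, mul_one, mul_assoc]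
      _ = i ^ a * j * (i * (x * x)) := by rw [h.xxj]
      _ = i ^ a * (j * i) * (x * x) := by simp only [pow_succ, pow_zero, pow_add, pow_one, one_mul, mul_one, mul_assoc]
      _ = i ^ a * (i * i * i * j) * (x * x) := by rw [h.ji]
      _ = i ^ (a + 3) * j ^ 1 * x ^ 2 := by simp only [pow_succ, pow_zero, pow_add, pow_one, one_mul, mul_one, mul_assoc]

theorem i_inv (h : QCRel i j x) : i⁻¹ = i * i * i := by
  apply inv_eq_of_mul_eq_one_left
  exact h.i4

theorem j_inv (h : QCRel i j x) : j⁻¹ = j * j * j := by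
  apply inv_eq_of_mul_eq_one_left
  calc j * j * j * j = (j * j) * (j * j) := by group
    _ = i * i * i * i := by rw [h.jj]; group
    _ = 1 := h.i4

theorem x_inv (h : QCRel i j x) : x⁻¹ = x * x := by
  apply inv_eq_of_mul_eq_one_left
  exact h.x3

/-- Every element of the subgroup generated by `i, j, x` has a normal form. -/
theorem nf_of_mem_closure (h : QCRel i j x) {g : H} (hg : g ∈ closure ({i, j, x} : Set H)) :
    NF i j x g := by
  induction hg using Subgroup.closure_induction_right with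
  | one => exact ⟨0, 0, 0, by norm_num, by norm_num, by group⟩
  | mul_right w _ y hy ih =>
    simp only [Set.mem_insert_iff, Set.mem_singleton_iff] at hy
    rcases hy with rfl | rfl | rfl
    · exact h.nf_mul_i ih
    · exact h.nf_mul_j ih
    · exact h.nf_mul_x ih
  | mul_inv_cancel w _ y hy ih =>
    simp only [Set.mem_insert_iff, Set.mem_singleton_iff] at hy
    rcases hy with rfl | rfl | rfl
    · rw [h.i_inv]
      have := h.nf_mul_i (h.nf_mul_i (h.nf_mul_i ih))
      simpa [mul_assoc] using this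
    · rw [h.j_inv]
      have := h.nf_mul_j (h.nf_mul_j (h.nf_mul_j ih))
      simpa [mul_assoc] using this
    · rw [h.x_inv]
      have := h.nf_mul_x (h.nf_mul_x ih)
      simpa [mul_assoc] using this

theorem pow_mod_four (h : QCRel i j x) (a : ℕ) : i ^ a = i ^ (a % 4) := by
  have h4 : i ^ 4 = 1 := by
    rw [← h.i4]
    simp only [pow_succ, pow_zero, one_mul]
  exact pow_eq_pow_mod a h4

/-- The subgroup generated by `i, j, x` has at most 24 elements. -/
theorem card_closure_le (h : QCRel i j x) :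
    Finite ↥(closure ({i, j, x} : Set H)) ∧ Nat.card ↥(closure ({i, j, x} : Set H)) ≤ 24 := by
  have hsurj : ∀ g : ↥(closure ({i, j, x} : Set H)), ∃ t : Fin 4 × Fin 2 × Fin 3,
      (g : H) = i ^ (t.1 : ℕ) * j ^ (t.2.1 : ℕ) * x ^ (t.2.2 : ℕ) := by
    rintro ⟨g, hg⟩
    obtain ⟨a, b, c, hb, hc, rfl⟩ := h.nf_of_mem_closure hg
    exact ⟨(⟨a % 4, Nat.mod_lt _ (by norm_num)⟩, ⟨b, hb⟩, ⟨c, hc⟩), by
      show i ^ a * j ^ b * x ^ c = i ^ (a % 4) * j ^ b * x ^ c
      rw [← h.pow_mod_four]⟩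
  choose f hf using hsurj
  have hinj : Function.Injective f := by
    intro g g' hgg
    apply Subtype.ext
    rw [hf g, hf g', hgg]
  have hfin : Finite ↥(closure ({i, j, x} : Set H)) := Finite.of_injective f hinj
  refine ⟨hfin, ?_⟩
  have := Nat.card_le_card_of_injective f hinj
  simpa using this

end QCRel

/-- A finite subgroup mapping onto a subgroup of at least the same order is isomorphic to it. -/
theorem nonempty_mulEquiv_of_map_eq {L K : Type*} [Group L] [Group K] (Γ : Subgroup L)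
    [Finite Γ] (π : L →* K) (V : Subgroup K) (hmap : Γ.map π = V)
    (hcard : Nat.card Γ ≤ Nat.card V) : Nonempty (Γ ≃* V) := by
  let f : Γ →* V := (π.comp Γ.subtype).codRestrict V (fun γ => by
    rw [← hmap]
    exact ⟨γ, γ.2, rfl⟩)
  have hsurj : Function.Surjective f := by
    rintro ⟨v, hv⟩
    rw [← hmap] at hv
    obtain ⟨γ, hγ, rfl⟩ := hv
    exact ⟨⟨γ, hγ⟩, rfl⟩
  have hbij : Function.Bijective f := hsurj.bijective_of_nat_card_le hcard
  exact ⟨MulEquiv.ofBijective f hbij⟩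

/-- Two groups generated by triples satisfying `QCRel`, both of order at least 24, are
isomorphic. -/
theorem QCRel.nonempty_mulEquiv {H₁ H₂ : Type*} [Group H₁] [Group H₂] {i₁ j₁ x₁ : H₁}
    {i₂ j₂ x₂ : H₂} (h₁ : QCRel i₁ j₁ x₁) (h₂ : QCRel i₂ j₂ x₂)
    (hc₁ : 24 ≤ Nat.card ↥(closure ({i₁, j₁, x₁} : Set H₁)))
    (hc₂ : 24 ≤ Nat.card ↥(closure ({i₂, j₂, x₂} : Set H₂))) :
    Nonempty (↥(closure ({i₁, j₁, x₁} : Set H₁)) ≃* ↥(closure ({i₂, j₂, x₂} : Set H₂))) := by
  have h : QCRel ((i₁, i₂) : H₁ × H₂) (j₁, j₂) (x₁, x₂) :=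
    { i4 := Prod.ext h₁.i4 h₂.i4
      jj := Prod.ext h₁.jj h₂.jj
      ji := Prod.ext h₁.ji h₂.ji
      xi := Prod.ext h₁.xi h₂.xi
      xj := Prod.ext h₁.xj h₂.xj
      x3 := Prod.ext h₁.x3 h₂.x3 }
  obtain ⟨hfin, hcard⟩ := h.card_closure_le
  obtain ⟨Γ, hΓ⟩ : ∃ Γ : Subgroup (H₁ × H₂), Γ = closure ({(i₁, i₂), (j₁, j₂), (x₁, x₂)} :
      Set (H₁ × H₂)) := ⟨_, rfl⟩
  rw [← hΓ] at hfin hcard
  have hmap₁ : Γ.map (MonoidHom.fst H₁ H₂) = closure ({i₁, j₁, x₁} : Set H₁) := by
    rw [hΓ, MonoidHom.map_closure]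
    congr 1
    simp [Set.image_insert_eq]
  have hmap₂ : Γ.map (MonoidHom.snd H₁ H₂) = closure ({i₂, j₂, x₂} : Set H₂) := by
    rw [hΓ, MonoidHom.map_closure]
    congr 1
    simp [Set.image_insert_eq]
  obtain ⟨e₁⟩ := nonempty_mulEquiv_of_map_eq Γ (MonoidHom.fst H₁ H₂) _ hmap₁ (hcard.trans hc₁)
  obtain ⟨e₂⟩ := nonempty_mulEquiv_of_map_eq Γ (MonoidHom.snd H₁ H₂) _ hmap₂ (hcard.trans hc₂)
  exact ⟨e₁.symm.trans e₂⟩

/-! ### The model `SL₂(3)` -/

/-- `SL₂(3)`. -/
abbrev SL23 : Type := Matrix.SpecialLinearGroup (Fin 2) (ZMod 3)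

/-- Generators of `SL₂(3)`. -/
def sl23I : SL23 := ⟨!![0, 1; 2, 0], by decide⟩
/-- Generators of `SL₂(3)`. -/
def sl23J : SL23 := ⟨!![2, 1; 1, 1], by decide⟩
/-- Generators of `SL₂(3)`. -/
def sl23X : SL23 := ⟨!![1, 0; 1, 1], by decide⟩

set_option maxRecDepth 100000 in
theorem sl23_rel : QCRel sl23I sl23J sl23X :=
  { i4 := by decide
    jj := by decide
    ji := by decide
    xi := by decide
    xj := by decide
    x3 := by decide }

set_option maxRecDepth 100000 in
theorem sl23_card : Fintype.card SL23 = 24 := by decide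

set_option maxRecDepth 100000 in
theorem sl23_gen : ∀ g : SL23, ∃ a : Fin 4, ∃ b : Fin 2, ∃ c : Fin 3,
    g = sl23I ^ (a : ℕ) * sl23J ^ (b : ℕ) * sl23X ^ (c : ℕ) := by decide

theorem sl23_closure : Subgroup.closure ({sl23I, sl23J, sl23X} : Set SL23) = ⊤ := by
  rw [eq_top_iff]
  intro g _
  obtain ⟨a, b, c, rfl⟩ := sl23_gen g
  refine mul_mem (mul_mem (pow_mem (Subgroup.subset_closure ?_) _) (pow_mem (Subgroup.subset_closure ?_) _))
    (pow_mem (Subgroup.subset_closure ?_) _)
  · exact Set.mem_insert _ _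
  · exact Set.mem_insert_of_mem _ (Set.mem_insert _ _)
  · exact Set.mem_insert_of_mem _ (Set.mem_insert_of_mem _ rfl)

/-- **Recognition of `SL₂(3)`**: a subgroup of order at least 24 generated by `i, j, x` satisfying
the relations `QCRel` is isomorphic to `SL₂(3)`. -/
theorem QCRel.nonempty_mulEquiv_sl23 {H : Type*} [Group H] {i j x : H} (h : QCRel i j x)
    (hc : 24 ≤ Nat.card ↥(closure ({i, j, x} : Set H))) :
    Nonempty (↥(closure ({i, j, x} : Set H)) ≃* SL23) := by
  have hc₂ : 24 ≤ Nat.card ↥(Subgroup.closure ({sl23I, sl23J, sl23X} : Set SL23)) := by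
    rw [sl23_closure, Subgroup.card_top, Nat.card_eq_fintype_card, sl23_card]
  obtain ⟨e⟩ := h.nonempty_mulEquiv sl23_rel hc hc₂
  rw [sl23_closure] at e
  exact ⟨e.trans Subgroup.topEquiv⟩

end Cfsg.Agent.Helper48
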