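import Mathlib
import Cfsg.Agent.Helper48.SL23Recog

/-!
# A normal `SL₂(3)` from a self-centralizing normal `Q₈` with an element of order 3 (helper48)
-/

set_option autoImplicit false

namespace Cfsg.Agent.Helper48

open Subgroup

/-- An element of odd order whose square lies in a subgroup lies in that subgroup. -/
theorem mem_of_sq_mem_of_odd {G : Type*} [Group G] (K : Subgroup G) {x : G} {r : ℕ} (hr : Odd r)
    (hx : x ^ r = 1) (h2 : x * x ∈ K) : x ∈ K := by
  obtain ⟨m, rfl⟩ := hr
  have h : x = ((x * x) ^ m)⁻¹ := by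
    rw [eq_inv_iff_mul_eq_one, ← hx, ← pow_two, ← pow_mul, ← pow_succ']
  rw [h]
  exact K.inv_mem (K.pow_mem h2 m)

/-- Orbit counting: if all `K`-conjugates of `a` lie in a finite set `S`, then
`|K| ≤ |S| · |C_K(a)|`. -/
theorem card_le_of_conj_mem {G : Type*} [Group G] [Finite G] (K : Subgroup G) (a : G)
    (S : Finset G) (h : ∀ g ∈ K, g * a * g⁻¹ ∈ S) :
    Nat.card K ≤ S.card * Nat.card (K ⊓ centralizer {a} : Subgroup G) := by
  classical
  obtain ⟨rep, hrep⟩ : ∃ rep : G → G, ∀ g ∈ K, rep (g * a * g⁻¹) ∈ K ∧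
      rep (g * a * g⁻¹) * a * (rep (g * a * g⁻¹))⁻¹ = g * a * g⁻¹ := by
    refine ⟨fun s => if hs : ∃ g ∈ K, g * a * g⁻¹ = s then hs.choose else 1, ?_⟩
    intro g hg
    have hs : ∃ g' ∈ K, g' * a * g'⁻¹ = g * a * g⁻¹ := ⟨g, hg, rfl⟩
    simp only [dif_pos hs]
    exact hs.choose_spec
  have hmem : ∀ g ∈ K, (rep (g * a * g⁻¹))⁻¹ * g ∈ (K ⊓ centralizer {a} : Subgroup G) := by
    intro g hg
    obtain ⟨h1, h2⟩ := hrep g hg
    generalize rep (g * a * g⁻¹) = ρ at h1 h2
    refine Subgroup.mem_inf.mpr ⟨K.mul_mem (K.inv_mem h1) hg, ?_⟩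
    rw [mem_centralizer_singleton_iff]
    have h3 : g * a = ρ * a * ρ⁻¹ * g := by rw [h2]; group
    calc ρ⁻¹ * g * a = ρ⁻¹ * (g * a) := by group
      _ = ρ⁻¹ * (ρ * a * ρ⁻¹ * g) := by rw [h3]
      _ = a * (ρ⁻¹ * g) := by group
  let φ : K → S × ↥(K ⊓ centralizer {a} : Subgroup G) := fun g =>
    (⟨(g : G) * a * (g : G)⁻¹, h g g.2⟩,
      ⟨(rep ((g : G) * a * (g : G)⁻¹))⁻¹ * g, hmem g g.2⟩)
  have hinj : Function.Injective φ := by
    intro g g' hgg
    have h1 : (g : G) * a * (g : G)⁻¹ = (g' : G) * a * (g' : G)⁻¹ := by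
      have := congrArg (fun t => (t.1 : G)) hgg
      exact this
    have h2 : (rep ((g : G) * a * (g : G)⁻¹))⁻¹ * (g : G) =
        (rep ((g' : G) * a * (g' : G)⁻¹))⁻¹ * (g' : G) := by
      have := congrArg (fun t => (t.2 : G)) hgg
      exact this
    rw [h1] at h2
    exact Subtype.ext (mul_left_cancel h2)
  have := Nat.card_le_card_of_injective φ hinj
  rwa [Nat.card_prod, Nat.card_eq_finsetCard] at this

/-- A set covered by a function on `Fin n` has at most `n` elements. -/
theorem card_le_of_forall_exists_fin {α : Type*} (s : Set α) {n : ℕ} (f : Fin n → α)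
    (h : ∀ a ∈ s, ∃ k, f k = a) : Nat.card s ≤ n := by
  choose k hk using h
  have hinj : Function.Injective (fun a : s => k a.1 a.2) := by
    intro a b hab
    apply Subtype.ext
    rw [← hk a.1 a.2, ← hk b.1 b.2]
    exact congrArg f hab
  have := Nat.card_le_card_of_injective _ hinj
  simpa using this

/-- **Core recognition lemma.** A finite group with a self-centralizing normal subgroup
`Q = {1, z, i, iz, j, jz, ij, ijz}` (`z` a central involution, `i² = j² = z`) and an element `x`
of odd order with `x i x⁻¹ = j`, `x j x⁻¹ = i j` has a normal subgroup isomorphic to `SL₂(3)`. -/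
theorem exists_normal_sl23_core {G : Type*} [Group G] [Finite G] (Q : Subgroup G)
    [hQn : Q.Normal] (hCQ : centralizer (Q : Set G) ≤ Q) (z i j x : G)
    (hz : ∀ g : G, g * z = z * g) (hz1 : z ≠ 1) (hzz : z * z = 1)
    (hi : i ∈ Q) (hj : j ∈ Q) (hii : i * i = z) (hjj : j * j = z)
    (hQ : ∀ q ∈ Q, q = 1 ∨ q = z ∨ q = i ∨ q = i * z ∨ q = j ∨ q = j * z ∨ q = i * j ∨
      q = i * j * z)
    (hxi : x * i * x⁻¹ = j) (hxj : x * j * x⁻¹ = i * j)
    (r : ℕ) (hr : Odd r) (hxr : x ^ r = 1) :
    ∃ U : Subgroup G, U.Normal ∧ Nonempty (U ≃* SL23) := by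
  classical
  -- basic relations
  have hcz : ∀ g : G, g * z * g⁻¹ = z := fun g => by rw [hz g, mul_inv_cancel_right]
  have hi4 : i * i * i * i = 1 := by rw [hii, mul_assoc, hii, hzz]
  have hij2 : i * j * (i * j) = z := by
    rw [← hxj]
    calc x * j * x⁻¹ * (x * j * x⁻¹) = x * (j * j) * x⁻¹ := by group
      _ = z := by rw [hjj, hcz]
  have hiji : i * j * i = j := by
    have h : i * j * i * j = j * j := by rw [hjj, ← hij2]; group
    exact mul_right_cancel h
  have hji : j * i = i * i * i * j := by
    calc j * i = (i * i * i * i) * (j * i) := by rw [hi4, one_mul]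
      _ = i * i * i * (i * j * i) := by group
      _ = i * i * i * j := by rw [hiji]
  have hjij : j * i * j = i := by
    rw [hji]
    calc i * i * i * j * j = i * i * i * (j * j) := by group
      _ = i * i * i * (i * i) := by rw [hjj, hii]
      _ = i * (i * i * i * i) := by group
      _ = i := by rw [hi4, mul_one]
  have hnc : i * j ≠ j * i := by
    intro hc
    rw [hji] at hc
    have h1 : i = i * i * i := mul_right_cancel hc
    have h2 : i * 1 = i * (i * i) := by rw [mul_one, ← mul_assoc]; exact h1
    have h3 : i * i = 1 := (mul_left_cancel h2).symm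
    rw [hii] at h3
    exact hz1 h3
  have hsqz : ∀ a : G, a * z * (a * z) = a * a := by
    intro a
    calc a * z * (a * z) = a * (z * a) * z := by group
      _ = a * (a * z) * z := by rw [hz a]
      _ = a * a * (z * z) := by group
      _ = a * a := by rw [hzz, mul_one]
  have hQ2 : ∀ q ∈ Q, q * q = 1 ∨ q * q = z := by
    intro q hq
    rcases hQ q hq with h | h | h | h | h | h | h | h <;> rw [h]
    · exact Or.inl (mul_one 1)
    · exact Or.inl hzz
    · exact Or.inr hii
    · exact Or.inr ((hsqz i).trans hii)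
    · exact Or.inr hjj
    · exact Or.inr ((hsqz j).trans hjj)
    · exact Or.inr hij2
    · exact Or.inr ((hsqz (i * j)).trans hij2)
  have hQ4 : ∀ q ∈ Q, q * q * (q * q) = 1 := by
    intro q hq
    rcases hQ2 q hq with h | h <;> rw [h]
    · exact mul_one 1
    · exact hzz
  have hcommQ : ∀ g : G, Commute g i → Commute g j → ∀ q ∈ Q, Commute g q := by
    intro g Hi Hj q hq
    have Hz : Commute g z := hz g
    rcases hQ q hq with h | h | h | h | h | h | h | h <;> rw [h]
    · exact Commute.one_right g
    · exact Hz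
    · exact Hi
    · exact Hi.mul_right Hz
    · exact Hj
    · exact Hj.mul_right Hz
    · exact Hi.mul_right Hj
    · exact (Hi.mul_right Hj).mul_right Hz
  -- `x³ = 1`
  have e1 : x * i = j * x := by rw [← hxi]; group
  have e2 : x * j = i * j * x := by rw [← hxj]; group
  have c1 : MulAut.conj x i = j := hxi
  have c2 : MulAut.conj x j = i * j := hxj
  have c3i : MulAut.conj (x * x * x) i = i := by
    simp only [map_mul, MulAut.mul_apply, c1, c2]
    rw [← mul_assoc]; exact hjij
  have c3j : MulAut.conj (x * x * x) j = j := by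
    simp only [map_mul, MulAut.mul_apply, c1, c2]
    calc i * j * (j * (i * j)) = i * (j * j) * i * j := by group
      _ = i * z * i * j := by rw [hjj]
      _ = z * (i * i) * j := by rw [hz i]; group
      _ = j := by rw [hii, hzz, one_mul]
  have hyi : Commute (x * x * x) i := by
    have : x * x * x * i * (x * x * x)⁻¹ = i := c3i
    exact mul_inv_eq_iff_eq_mul.mp this
  have hyj : Commute (x * x * x) j := by
    have : x * x * x * j * (x * x * x)⁻¹ = j := c3j
    exact mul_inv_eq_iff_eq_mul.mp this
  have hyQ : x * x * x ∈ Q := by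
    apply hCQ
    rw [mem_centralizer_iff]
    intro q hq
    exact ((hcommQ _ hyi hyj q hq).eq).symm
  have hx3r : (x * x * x) ^ r = 1 := by
    have : x * x * x = x ^ 3 := by simp only [pow_succ, pow_zero, one_mul]
    rw [this, ← pow_mul, mul_comm, pow_mul, hxr, one_pow]
  have hx3 : x * x * x = 1 := by
    have h1 : (x * x * x) * (x * x * x) ∈ (⊥ : Subgroup G) := by
      apply mem_of_sq_mem_of_odd ⊥ hr
      · rw [(Commute.refl (x * x * x)).mul_pow, hx3r, one_mul]
      · rw [mem_bot]; exact hQ4 _ hyQ
    exact mem_bot.mp (mem_of_sq_mem_of_odd ⊥ hr hx3r h1)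
  have h : QCRel i j x := ⟨hi4, by rw [hjj, hii], hji, e1, e2, hx3⟩
  obtain ⟨U, hU⟩ : ∃ U : Subgroup G, U = closure ({i, j, x} : Set G) := ⟨_, rfl⟩
  have hU24 : Nat.card U ≤ 24 := by rw [hU]; exact h.card_closure_le.2
  have hiU : i ∈ U := by rw [hU]; exact subset_closure (Set.mem_insert _ _)
  have hjU : j ∈ U := by
    rw [hU]; exact subset_closure (Set.mem_insert_of_mem _ (Set.mem_insert _ _))
  have hxU : x ∈ U := by
    rw [hU]; exact subset_closure (Set.mem_insert_of_mem _ (Set.mem_insert_of_mem _ rfl))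
  have hzU : z ∈ U := by rw [← hii]; exact U.mul_mem hiU hiU
  have hQU : Q ≤ U := by
    intro q hq
    rcases hQ q hq with h | h | h | h | h | h | h | h <;> rw [h]
    · exact U.one_mem
    · exact hzU
    · exact hiU
    · exact U.mul_mem hiU hzU
    · exact hjU
    · exact U.mul_mem hjU hzU
    · exact U.mul_mem hiU hjU
    · exact U.mul_mem (U.mul_mem hiU hjU) hzU
  -- `|Q| = 8`
  have hQle : Nat.card Q ≤ 8 := by
    have := card_le_of_forall_exists_fin (Q : Set G) (n := 8)
      ![1, z, i, i * z, j, j * z, i * j, i * j * z] (by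
        intro q hq
        rcases hQ q hq with h | h | h | h | h | h | h | h
        · exact ⟨0, h.symm⟩
        · exact ⟨1, h.symm⟩
        · exact ⟨2, h.symm⟩
        · exact ⟨3, h.symm⟩
        · exact ⟨4, h.symm⟩
        · exact ⟨5, h.symm⟩
        · exact ⟨6, h.symm⟩
        · exact ⟨7, h.symm⟩)
    exact this
  have hoi : orderOf i = 4 := by
    have := orderOf_eq_prime_pow (x := i) (p := 2) (n := 1)
      (by rw [pow_one, pow_two, hii]; exact hz1)
      (by
        have : i ^ 2 ^ (1 + 1) = i * i * i * i := by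
          norm_num
          simp only [pow_succ, pow_zero, one_mul]
        rw [this]; exact hi4)
    simpa using this
  have h4Q : 4 ∣ Nat.card Q := by
    have := Subgroup.card_dvd_of_le (zpowers_le.mpr hi)
    rwa [Nat.card_zpowers, hoi] at this
  have hQne4 : Nat.card Q ≠ 4 := by
    intro h4
    have heq : zpowers i = Q := by
      apply Subgroup.eq_of_le_of_card_ge (zpowers_le.mpr hi)
      rw [Nat.card_zpowers, hoi, h4]
    have hjz : j ∈ zpowers i := by rw [heq]; exact hj
    obtain ⟨k, hk⟩ := mem_zpowers_iff.mp hjz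
    have : Commute i j := by rw [← hk]; exact (Commute.refl i).zpow_right k
    exact hnc this.eq
  have hQ8 : Nat.card Q = 8 := by
    have hpos : 0 < Nat.card Q := Nat.card_pos
    obtain ⟨k, hk⟩ := h4Q
    omega
  -- `|U| = 24`
  have hx1 : x ≠ 1 := by
    rintro rfl
    apply hnc
    have : i = j := by simpa using hxi
    rw [this]
  have hox : orderOf x = 3 := by
    have : Fact (Nat.Prime 3) := ⟨Nat.prime_three⟩
    exact orderOf_eq_prime (by simp only [pow_succ, pow_zero, one_mul]; exact hx3) hx1
  have h3U : 3 ∣ Nat.card U := by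
    have := orderOf_dvd_natCard (⟨x, hxU⟩ : U)
    rwa [Subgroup.orderOf_mk, hox] at this
  have h8U : 8 ∣ Nat.card U := by
    have := Subgroup.card_dvd_of_le hQU
    rwa [hQ8] at this
  have hU24' : 24 ≤ Nat.card U := by
    have hpos : 0 < Nat.card U := Nat.card_pos
    omega
  -- `|G| ≤ 48`
  have hsq_conj : ∀ g a : G, a * a = z → (g * a * g⁻¹) * (g * a * g⁻¹) = z := by
    intro g a ha
    calc g * a * g⁻¹ * (g * a * g⁻¹) = g * (a * a) * g⁻¹ := by group
      _ = z := by rw [ha, hcz]
  have hS6 : ∀ q ∈ Q, q * q = z →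
      q = i ∨ q = i * z ∨ q = j ∨ q = j * z ∨ q = i * j ∨ q = i * j * z := by
    intro q hq hqq
    rcases hQ q hq with h | h | h | h | h | h | h | h
    · exfalso; rw [h, mul_one] at hqq; exact hz1 hqq.symm
    · exfalso; rw [h, hzz] at hqq; exact hz1 hqq.symm
    · exact Or.inl h
    · exact Or.inr (Or.inl h)
    · exact Or.inr (Or.inr (Or.inl h))
    · exact Or.inr (Or.inr (Or.inr (Or.inl h)))
    · exact Or.inr (Or.inr (Or.inr (Or.inr (Or.inl h))))
    · exact Or.inr (Or.inr (Or.inr (Or.inr (Or.inr h))))
  have hzcancel : ∀ a b : G, Commute (a * z) b → Commute a b := by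
    intro a b H
    have h1 : a * b * z = b * a * z := by
      calc a * b * z = a * (b * z) := by group
        _ = a * (z * b) := by rw [hz b]
        _ = a * z * b := by group
        _ = b * (a * z) := H.eq
        _ = b * a * z := by group
    exact mul_right_cancel h1
  have hG1 : Nat.card (⊤ : Subgroup G) ≤
      ({i, i * z, j, j * z, i * j, i * j * z} : Finset G).card *
        Nat.card (⊤ ⊓ centralizer {i} : Subgroup G) :=
    card_le_of_conj_mem ⊤ i _ (by
      intro g _
      have := hS6 _ (hQn.conj_mem i hi g) (hsq_conj g i hii)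
      simp only [Finset.mem_insert, Finset.mem_singleton]
      exact this)
  have hG2 : Nat.card (⊤ ⊓ centralizer {i} : Subgroup G) ≤
      ({j, j * z, i * j, i * j * z} : Finset G).card *
        Nat.card ((⊤ ⊓ centralizer {i}) ⊓ centralizer {j} : Subgroup G) :=
    card_le_of_conj_mem _ j _ (by
      intro g hg
      have hgi : Commute g i := mem_centralizer_singleton_iff.mp (Subgroup.mem_inf.mp hg).2
      have hno : ∀ w : G, Commute w i → g * j * g⁻¹ ≠ w := by
        intro w hw heq
        have H1 : Commute (g * j * g⁻¹) i := heq ▸ hw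
        have H2 : Commute (g⁻¹ * (g * j * g⁻¹) * g) i := (hgi.inv_left.mul_left H1).mul_left hgi
        have H3 : g⁻¹ * (g * j * g⁻¹) * g = j := by group
        rw [H3] at H2
        exact hnc H2.eq.symm
      have := hS6 _ (hQn.conj_mem j hj g) (hsq_conj g j hjj)
      simp only [Finset.mem_insert, Finset.mem_singleton]
      rcases this with h | h | h
      · exact absurd h (hno i (Commute.refl i))
      · exact absurd h (hno (i * z) ((Commute.refl i).mul_left (hz i).symm))
      · exact h)
  have hG3 : Nat.card ((⊤ ⊓ centralizer {i}) ⊓ centralizer {j} : Subgroup G) ≤ 2 := by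
    have := card_le_of_forall_exists_fin
      (((⊤ ⊓ centralizer {i}) ⊓ centralizer {j} : Subgroup G) : Set G) (n := 2) ![1, z] (by
        intro g hg
        have hg' : g ∈ ((⊤ ⊓ centralizer {i}) ⊓ centralizer {j} : Subgroup G) := hg
        have hgi : Commute g i :=
          mem_centralizer_singleton_iff.mp (Subgroup.mem_inf.mp (Subgroup.mem_inf.mp hg').1).2
        have hgj : Commute g j := mem_centralizer_singleton_iff.mp (Subgroup.mem_inf.mp hg').2
        have hgQ : g ∈ Q := by
          apply hCQ
          rw [mem_centralizer_iff]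
          intro q hq
          exact ((hcommQ g hgi hgj q hq).eq).symm
        rcases hQ g hgQ with h | h | h | h | h | h | h | h
        · exact ⟨0, h.symm⟩
        · exact ⟨1, h.symm⟩
        · rw [h] at hgj; exact absurd hgj.eq hnc
        · rw [h] at hgj; exact absurd (hzcancel _ _ hgj).eq hnc
        · rw [h] at hgi; exact absurd hgi.eq.symm hnc
        · rw [h] at hgi; exact absurd (hzcancel _ _ hgi).eq.symm hnc
        · rw [h] at hgi
          exfalso
          have h1 : i * j * i = i * (i * j) := hgi.eq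
          rw [mul_assoc] at h1
          exact hnc (mul_left_cancel h1).symm
        · rw [h] at hgi
          exfalso
          have h1 : i * j * i = i * (i * j) := (hzcancel _ _ hgi).eq
          rw [mul_assoc] at h1
          exact hnc (mul_left_cancel h1).symm)
    exact this
  have hG48 : Nat.card G ≤ 48 := by
    have h6 := Finset.card_le_six (a := i) (b := i * z) (c := j) (d := j * z) (e := i * j)
      (f := i * j * z)
    have h4 := Finset.card_le_four (a := j) (b := j * z) (c := i * j) (d := i * j * z)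
    rw [Subgroup.card_top] at hG1
    calc Nat.card G ≤ _ := hG1
      _ ≤ 6 * (4 * 2) := Nat.mul_le_mul h6 (hG2.trans (Nat.mul_le_mul h4 hG3))
  -- `U` is normal
  have hidx : Nat.card U * U.index = Nat.card G := U.card_mul_index
  have hidx0 : U.index ≠ 0 := Subgroup.index_ne_zero_of_finite
  have hUc : Nat.card U = 24 := le_antisymm hU24 hU24'
  have hUn : U.Normal := by
    have h12 : U.index = 1 ∨ U.index = 2 := by
      rw [hUc] at hidx
      omega
    rcases h12 with h1 | h2
    · rw [Subgroup.index_eq_one.mp h1]; infer_instance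
    · exact Subgroup.normal_of_index_eq_two h2
  refine ⟨U, hUn, ?_⟩
  rw [hU] at hU24' ⊢
  exact h.nonempty_mulEquiv_sl23 hU24'

end Cfsg.Agent.Helper48
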