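import Mathlib
import Cfsg.Agent.Helper48.SL23Core
import Cfsg.Agent.Helper22.SolvableCore
import Cfsg.Agent.Helper47.Basic

/-!
# Solvable groups with `O(G) = 1` and a Sylow 2-subgroup with a cyclic maximal subgroup (helper48)

If `G` is solvable, `O(G) = 1`, `G` is not a 2-group, and a Sylow 2-subgroup `T` has a cyclic
subgroup `C` of index two such that the squares of elements of `T \ C` lie in `{1, z}` for a
central involution `z` of `G` (the only involution of `C`), then `G` has a normal `SL₂(3)`.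
-/

set_option autoImplicit false

namespace Cfsg.Agent.Helper48

open Subgroup

/-- If `x q x⁻¹ = q d` and `x` centralizes `d` then `xⁿ q x⁻ⁿ = q dⁿ`. -/
theorem conj_pow_of_conj_eq_mul {G : Type*} [Group G] {x q d : G} (hq : x * q * x⁻¹ = q * d)
    (hd : x * d * x⁻¹ = d) (n : ℕ) : x ^ n * q * (x ^ n)⁻¹ = q * d ^ n := by
  induction n with
  | zero => simp
  | succ n ih =>
    calc x ^ (n + 1) * q * (x ^ (n + 1))⁻¹ = x * (x ^ n * q * (x ^ n)⁻¹) * x⁻¹ := by
          rw [pow_succ']; group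
      _ = x * (q * d ^ n) * x⁻¹ := by rw [ih]
      _ = (x * q * x⁻¹) * (x * d * x⁻¹) ^ n := by rw [conj_pow]; group
      _ = q * d ^ (n + 1) := by rw [hq, hd, pow_succ', mul_assoc]

/-- An element of finite order mapping a subgroup into itself normalizes it. -/
theorem mem_normalizer_of_conj_mem_of_pow_eq_one {G : Type*} [Group G] (P : Subgroup G) {x : G}
    {n : ℕ} (hn : 0 < n) (hx : x ^ n = 1) (h : ∀ q ∈ P, x * q * x⁻¹ ∈ P) :
    x ∈ normalizer (P : Set G) := by
  have hpow : ∀ m : ℕ, ∀ q ∈ P, x ^ m * q * (x ^ m)⁻¹ ∈ P := by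
    intro m
    induction m with
    | zero => intro q hq; simpa using hq
    | succ m ih =>
      intro q hq
      have := h _ (ih q hq)
      have e : x ^ (m + 1) * q * (x ^ (m + 1))⁻¹ = x * (x ^ m * q * (x ^ m)⁻¹) * x⁻¹ := by
        rw [pow_succ']; group
      rw [e]; exact this
  have hinv : x⁻¹ = x ^ (n - 1) := by
    apply inv_eq_of_mul_eq_one_left
    rw [← pow_succ, Nat.sub_add_cancel hn, hx]
  rw [mem_normalizer_iff]
  intro q
  refine ⟨h q, fun hq => ?_⟩
  have := hpow (n - 1) _ hq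
  rw [← hinv] at this
  have e : x⁻¹ * (x * q * x⁻¹) * x⁻¹⁻¹ = q := by group
  rwa [e] at this

/-- An element of odd order normalizing a cyclic 2-group centralizes it. -/
theorem conj_eq_of_mem_normalizer_cyclic_two_group {G : Type*} [Group G] (P : Subgroup G)
    [Finite P] [IsCyclic P] (hP : IsPGroup 2 P) {x : G} (hx : x ∈ normalizer (P : Set G)) {r : ℕ}
    (hr : Odd r) (hxr : x ^ r = 1) : ∀ q ∈ P, x * q * x⁻¹ = q := by
  obtain ⟨φ, hφ⟩ : ∃ φ : MulAut P, φ = P.normalizerMonoidHom ⟨x, hx⟩ := ⟨_, rfl⟩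
  have h1 : φ ^ r = 1 := by
    rw [hφ, ← map_pow]
    have : (⟨x, hx⟩ : normalizer (P : Set G)) ^ r = 1 := Subtype.ext (by simpa using hxr)
    rw [this, map_one]
  have h2 : ∃ m : ℕ, φ ^ (2 ^ m) = 1 := by
    have : Fact (Nat.Prime 2) := ⟨Nat.prime_two⟩
    obtain ⟨k, hk⟩ := IsPGroup.iff_card.mp hP
    have hc : Nat.card (MulAut P) = Nat.totient (2 ^ k) := by rw [IsCyclic.card_mulAut, hk]
    refine ⟨k, ?_⟩
    have hdvd : Nat.card (MulAut P) ∣ 2 ^ k := by
      rw [hc]
      rcases k with _ | k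
      · simp
      · rw [Nat.totient_prime_pow_succ Nat.prime_two]
        exact ⟨2, by rw [pow_succ]; ring⟩
    obtain ⟨t, ht⟩ := hdvd
    rw [ht, pow_mul, pow_card_eq_one', one_pow]
  obtain ⟨m, hm⟩ := h2
  have h3 : φ = 1 := by
    have hd1 : orderOf φ ∣ r := orderOf_dvd_of_pow_eq_one h1
    have hd2 : orderOf φ ∣ 2 ^ m := orderOf_dvd_of_pow_eq_one hm
    have hcop : Nat.Coprime r (2 ^ m) := Nat.Coprime.pow_right m hr.coprime_two_right
    exact orderOf_eq_one_iff.mp ((Nat.Coprime.coprime_dvd_left hd1 hcop).eq_one_of_dvd hd2)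
  intro q hq
  have := congrArg (fun ψ : MulAut P => ((ψ ⟨q, hq⟩ : P) : G)) h3
  rw [hφ] at this
  simpa using this

/-- Variant of `exists_normal_sl23_core` with the enumeration of `Q` in the form
`{1, i, z, iz, j, ji, jz, jiz}` and `x j x⁻¹ ∈ {ji, jiz}`. -/
theorem exists_normal_sl23_core' {G : Type*} [Group G] [Finite G] (Q : Subgroup G)
    [hQn : Q.Normal] (hCQ : centralizer (Q : Set G) ≤ Q) (z i j x : G)
    (hz : ∀ g : G, g * z = z * g) (hz1 : z ≠ 1) (hzz : z * z = 1)
    (hi : i ∈ Q) (hj : j ∈ Q) (hii : i * i = z) (hjj : j * j = z)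
    (hQ : ∀ q ∈ Q, q = 1 ∨ q = i ∨ q = z ∨ q = i * z ∨ q = j ∨ q = j * i ∨ q = j * z ∨
      q = j * i * z)
    (hxi : x * i * x⁻¹ = j) (hxj : x * j * x⁻¹ = j * i ∨ x * j * x⁻¹ = j * i * z)
    (r : ℕ) (hr : Odd r) (hxr : x ^ r = 1) :
    ∃ U : Subgroup G, U.Normal ∧ Nonempty (U ≃* SL23) := by
  have hcz : ∀ g : G, g * z * g⁻¹ = z := fun g => by rw [hz g, mul_inv_cancel_right]
  have hsqz : ∀ a : G, a * z * (a * z) = a * a := by
    intro a
    calc a * z * (a * z) = a * (z * a) * z := by group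
      _ = a * (a * z) * z := by rw [hz a]
      _ = a * a * (z * z) := by group
      _ = a * a := by rw [hzz, mul_one]
  have hzz2 : ∀ a : G, a * z * z = a := fun a => by rw [mul_assoc, hzz, mul_one]
  have hc2 : (x * j * x⁻¹) * (x * j * x⁻¹) = z := by
    calc (x * j * x⁻¹) * (x * j * x⁻¹) = x * (j * j) * x⁻¹ := by group
      _ = z := by rw [hjj, hcz]
  have hji2 : j * i * (j * i) = z := by
    rcases hxj with h | h
    · rw [h] at hc2; exact hc2
    · rw [h, hsqz] at hc2; exact hc2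
  have hjij : j * i * j = i := by
    have h : j * i * j * i = i * i := by rw [hii, ← hji2]; group
    exact mul_right_cancel h
  have hji : j * i = i * j * z := by
    calc j * i = j * i * (j * j) * z := by rw [hjj, hzz2]
      _ = (j * i * j) * j * z := by group
      _ = i * j * z := by rw [hjij]
  have hzQ : z ∈ Q := by rw [← hii]; exact Q.mul_mem hi hi
  have hprod : i * z * (j * z) = i * j := by
    calc i * z * (j * z) = i * (z * j) * z := by group
      _ = i * (j * z) * z := by rw [hz j]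
      _ = i * j * z * z := by group
      _ = i * j := hzz2 _
  rcases hxj with h | h
  · -- `x j x⁻¹ = j i = i j z`: use `(i z, j z)`
    refine exists_normal_sl23_core Q hCQ z (i * z) (j * z) x hz hz1 hzz (Q.mul_mem hi hzQ)
      (Q.mul_mem hj hzQ) ((hsqz i).trans hii) ((hsqz j).trans hjj) ?_ ?_ ?_ r hr hxr
    · intro q hq
      rcases hQ q hq with h' | h' | h' | h' | h' | h' | h' | h'
      · exact Or.inl h'
      · right; right; right; left; rw [hzz2]; exact h'
      · right; left; exact h'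
      · right; right; left; exact h'
      · right; right; right; right; right; left; rw [hzz2]; exact h'
      · right; right; right; right; right; right; right; rw [hprod, ← hji]; exact h'
      · right; right; right; right; left; exact h'
      · right; right; right; right; right; right; left; rw [hprod, h', hji, hzz2]
    · calc x * (i * z) * x⁻¹ = (x * i * x⁻¹) * (x * z * x⁻¹) := by group
        _ = j * z := by rw [hxi, hcz]
    · calc x * (j * z) * x⁻¹ = (x * j * x⁻¹) * (x * z * x⁻¹) := by group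
        _ = i * z * (j * z) := by rw [h, hcz, hprod, hji, hzz2]
  · -- `x j x⁻¹ = j i z = i j`: use `(i, j)`
    refine exists_normal_sl23_core Q hCQ z i j x hz hz1 hzz hi hj hii hjj ?_ hxi ?_ r hr hxr
    · intro q hq
      rcases hQ q hq with h' | h' | h' | h' | h' | h' | h' | h'
      · exact Or.inl h'
      · right; right; left; exact h'
      · right; left; exact h'
      · right; right; right; left; exact h'
      · right; right; right; right; left; exact h'
      · right; right; right; right; right; right; right; rw [← hji]; exact h'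
      · right; right; right; right; right; left; exact h'
      · right; right; right; right; right; right; left; rw [h', hji, hzz2]
    · rw [h, hji, hzz2]

/-- **Main reduction.** `G` solvable with `O(G) = 1`, not a 2-group; a Sylow 2-subgroup `T` has a
cyclic subgroup `C` of index at most two, all squares of elements of `T \ C` lie in `{1, z}` where
`z` is a central involution of `G` and the only involution of `C`. Then `G` has a normal subgroup
isomorphic to `SL₂(3)`. -/
theorem exists_normal_sl23_of_cyclic_index_two {G : Type*} [Group G] [Finite G] [Group.IsSolvable G]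
    (hO : Cfsg.pPrimeCore 2 G = ⊥) (T : Sylow 2 G) (hne : (T : Subgroup G) ≠ ⊤)
    (C : Subgroup G) (hCcyc : IsCyclic C) (z : G)
    (hz : ∀ g : G, g * z = z * g) (hz1 : z ≠ 1) (hzz : z * z = 1)
    (hidx : ∀ s ∈ T, ∀ t ∈ T, s ∉ C → t ∉ C → s * t ∈ C)
    (hsq : ∀ t ∈ T, t ∉ C → t * t = 1 ∨ t * t = z)
    (hinv : ∀ c ∈ C, c * c = 1 → c = 1 ∨ c = z) :
    ∃ U : Subgroup G, U.Normal ∧ Nonempty (U ≃* SL23) := by
  classical
  have : Fact (Nat.Prime 2) := ⟨Nat.prime_two⟩
  obtain ⟨Q, hQdef⟩ : ∃ Q : Subgroup G, Q = Cfsg.pCore 2 G := ⟨_, rfl⟩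
  have hQn : Q.Normal := by rw [hQdef]; infer_instance
  have hQp : IsPGroup 2 Q := by rw [hQdef]; exact Cfsg.Agent.Helper22.pCore_isPGroup 2 G
  have hCQ : centralizer (Q : Set G) ≤ Q := by
    rw [hQdef]; exact Cfsg.Agent.Helper22.centralizer_pCore_le_of_isSolvable 2 hO
  have hQT : Q ≤ T := by rw [hQdef]; exact Cfsg.Agent.Helper47.pCore_le_sylow T
  -- an element of odd prime order
  obtain ⟨p, hp, hp2, x, hox⟩ : ∃ p : ℕ, p.Prime ∧ p ≠ 2 ∧ ∃ x : G, orderOf x = p := by
    have hidx1 : (T : Subgroup G).index ≠ 1 := fun h => hne (Subgroup.index_eq_one.mp h)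
    have hpr := Nat.minFac_prime hidx1
    have hdvd := Nat.minFac_dvd (T : Subgroup G).index
    refine ⟨_, hpr, ?_, ?_⟩
    · intro h2
      rw [h2] at hdvd
      exact T.not_dvd_index hdvd
    · have : Fact (Nat.minFac (T : Subgroup G).index).Prime := ⟨hpr⟩
      exact exists_prime_orderOf_dvd_card' _ (hdvd.trans (Subgroup.index_dvd_card _))
  have hodd : Odd p := hp.odd_of_ne_two hp2
  have hxp : x ^ p = 1 := by rw [← hox]; exact pow_orderOf_eq_one x
  have hx2el : ∀ d : G, d ∈ Q → d ^ p = 1 → d = 1 := by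
    intro d hd hdp
    obtain ⟨k, hk⟩ := hQp ⟨d, hd⟩
    have hk' : d ^ (2 ^ k) = 1 := by simpa using congrArg Subtype.val hk
    have h1 : orderOf d ∣ p := orderOf_dvd_of_pow_eq_one hdp
    have h2 : orderOf d ∣ 2 ^ k := orderOf_dvd_of_pow_eq_one hk'
    have hcop : Nat.Coprime p (2 ^ k) := Nat.Coprime.pow_right k hodd.coprime_two_right
    exact orderOf_eq_one_iff.mp ((Nat.Coprime.coprime_dvd_left h1 hcop).eq_one_of_dvd h2)
  have hxnc : x ∉ centralizer (Q : Set G) := by
    intro hx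
    have := hx2el x (hCQ hx) hxp
    rw [this, orderOf_one] at hox
    exact hp.one_lt.ne' hox.symm
  -- the cyclic part of `Q`
  obtain ⟨Q₀, hQ₀⟩ : ∃ Q₀ : Subgroup G, Q₀ = Q ⊓ C := ⟨_, rfl⟩
  have hQ₀cyc : IsCyclic Q₀ := by rw [hQ₀]; exact Subgroup.isCyclic_of_le inf_le_right
  have hmemQ₀ : ∀ q, q ∈ Q₀ ↔ q ∈ Q ∧ q ∈ C := by intro q; rw [hQ₀]; exact Subgroup.mem_inf
  obtain ⟨⟨c₀, hc₀⟩, hgen⟩ := IsCyclic.exists_generator (α := Q₀)
  have hgen' : ∀ q ∈ Q₀, ∃ k : ℤ, c₀ ^ k = q := by
    intro q hq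
    obtain ⟨k, hk⟩ := mem_zpowers_iff.mp (hgen ⟨q, hq⟩)
    exact ⟨k, by simpa using congrArg Subtype.val hk⟩
  have hc₀Q : c₀ ∈ Q := ((hmemQ₀ c₀).mp hc₀).1
  have hc₀C : c₀ ∈ C := ((hmemQ₀ c₀).mp hc₀).2
  have hcz : ∀ g : G, g * z * g⁻¹ = z := fun g => by rw [hz g, mul_inv_cancel_right]
  by_cases hcase : x * c₀ * x⁻¹ ∈ Q₀
  · exfalso
    have hnorm : x ∈ normalizer (Q₀ : Set G) := by
      apply mem_normalizer_of_conj_mem_of_pow_eq_one Q₀ hp.pos hxp
      intro q hq
      obtain ⟨k, rfl⟩ := hgen' q hq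
      rw [← conj_zpow]
      exact Q₀.zpow_mem hcase k
    have hP : IsPGroup 2 Q₀ := hQp.to_le (by rw [hQ₀]; exact inf_le_left)
    have hcent := conj_eq_of_mem_normalizer_cyclic_two_group Q₀ hP hnorm hodd hxp
    apply hxnc
    rw [mem_centralizer_iff]
    intro q hq
    by_cases hq0 : q ∈ Q₀
    · exact (mul_inv_eq_iff_eq_mul.mp (hcent q hq0)).symm
    · have hqT : q ∈ T := hQT hq
      have hqC : q ∉ C := fun h => hq0 ((hmemQ₀ q).mpr ⟨hq, h⟩)
      have hxq : x * q * x⁻¹ ∈ Q := hQn.conj_mem q hq x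
      have hxq0 : x * q * x⁻¹ ∉ Q₀ := fun h => hq0 ((mem_normalizer_iff.mp hnorm q).mpr h)
      have hxqC : x * q * x⁻¹ ∉ C := fun h => hxq0 ((hmemQ₀ _).mpr ⟨hxq, h⟩)
      have hqiC : q⁻¹ ∉ C := fun h => hqC (by simpa using C.inv_mem h)
      have hdC : q⁻¹ * (x * q * x⁻¹) ∈ C := hidx _ (T.inv_mem hqT) _ (hQT hxq) hqiC hxqC
      have hdQ : q⁻¹ * (x * q * x⁻¹) ∈ Q := Q.mul_mem (Q.inv_mem hq) hxq
      have hd0 : q⁻¹ * (x * q * x⁻¹) ∈ Q₀ := (hmemQ₀ _).mpr ⟨hdQ, hdC⟩
      have hd := hcent _ hd0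
      have hqd : x * q * x⁻¹ = q * (q⁻¹ * (x * q * x⁻¹)) := by group
      have hpow := conj_pow_of_conj_eq_mul hqd hd p
      rw [hxp] at hpow
      have hdp : (q⁻¹ * (x * q * x⁻¹)) ^ p = 1 := by
        have h1 : q * 1 = q * (q⁻¹ * (x * q * x⁻¹)) ^ p := by simpa using hpow
        exact (mul_left_cancel h1).symm
      have hd1 := hx2el _ hdQ hdp
      have h2 : q = x * q * x⁻¹ := inv_mul_eq_one.mp hd1
      exact (mul_inv_eq_iff_eq_mul.mp h2.symm).symm
  · obtain ⟨c₁, hc₁⟩ : ∃ c₁ : G, c₁ = x * c₀ * x⁻¹ := ⟨_, rfl⟩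
    rw [← hc₁] at hcase
    have hc₁Q : c₁ ∈ Q := by rw [hc₁]; exact hQn.conj_mem c₀ hc₀Q x
    have hc₁C : c₁ ∉ C := fun h => hcase ((hmemQ₀ _).mpr ⟨hc₁Q, h⟩)
    have hc₁sq : c₁ * c₁ = x * (c₀ * c₀) * x⁻¹ := by rw [hc₁]; group
    have hback : c₀ * c₀ = x⁻¹ * (x * (c₀ * c₀) * x⁻¹) * x := by group
    have hc₀₀ : c₀ * c₀ = z ∧ c₁ * c₁ = z := by
      rcases hsq c₁ (hQT hc₁Q) hc₁C with h1 | h1
      · exfalso
        have h2 : c₀ * c₀ = 1 := by
          rw [hc₁sq] at h1
          rw [hback, h1]; group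
        rcases hinv c₀ hc₀C h2 with h3 | h3
        · apply hcase; rw [hc₁, h3]; simp
        · apply hcase; rw [hc₁, h3, hcz, ← h3]; exact hc₀
      · refine ⟨?_, h1⟩
        rw [hc₁sq] at h1
        rw [hback, h1]
        have := hcz x⁻¹
        simpa using this
    obtain ⟨h00, h11⟩ := hc₀₀
    have hQ₀enum : ∀ q ∈ Q₀, q = 1 ∨ q = c₀ ∨ q = z ∨ q = c₀ * z := by
      intro q hq
      obtain ⟨k, rfl⟩ := hgen' q hq
      have h4 : c₀ ^ (4 : ℤ) = 1 := by
        have : c₀ ^ (4 : ℤ) = c₀ * c₀ * (c₀ * c₀) := by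
          rw [show (4 : ℤ) = ((4 : ℕ) : ℤ) by norm_num, zpow_natCast]
          simp only [pow_succ, pow_zero, one_mul, mul_assoc]
        rw [this, h00, hzz]
      rw [zpow_eq_zpow_emod k h4]
      have hk0 : 0 ≤ k % 4 := Int.emod_nonneg k (by norm_num)
      have hk4 : k % 4 < 4 := Int.emod_lt_of_pos k (by norm_num)
      obtain ⟨m, hm⟩ : ∃ m : ℕ, k % 4 = m := ⟨(k % 4).toNat, (Int.toNat_of_nonneg hk0).symm⟩
      rw [hm, zpow_natCast]
      have hm4 : m < 4 := by omega
      interval_cases m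
      · left; simp
      · right; left; simp
      · right; right; left; rw [pow_two]; exact h00
      · right; right; right; rw [pow_succ, pow_two, h00]; exact (hz c₀).symm
    have hQenum : ∀ q ∈ Q, q = 1 ∨ q = c₀ ∨ q = z ∨ q = c₀ * z ∨ q = c₁ ∨ q = c₁ * c₀ ∨
        q = c₁ * z ∨ q = c₁ * c₀ * z := by
      intro q hq
      by_cases hq0 : q ∈ Q₀
      · rcases hQ₀enum q hq0 with h | h | h | h
        · exact Or.inl h
        · exact Or.inr (Or.inl h)
        · exact Or.inr (Or.inr (Or.inl h))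
        · exact Or.inr (Or.inr (Or.inr (Or.inl h)))
      · have hqC : q ∉ C := fun h => hq0 ((hmemQ₀ q).mpr ⟨hq, h⟩)
        have hc₁iC : c₁⁻¹ ∉ C := fun h => hc₁C (by simpa using C.inv_mem h)
        have hdC : c₁⁻¹ * q ∈ C := hidx _ (T.inv_mem (hQT hc₁Q)) _ (hQT hq) hc₁iC hqC
        have hd0 : c₁⁻¹ * q ∈ Q₀ := (hmemQ₀ _).mpr ⟨Q.mul_mem (Q.inv_mem hc₁Q) hq, hdC⟩
        have hq' : q = c₁ * (c₁⁻¹ * q) := by group
        rcases hQ₀enum _ hd0 with h | h | h | h
        · right; right; right; right; left; rw [hq', h, mul_one]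
        · right; right; right; right; right; left; rw [hq', h]
        · right; right; right; right; right; right; left; rw [hq', h]
        · right; right; right; right; right; right; right; rw [hq', h, mul_assoc]
    have hc₂Q : x * c₁ * x⁻¹ ∈ Q := hQn.conj_mem c₁ hc₁Q x
    have hc₂sq : (x * c₁ * x⁻¹) * (x * c₁ * x⁻¹) = z := by
      calc (x * c₁ * x⁻¹) * (x * c₁ * x⁻¹) = x * (c₁ * c₁) * x⁻¹ := by group
        _ = z := by rw [h11, hcz]
    have hxc₀ : x ∉ centralizer ({c₀} : Set G) := by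
      intro h
      rw [mem_centralizer_singleton_iff] at h
      apply hcase
      rw [hc₁, h]
      simpa using hc₀
    have hxc₁ : x ∉ centralizer ({c₁} : Set G) := by
      intro h
      rw [mem_centralizer_singleton_iff] at h
      apply hcase
      have h' : x * c₁ = x * c₀ := by rw [h, hc₁]; group
      rw [mul_left_cancel h']; exact hc₀
    have hodd_mem : ∀ (K : Subgroup G) (y : G), y ^ p = 1 → y * y ∈ K → y ∈ K :=
      fun K y hy h2 => mem_of_sq_mem_of_odd K hodd hy h2
    have hfin : x * c₁ * x⁻¹ = c₁ * c₀ ∨ x * c₁ * x⁻¹ = c₁ * c₀ * z := by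
      rcases hQenum _ hc₂Q with h | h | h | h | h | h | h | h
      · exfalso
        rw [h, mul_one] at hc₂sq; exact hz1 hc₂sq.symm
      · exfalso
        apply hxc₀
        apply hodd_mem _ x hxp
        rw [mem_centralizer_singleton_iff]
        have h' : x * (x * c₀ * x⁻¹) * x⁻¹ = c₀ := by rw [← hc₁]; exact h
        calc x * x * c₀ = x * (x * c₀ * x⁻¹) * x⁻¹ * (x * x) := by group
          _ = c₀ * (x * x) := by rw [h']
      · exfalso
        rw [h, hzz] at hc₂sq; exact hz1 hc₂sq.symm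
      · exfalso
        have h' : x * (x * c₀ * x⁻¹) * x⁻¹ = c₀ * z := by rw [← hc₁]; exact h
        have hxx : x * x * c₀ = c₀ * z * (x * x) := by
          calc x * x * c₀ = x * (x * c₀ * x⁻¹) * x⁻¹ * (x * x) := by group
            _ = c₀ * z * (x * x) := by rw [h']
        apply hxc₀
        apply hodd_mem _ x hxp
        apply hodd_mem _ (x * x) (by rw [(Commute.refl x).mul_pow, hxp, one_mul])
        rw [mem_centralizer_singleton_iff]
        calc x * x * (x * x) * c₀ = x * x * (x * x * c₀) := by group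
          _ = x * x * (c₀ * z * (x * x)) := by rw [hxx]
          _ = (x * x * c₀) * z * (x * x) := by group
          _ = c₀ * z * (x * x) * z * (x * x) := by rw [hxx]
          _ = c₀ * z * (x * x * z) * (x * x) := by group
          _ = c₀ * z * (z * (x * x)) * (x * x) := by rw [hz (x * x)]
          _ = c₀ * (z * z) * (x * x * (x * x)) := by group
          _ = c₀ * (x * x * (x * x)) := by rw [hzz, mul_one]
      · exfalso
        apply hxc₁
        rw [mem_centralizer_singleton_iff]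
        exact mul_inv_eq_iff_eq_mul.mp h
      · exact Or.inl h
      · exfalso
        have hx1 : x * c₁ = c₁ * z * x := mul_inv_eq_iff_eq_mul.mp h
        apply hxc₁
        apply hodd_mem _ x hxp
        rw [mem_centralizer_singleton_iff]
        calc x * x * c₁ = x * (x * c₁) := by group
          _ = x * (c₁ * z * x) := by rw [hx1]
          _ = (x * c₁) * z * x := by group
          _ = c₁ * z * x * z * x := by rw [hx1]
          _ = c₁ * z * (x * z) * x := by group
          _ = c₁ * z * (z * x) * x := by rw [hz x]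
          _ = c₁ * (z * z) * (x * x) := by group
          _ = c₁ * (x * x) := by rw [hzz, mul_one]
      · exact Or.inr h
    exact exists_normal_sl23_core' Q hCQ z c₀ c₁ x hz hz1 hzz hc₀Q hc₁Q h00 h11 hQenum hc₁.symm
      hfin p hodd hxp

end Cfsg.Agent.Helper48
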