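import Mathlib
import Cfsg.Agent.Helper20.QD
import Cfsg.Agent.Helper48.SL23Solv

/-!
# Dihedral and quasidihedral 2-groups have a cyclic maximal subgroup (helper48)

`HasCycMax S`: the structural facts about dihedral / quasidihedral 2-groups used to find a normal
`SL₂(3)` in a solvable group with such a Sylow 2-subgroup (`exists_normal_sl23_of_hasCycMax`).
-/

set_option autoImplicit false

namespace Cfsg.Agent.Helper48

open Subgroup

/-- `S` has a cyclic subgroup `C` of index at most two and a central involution `z`, the only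
nontrivial central element and the only involution of `C`, such that the squares of the elements
outside `C` lie in `{1, z}`. -/
def HasCycMax (S : Type*) [Group S] : Prop :=
  ∃ (C : Subgroup S) (z : S), IsCyclic C ∧ z ≠ 1 ∧ z * z = 1 ∧ (∀ t, t * z = z * t) ∧
    (∀ w, (∀ t, t * w = w * t) → w = 1 ∨ w = z) ∧
    (∀ s t, s ∉ C → t ∉ C → s * t ∈ C) ∧ (∀ t, t ∉ C → t * t = 1 ∨ t * t = z) ∧
    (∀ c ∈ C, c * c = 1 → c = 1 ∨ c = z)

theorem HasCycMax.of_mulEquiv {S S' : Type*} [Group S] [Group S'] (e : S ≃* S')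
    (h : HasCycMax S') : HasCycMax S := by
  obtain ⟨C, z, hcyc, hz1, hzz, hzc, hcen, hidx, hsq, hinv⟩ := h
  have hmem : ∀ s : S, s ∈ C.map e.symm.toMonoidHom ↔ e s ∈ C := by
    intro s
    rw [Subgroup.mem_map_equiv]
    simp
  have hcyc' : IsCyclic (C.map e.symm.toMonoidHom) :=
    isCyclic_of_surjective (e.symm.toMonoidHom.subgroupMap C)
      (MonoidHom.subgroupMap_surjective _ _)
  refine ⟨C.map e.symm.toMonoidHom, e.symm z, hcyc', ?_, ?_, ?_, ?_, ?_, ?_, ?_⟩
  · intro h
    exact hz1 (by simpa using h)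
  · rw [← map_mul, hzz, map_one]
  · intro t
    apply e.injective
    simp only [map_mul, MulEquiv.apply_symm_apply]
    exact hzc (e t)
  · intro w hw
    have hw' : ∀ t' : S', t' * e w = e w * t' := by
      intro t'
      have := congrArg e (hw (e.symm t'))
      simpa using this
    rcases hcen (e w) hw' with h | h
    · left; simpa using h
    · right; rw [← h]; simp
  · intro s t hs ht
    rw [hmem] at hs ht ⊢
    rw [map_mul]
    exact hidx _ _ hs ht
  · intro t ht
    rw [hmem] at ht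
    rcases hsq (e t) ht with h | h
    · left; apply e.injective; rw [map_mul, h, map_one]
    · right; apply e.injective; rw [map_mul, h, MulEquiv.apply_symm_apply]
  · intro c hc hcc
    rw [hmem] at hc
    have hcc' : e c * e c = 1 := by rw [← map_mul, hcc, map_one]
    rcases hinv (e c) hc hcc' with h | h
    · left; simpa using h
    · right; rw [← h]; simp

/-- A solvable group with `O(G) = 1`, not a 2-group, whose Sylow 2-subgroup `T` satisfies
`HasCycMax` and has `Z(T)` normal in `G`, has a normal subgroup isomorphic to `SL₂(3)`. -/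
theorem exists_normal_sl23_of_hasCycMax {G : Type*} [Group G] [Finite G] [Group.IsSolvable G]
    (hO : Cfsg.pPrimeCore 2 G = ⊥) (T : Sylow 2 G) (hne : (T : Subgroup G) ≠ ⊤)
    (hZ : ((T : Subgroup G) ⊓ centralizer ((T : Subgroup G) : Set G)).Normal)
    (hT : HasCycMax ↥(T : Subgroup G)) :
    ∃ U : Subgroup G, U.Normal ∧ Nonempty (U ≃* SL23) := by
  obtain ⟨C, z, hcyc, hz1, hzz, hzc, hcen, hidx, hsq, hinv⟩ := hT
  have hmemC : ∀ g : G, g ∈ C.map (T : Subgroup G).subtype ↔
      ∃ h : g ∈ (T : Subgroup G), (⟨g, h⟩ : ↥(T : Subgroup G)) ∈ C := by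
    intro g
    constructor
    · rintro ⟨t, ht, rfl⟩
      exact ⟨t.2, ht⟩
    · rintro ⟨h, hC⟩
      exact ⟨⟨g, h⟩, hC, rfl⟩
  have hzG : ∀ g : G, g * (z : G) = (z : G) * g := by
    intro g
    have hzmem : (z : G) ∈ (T : Subgroup G) ⊓ centralizer ((T : Subgroup G) : Set G) := by
      refine Subgroup.mem_inf.mpr ⟨z.2, ?_⟩
      rw [mem_centralizer_iff]
      intro h hh
      exact congrArg Subtype.val (hzc ⟨h, hh⟩)
    have hconj := hZ.conj_mem _ hzmem g
    obtain ⟨h1, h2⟩ := Subgroup.mem_inf.mp hconj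
    rw [mem_centralizer_iff] at h2
    have hw := hcen ⟨g * z * g⁻¹, h1⟩ (by
      intro t
      apply Subtype.ext
      exact h2 t t.2)
    rcases hw with hw | hw
    · exfalso
      have h3 : g * (z : G) * g⁻¹ = 1 := congrArg Subtype.val hw
      apply hz1
      apply Subtype.ext
      have : (z : G) = g⁻¹ * (g * z * g⁻¹) * g := by group
      rw [this, h3]; simp
    · have h3 : g * (z : G) * g⁻¹ = z := congrArg Subtype.val hw
      exact mul_inv_eq_iff_eq_mul.mp h3
  have hcyc' : IsCyclic (C.map (T : Subgroup G).subtype) :=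
    isCyclic_of_surjective ((T : Subgroup G).subtype.subgroupMap C)
      (MonoidHom.subgroupMap_surjective _ _)
  refine exists_normal_sl23_of_cyclic_index_two hO T hne (C.map (T : Subgroup G).subtype) hcyc'
    (z : G) hzG ?_ ?_ ?_ ?_ ?_
  · intro h; exact hz1 (Subtype.ext h)
  · exact congrArg Subtype.val hzz
  · intro s hs t ht hsC htC
    rw [hmemC] at hsC htC ⊢
    refine ⟨(T : Subgroup G).mul_mem hs ht, ?_⟩
    exact hidx ⟨s, hs⟩ ⟨t, ht⟩ (fun h => hsC ⟨hs, h⟩) (fun h => htC ⟨ht, h⟩)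
  · intro t ht htC
    rw [hmemC] at htC
    rcases hsq ⟨t, ht⟩ (fun h => htC ⟨ht, h⟩) with h | h
    · left; exact congrArg Subtype.val h
    · right; exact congrArg Subtype.val h
  · intro c hc hcc
    obtain ⟨hcT, hcC⟩ := (hmemC c).mp hc
    rcases hinv ⟨c, hcT⟩ hcC (Subtype.ext hcc) with h | h
    · left; exact congrArg Subtype.val h
    · right; exact congrArg Subtype.val h

/-! ### Dihedral groups -/

theorem zmod_two_mul_add_self_eq_zero {m : ℕ} (hm : 0 < m) (i : ZMod (2 * m)) (h : i + i = 0) :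
    i = 0 ∨ i = (m : ZMod (2 * m)) := by
  have : NeZero (2 * m) := ⟨by omega⟩
  have hv : ((i.val : ℕ) : ZMod (2 * m)) = i := ZMod.natCast_zmod_val i
  have hlt : i.val < 2 * m := ZMod.val_lt i
  have h2 : ((i.val + i.val : ℕ) : ZMod (2 * m)) = 0 := by push_cast; rw [hv]; exact h
  rw [ZMod.natCast_eq_zero_iff] at h2
  obtain ⟨c, hc⟩ := h2
  have hc01 : c = 0 ∨ c = 1 := by
    rcases c with _ | _ | c
    · left; rfl
    · right; rfl
    · exfalso; nlinarith
  rcases hc01 with rfl | rfl
  · left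
    have h0 : i.val = 0 := by omega
    rw [← hv, h0]; simp
  · right
    have h0 : i.val = m := by omega
    rw [← hv, h0]

theorem hasCycMax_dihedral {m : ℕ} (hm : 2 ≤ m) : HasCycMax (DihedralGroup (2 * m)) := by
  have : NeZero (2 * m) := ⟨by omega⟩
  have hmm : ((m : ℕ) : ZMod (2 * m)) + m = 0 := by
    have : (((2 * m : ℕ)) : ZMod (2 * m)) = 0 := ZMod.natCast_self _
    rw [← this]; push_cast; ring
  have hmne : ((m : ℕ) : ZMod (2 * m)) ≠ 0 := by
    intro h
    rw [ZMod.natCast_eq_zero_iff] at h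
    have := Nat.le_of_dvd (by omega) h
    omega
  have hC : ∀ g : DihedralGroup (2 * m),
      g ∈ zpowers (DihedralGroup.r (1 : ZMod (2 * m))) ↔ ∃ i, g = DihedralGroup.r i := by
    intro g
    constructor
    · intro hg
      obtain ⟨k, rfl⟩ := mem_zpowers_iff.mp hg
      exact ⟨_, DihedralGroup.r_one_zpow k⟩
    · rintro ⟨i, rfl⟩
      rw [← ZMod.natCast_zmod_val i, ← DihedralGroup.r_one_pow]
      exact pow_mem (mem_zpowers _) _
  refine ⟨zpowers (DihedralGroup.r 1), DihedralGroup.r (m : ZMod (2 * m)), inferInstance,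
    ?_, ?_, ?_, ?_, ?_, ?_, ?_⟩
  · intro h
    rw [DihedralGroup.one_def] at h
    exact hmne (DihedralGroup.r.inj h)
  · rw [DihedralGroup.r_mul_r, hmm, DihedralGroup.one_def]
  · rintro (i | i)
    · rw [DihedralGroup.r_mul_r, DihedralGroup.r_mul_r, add_comm]
    · rw [DihedralGroup.sr_mul_r, DihedralGroup.r_mul_sr]
      congr 1
      linear_combination hmm
  · rintro (i | i) hw
    · have h := hw (DihedralGroup.sr 0)
      rw [DihedralGroup.sr_mul_r, DihedralGroup.r_mul_sr] at h
      have h' := DihedralGroup.sr.inj h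
      have h2 : i + i = 0 := by linear_combination h'
      rcases zmod_two_mul_add_self_eq_zero (by omega) i h2 with rfl | rfl
      · left; exact DihedralGroup.one_def.symm
      · right; rfl
    · exfalso
      have h := hw (DihedralGroup.r 1)
      rw [DihedralGroup.r_mul_sr, DihedralGroup.sr_mul_r] at h
      have h' := DihedralGroup.sr.inj h
      have h2 : (1 : ZMod (2 * m)) + 1 = 0 := by linear_combination (-1 : ZMod (2 * m)) * h'
      have h3 : ((2 : ℕ) : ZMod (2 * m)) = 0 := by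
        have h4 : ((2 : ℕ) : ZMod (2 * m)) = 1 + 1 := by norm_num
        rw [h4]; exact h2
      rw [ZMod.natCast_eq_zero_iff] at h3
      have := Nat.le_of_dvd (by norm_num) h3
      omega
  · rintro (i | i) (j | j) hs ht
    · exact absurd ((hC _).mpr ⟨i, rfl⟩) hs
    · exact absurd ((hC _).mpr ⟨i, rfl⟩) hs
    · exact absurd ((hC _).mpr ⟨j, rfl⟩) ht
    · rw [DihedralGroup.sr_mul_sr]; exact (hC _).mpr ⟨_, rfl⟩
  · rintro (i | i) ht
    · exact absurd ((hC _).mpr ⟨i, rfl⟩) ht
    · left; rw [DihedralGroup.sr_mul_sr, sub_self, DihedralGroup.one_def]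
  · intro c hc hcc
    obtain ⟨i, rfl⟩ := (hC _).mp hc
    rw [DihedralGroup.r_mul_r, DihedralGroup.one_def] at hcc
    rcases zmod_two_mul_add_self_eq_zero (by omega) i (DihedralGroup.r.inj hcc) with rfl | rfl
    · left; exact DihedralGroup.one_def.symm
    · right; rfl

/-! ### Quasidihedral groups -/

open Cfsg.Agent.Helper20 in
theorem hasCycMax_of_qdGens {S : Type*} [Group S] {k : ℕ} (D : QDGens S k) : HasCycMax S := by
  have hh2 : (2 : ZMod (2 ^ (k + 3))) * 2 ^ (k + 2) = 0 := by
    rw [← pow_succ']; exact pow_card_zero k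
  have hhh : (2 : ZMod (2 ^ (k + 3))) ^ (k + 2) * 2 ^ (k + 2) = 0 := by
    have := pow_card_zero k
    calc (2 : ZMod (2 ^ (k + 3))) ^ (k + 2) * 2 ^ (k + 2) = 2 ^ (k + 3) * 2 ^ (k + 1) := by ring
      _ = 0 := by rw [this, zero_mul]
  have hC : ∀ g : S, g ∈ zpowers D.x ↔ ∃ i, g = D.A i := fun g => mem_zpowers_iff_zp D.x_pow g
  refine ⟨zpowers D.x, D.A (2 ^ (k + 2)), inferInstance, ?_, ?_, ?_, ?_, ?_, ?_, ?_⟩
  · rw [Ne, D.A_eq_one]; exact half_ne_zero3
  · rw [D.A_mul_A, ← two_mul, hh2, D.A_zero]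
  · intro t
    rcases D.exhaust t with ⟨i, rfl⟩ | ⟨i, rfl⟩
    · rw [D.A_mul_A, D.A_mul_A, add_comm]
    · rw [D.B_mul_A, D.A_mul_B]
      congr 1
      linear_combination hhh - hh2
  · intro w hw
    rcases D.exhaust w with ⟨i, rfl⟩ | ⟨i, rfl⟩
    · have h := hw (D.B 0)
      rw [D.B_mul_A, D.A_mul_B] at h
      have e := D.B_inj.mp h
      obtain ⟨j, hj | hj⟩ := even_or_odd3 i
      · have h2 : 2 * i = 0 := by
          linear_combination (-1 : ZMod (2 ^ (k + 3))) * e + 2 ^ (k + 2) * hj + j * hh2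
        rcases two_mul_eq_zero3 h2 with rfl | rfl
        · left; exact D.A_zero
        · right; rfl
      · exfalso
        subst hj
        have e2 : (2 : ZMod (2 ^ (k + 3))) * (2 ^ (k + 1) - 2 * j - 1) = 0 := by
          linear_combination e - j * hh2
        rcases two_mul_eq_zero3 e2 with h0 | h1
        · exact two_mul_ne_one3 (2 ^ k - j) (by linear_combination h0)
        · exact two_mul_ne_one3 (2 ^ k - j - 2 ^ (k + 1)) (by linear_combination h1)
    · exfalso
      have h := hw (D.A 1)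
      rw [D.A_mul_B, D.B_mul_A] at h
      have e := D.B_inj.mp h
      have e2 : (2 : ZMod (2 ^ (k + 3))) * (2 ^ (k + 1) - 1) = 0 := by
        linear_combination (-1 : ZMod (2 ^ (k + 3))) * e
      rcases two_mul_eq_zero3 e2 with h0 | h1
      · exact two_mul_ne_one3 (2 ^ k) (by linear_combination h0)
      · exact two_mul_ne_one3 (2 ^ k - 2 ^ (k + 1)) (by linear_combination h1)
  · intro s t hs ht
    rcases D.exhaust s with ⟨i, rfl⟩ | ⟨i, rfl⟩
    · exact absurd ((hC _).mpr ⟨i, rfl⟩) hs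
    · rcases D.exhaust t with ⟨j, rfl⟩ | ⟨j, rfl⟩
      · exact absurd ((hC _).mpr ⟨j, rfl⟩) ht
      · rw [D.B_mul_B]; exact (hC _).mpr ⟨_, rfl⟩
  · intro t ht
    rcases D.exhaust t with ⟨i, rfl⟩ | ⟨i, rfl⟩
    · exact absurd ((hC _).mpr ⟨i, rfl⟩) ht
    · rw [D.B_mul_self]
      obtain ⟨j, rfl | rfl⟩ := even_or_odd3 i
      · left
        have : (2 : ZMod (2 ^ (k + 3))) ^ (k + 2) * (2 * j) = 0 := by
          linear_combination j * hh2
        rw [this, D.A_zero]
      · right
        have : (2 : ZMod (2 ^ (k + 3))) ^ (k + 2) * (2 * j + 1) = 2 ^ (k + 2) := by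
          linear_combination j * hh2
        rw [this]
  · intro c hc hcc
    obtain ⟨i, rfl⟩ := (hC _).mp hc
    rw [D.A_mul_A, D.A_eq_one, ← two_mul] at hcc
    rcases two_mul_eq_zero3 hcc with rfl | rfl
    · left; exact D.A_zero
    · right; rfl

theorem hasCycMax_of_isQuasiDihedral {S : Type*} [Group S] (hS : Cfsg.IsQuasiDihedral S) :
    HasCycMax S := by
  obtain ⟨k, ⟨D⟩⟩ := Cfsg.Agent.Helper20.exists_qdGens hS
  exact hasCycMax_of_qdGens D

end Cfsg.Agent.Helper48
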