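import Mathlib
import Cfsg.Agent.Helper48.CharPLocal
import Cfsg.Agent.Helper47.Basic

/-!
# Groups `G` with a normal `2`-subgroup `Q` and `G/Q` dihedral of order `2r` (helper48)

`R` a Sylow `r`-subgroup with `C_Q(R) = 1`.  Then `N_G(R)` is a dihedral complement to `Q`,
all involutions outside `Q` are conjugate and `|C_Q(a)|² = |Q|` for an involution `a` of `N_G(R)`.
-/

set_option autoImplicit false

namespace Cfsg.Agent.Helper48

open Subgroup
open scoped Pointwise

section DihQuot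

/-- An involution of the dihedral group of order `2r` (`r` an odd prime) does not commute with
a nontrivial element of order `r`. -/
theorem dihedral_invol_not_comm {r : ℕ} [Fact r.Prime] (hr : r ≠ 2) (α β : DihedralGroup r)
    (hα : α * α = 1) (hα1 : α ≠ 1) (hβ : β ^ r = 1) (hβ1 : β ≠ 1) : α * β ≠ β * α := by
  have hp : r.Prime := Fact.out
  have h2 : (2 : ZMod r) ≠ 0 := by
    intro h
    have h' : ((2 : ℕ) : ZMod r) = 0 := by exact_mod_cast h
    rw [ZMod.natCast_eq_zero_iff] at h'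
    exact hr ((Nat.prime_dvd_prime_iff_eq hp Nat.prime_two).mp h')
  cases α with
  | r i =>
    exfalso
    rw [DihedralGroup.r_mul_r, DihedralGroup.one_def] at hα
    have hi : i + i = 0 := DihedralGroup.r.inj hα
    have h0 : i = 0 := by
      have h3 : (2 : ZMod r) * i = 0 := by rw [two_mul]; exact hi
      rcases mul_eq_zero.mp h3 with h | h
      · exact absurd h h2
      · exact h
    apply hα1
    rw [h0, DihedralGroup.one_def]
  | sr i =>
    cases β with
    | sr j =>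
      exfalso
      have h3 : orderOf (DihedralGroup.sr j) ∣ r := orderOf_dvd_of_pow_eq_one hβ
      rw [DihedralGroup.orderOf_sr] at h3
      exact hr ((Nat.prime_dvd_prime_iff_eq Nat.prime_two hp).mp h3).symm
    | r j =>
      rw [DihedralGroup.sr_mul_r, DihedralGroup.r_mul_sr]
      intro h
      have h4 : i + j = i - j := DihedralGroup.sr.inj h
      have h5 : (2 : ZMod r) * j = 0 := by linear_combination h4
      rcases mul_eq_zero.mp h5 with h | h
      · exact h2 h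
      · apply hβ1
        rw [h, DihedralGroup.one_def]

variable {G : Type*} [Group G] [Finite G] {r : ℕ} [Fact r.Prime]

theorem dq_inf_bot (hr : r ≠ 2) (Q : Subgroup G) (hQ : IsPGroup 2 Q) (R : Sylow r G) :
    (R : Subgroup G) ⊓ Q = ⊥ := by
  have : Fact (Nat.Prime 2) := ⟨Nat.prime_two⟩
  exact disjoint_iff.mp (IsPGroup.disjoint_of_ne r 2 hr _ _ R.isPGroup' hQ)

theorem dq_card_G (Q : Subgroup G) [Q.Normal] (e : G ⧸ Q ≃* DihedralGroup r) :
    Nat.card G = 2 * r * Nat.card Q := by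
  rw [Subgroup.card_eq_card_quotient_mul_card_subgroup Q, Nat.card_congr e.toEquiv,
    DihedralGroup.nat_card]

theorem dq_card_R (hr : r ≠ 2) (Q : Subgroup G) [Q.Normal] (hQ : IsPGroup 2 Q)
    (e : G ⧸ Q ≃* DihedralGroup r) (R : Sylow r G) : Nat.card R = r := by
  have hp : r.Prime := Fact.out
  obtain ⟨m, hm⟩ := IsPGroup.iff_card.mp hQ
  obtain ⟨j, hj⟩ := IsPGroup.iff_card.mp R.isPGroup'
  have hG := dq_card_G Q e
  have h1 : r ∣ Nat.card R := R.dvd_card_of_dvd_card (by rw [hG]; exact ⟨2 * Nat.card Q, by ring⟩)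
  have h2 : Nat.card R ∣ Nat.card G := Subgroup.card_subgroup_dvd_card _
  rw [hG, hm, hj] at h2
  have hcop : Nat.Coprime (r ^ j) (2 ^ m * 2) := by
    apply Nat.Coprime.pow_left
    apply Nat.Coprime.mul_right
    · exact Nat.Coprime.pow_right m ((Nat.coprime_primes hp Nat.prime_two).mpr hr)
    · exact (Nat.coprime_primes hp Nat.prime_two).mpr hr
  have h3 : r ^ j ∣ r := by
    apply hcop.dvd_of_dvd_mul_left
    have : 2 * r * 2 ^ m = 2 ^ m * 2 * r := by ring
    rwa [this] at h2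
  have hj1 : j ≤ 1 := by
    by_contra h
    have h4 : r ^ 2 ∣ r := (pow_dvd_pow r (by omega)).trans h3
    have h5 := Nat.le_of_dvd hp.pos h4
    have h6 : r * 2 ≤ r ^ 2 := by rw [sq]; exact Nat.mul_le_mul_left _ hp.two_le
    have := hp.pos
    omega
  have hj0 : j ≠ 0 := by
    rintro rfl
    rw [hj, pow_zero, Nat.dvd_one] at h1
    exact hp.one_lt.ne' h1
  have : j = 1 := by omega
  rw [hj, this, pow_one]

theorem dq_normalizer_inf (hr : r ≠ 2) (Q : Subgroup G) [Q.Normal] (hQ : IsPGroup 2 Q)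
    (R : Sylow r G) (hC : Q ⊓ centralizer ((R : Subgroup G) : Set G) = ⊥) :
    normalizer ((R : Subgroup G) : Set G) ⊓ Q = ⊥ := by
  rw [eq_bot_iff]
  rintro x ⟨hxN, hxQ⟩
  have hx : x ∈ Q ⊓ centralizer ((R : Subgroup G) : Set G) := by
    refine Subgroup.mem_inf.mpr ⟨hxQ, ?_⟩
    rw [mem_centralizer_iff]
    intro y hy
    have h1 : x * y * x⁻¹ * y⁻¹ ∈ (R : Subgroup G) ⊓ Q := by
      refine Subgroup.mem_inf.mpr ⟨mul_mem ((mem_normalizer_iff.mp hxN y).mp hy) (inv_mem hy), ?_⟩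
      have h2 : x * y * x⁻¹ * y⁻¹ = x * (y * x⁻¹ * y⁻¹) := by group
      rw [h2]
      exact mul_mem hxQ (Subgroup.Normal.conj_mem inferInstance _ (inv_mem hxQ) y)
    rw [dq_inf_bot hr Q hQ R, Subgroup.mem_bot] at h1
    calc y * x = (x * y * x⁻¹ * y⁻¹)⁻¹ * (x * y) := by group
      _ = x * y := by rw [h1, inv_one, one_mul]
  rw [hC] at hx
  exact hx

theorem dq_card_sup_le (Q : Subgroup G) [Q.Normal] (R : Subgroup G) :
    Nat.card ↥(Q ⊔ R) ≤ Nat.card Q * Nat.card R := by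
  have hsurj : Function.Surjective (fun x : Q × R =>
      (⟨(x.1 : G) * x.2, mul_mem (mem_sup_left x.1.2) (mem_sup_right x.2.2)⟩ : ↥(Q ⊔ R))) := by
    rintro ⟨y, hy⟩
    have : y ∈ (Q : Set G) * (R : Set G) := by
      rw [← Subgroup.normal_mul]
      exact hy
    obtain ⟨d, hd, z, hz, rfl⟩ := Set.mem_mul.mp this
    exact ⟨(⟨d, hd⟩, ⟨z, hz⟩), rfl⟩
  have := Nat.card_le_card_of_surjective _ hsurj
  rwa [Nat.card_prod] at this

theorem dq_index_two (hr : r ≠ 2) (Q : Subgroup G) [Q.Normal] (hQ : IsPGroup 2 Q)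
    (e : G ⧸ Q ≃* DihedralGroup r) (R : Sylow r G) : (Q ⊔ (R : Subgroup G)).index = 2 := by
  have hp : r.Prime := Fact.out
  obtain ⟨m, hm⟩ := IsPGroup.iff_card.mp hQ
  have hG := dq_card_G Q e
  have hR := dq_card_R hr Q hQ e R
  have h1 : (Q ⊔ (R : Subgroup G)).index ∣ (R : Subgroup G).index :=
    Subgroup.index_dvd_of_le le_sup_right
  have h2 : (Q ⊔ (R : Subgroup G)).index ∣ Q.index := Subgroup.index_dvd_of_le le_sup_left
  have hRi : (R : Subgroup G).index = 2 ^ (m + 1) := by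
    have h3 := Subgroup.card_mul_index (R : Subgroup G)
    rw [hG, hm, hR] at h3
    have h4 : r * (R : Subgroup G).index = r * 2 ^ (m + 1) := by rw [h3]; ring
    exact Nat.eq_of_mul_eq_mul_left hp.pos h4
  have hQi : Q.index = 2 * r := by
    rw [Subgroup.index, Nat.card_congr e.toEquiv, DihedralGroup.nat_card]
  rw [hRi] at h1
  rw [hQi] at h2
  obtain ⟨i, -, hi⟩ := (Nat.dvd_prime_pow Nat.prime_two).mp h1
  rw [hi] at h2
  have hcop : Nat.Coprime (2 ^ i) r :=
    Nat.Coprime.pow_left i ((Nat.coprime_primes Nat.prime_two hp).mpr (Ne.symm hr))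
  have h5 : 2 ^ i ∣ 2 := hcop.dvd_of_dvd_mul_right h2
  have hi1 : i ≤ 1 := by
    by_contra h
    have h6 : 2 ^ 2 ∣ 2 := (pow_dvd_pow 2 (by omega)).trans h5
    norm_num at h6
  have hi0 : i ≠ 0 := by
    rintro rfl
    rw [pow_zero] at hi
    have h7 := Subgroup.card_mul_index (Q ⊔ (R : Subgroup G))
    rw [hi, mul_one, hG] at h7
    have h8 := dq_card_sup_le Q (R : Subgroup G)
    rw [h7] at h8
    have hR' : Nat.card (R : Subgroup G) = r := hR
    rw [hR'] at h8
    have hpos : 0 < Nat.card Q := Nat.card_pos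
    have : 2 * r * Nat.card Q = 2 * (Nat.card Q * r) := by ring
    rw [this] at h8
    have : 0 < Nat.card Q * r := Nat.mul_pos hpos hp.pos
    omega
  have : i = 1 := by omega
  rw [hi, this, pow_one]

theorem dq_normalizer_sup (hr : r ≠ 2) (Q : Subgroup G) [Q.Normal] (hQ : IsPGroup 2 Q)
    (e : G ⧸ Q ≃* DihedralGroup r) (R : Sylow r G) :
    normalizer ((R : Subgroup G) : Set G) ⊔ Q = ⊤ := by
  have hK : (Q ⊔ (R : Subgroup G)).Normal :=
    Subgroup.normal_of_index_eq_two (dq_index_two hr Q hQ e R)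
  have hfr := Sylow.normalizer_sup_eq_top
    (Cfsg.Agent.Helper47.sylowInfNormal R (Q ⊔ (R : Subgroup G)))
  rw [Cfsg.Agent.Helper47.sylowInfNormal_map, inf_eq_left.mpr le_sup_right] at hfr
  rw [eq_top_iff, ← hfr]
  apply sup_le le_sup_left
  apply sup_le le_sup_right
  exact le_sup_of_le_left Subgroup.le_normalizer

theorem dq_equiv (hr : r ≠ 2) (Q : Subgroup G) [Q.Normal] (hQ : IsPGroup 2 Q)
    (e : G ⧸ Q ≃* DihedralGroup r) (R : Sylow r G)
    (hC : Q ⊓ centralizer ((R : Subgroup G) : Set G) = ⊥) :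
    Nonempty (↥(normalizer ((R : Subgroup G) : Set G)) ≃* DihedralGroup r) := by
  have hinf := dq_normalizer_inf hr Q hQ R hC
  have hsup := dq_normalizer_sup hr Q hQ e R
  have hinj : Function.Injective
      ((QuotientGroup.mk' Q).comp (normalizer ((R : Subgroup G) : Set G)).subtype) := by
    rw [injective_iff_map_eq_one]
    rintro ⟨x, hx⟩ h
    have h1 : x ∈ Q := (QuotientGroup.eq_one_iff x).mp h
    have h2 : x ∈ normalizer ((R : Subgroup G) : Set G) ⊓ Q := Subgroup.mem_inf.mpr ⟨hx, h1⟩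
    rw [hinf, Subgroup.mem_bot] at h2
    exact Subtype.ext h2
  have hsurj : Function.Surjective
      ((QuotientGroup.mk' Q).comp (normalizer ((R : Subgroup G) : Set G)).subtype) := by
    intro y
    obtain ⟨g, rfl⟩ := QuotientGroup.mk'_surjective Q y
    have hg : g ∈ normalizer ((R : Subgroup G) : Set G) ⊔ Q := by rw [hsup]; exact mem_top _
    have hg' : g ∈ ((normalizer ((R : Subgroup G) : Set G) : Subgroup G) : Set G) * (Q : Set G) := by
      rw [← Subgroup.mul_normal]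
      exact hg
    obtain ⟨n, hn, q, hq, rfl⟩ := Set.mem_mul.mp hg'
    refine ⟨⟨n, hn⟩, ?_⟩
    show QuotientGroup.mk' Q n = QuotientGroup.mk' Q (n * q)
    have hq1 : QuotientGroup.mk' Q q = 1 := (QuotientGroup.eq_one_iff q).mpr hq
    rw [map_mul, hq1, mul_one]
  exact ⟨(MulEquiv.ofBijective _ ⟨hinj, hsurj⟩).trans e⟩

theorem dq_not_comm (hr : r ≠ 2) (Q : Subgroup G) [Q.Normal] (e : G ⧸ Q ≃* DihedralGroup r)
    (a y : G) (ha : a * a = 1) (haQ : a ∉ Q) (hy : y ^ r = 1) (hyQ : y ∉ Q) :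
    a * y ≠ y * a := by
  intro h
  apply dihedral_invol_not_comm hr (e (QuotientGroup.mk' Q a)) (e (QuotientGroup.mk' Q y))
  · rw [← map_mul, ← map_mul, ha, map_one, map_one]
  · intro h1
    apply haQ
    have h2 := e.injective (h1.trans (map_one e).symm)
    exact (QuotientGroup.eq_one_iff a).mp h2
  · rw [← map_pow, ← map_pow, hy, map_one, map_one]
  · intro h1
    apply hyQ
    have h2 := e.injective (h1.trans (map_one e).symm)
    exact (QuotientGroup.eq_one_iff y).mp h2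
  · rw [← map_mul, ← map_mul, h, map_mul, map_mul]

/-- An element outside `Q` whose `r`-th power lies in `Q` has order `r`. -/
theorem dq_pow_eq_one (hr : r ≠ 2) (Q : Subgroup G) [Q.Normal] (hQ : IsPGroup 2 Q)
    (e : G ⧸ Q ≃* DihedralGroup r) (R : Sylow r G)
    (hC : Q ⊓ centralizer ((R : Subgroup G) : Set G) = ⊥) (g : G) (hg : g ∉ Q)
    (hgr : g ^ r ∈ Q) : g ^ r = 1 := by
  have hp : r.Prime := Fact.out
  obtain ⟨m, hm⟩ := IsPGroup.iff_card.mp hQ
  have hz : (g ^ r) ^ (2 ^ m) = 1 := by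
    have h1 : (⟨g ^ r, hgr⟩ : Q) ^ (Nat.card Q) = 1 := pow_card_eq_one'
    rw [hm] at h1
    exact congrArg Subtype.val h1
  have hu : (g ^ (2 ^ m)) ^ r = 1 := by
    rw [← pow_mul, mul_comm, pow_mul]
    exact hz
  have hu1 : g ^ (2 ^ m) ≠ 1 := by
    intro h
    apply hg
    have hcop : Nat.Coprime (2 ^ m) r :=
      Nat.Coprime.pow_left m ((Nat.coprime_primes Nat.prime_two hp).mpr (Ne.symm hr))
    have h4 := Int.gcd_eq_gcd_ab ((2 ^ m : ℕ) : ℤ) (r : ℤ)
    have h3 : Int.gcd ((2 ^ m : ℕ) : ℤ) (r : ℤ) = 1 := by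
      rw [Int.gcd_natCast_natCast]
      exact hcop
    rw [h3] at h4
    have h6 : g ^ (1 : ℤ) = g ^ (((2 ^ m : ℕ) : ℤ) * Int.gcdA ((2 ^ m : ℕ) : ℤ) r +
        (r : ℤ) * Int.gcdB ((2 ^ m : ℕ) : ℤ) r) := by
      rw [← h4]
      simp
    rw [zpow_one, zpow_add, zpow_mul, zpow_mul, zpow_natCast, zpow_natCast, h, one_zpow,
      one_mul] at h6
    rw [h6]
    exact zpow_mem hgr _
  have hord : orderOf (g ^ (2 ^ m)) = r := by
    rcases (Nat.dvd_prime hp).mp (orderOf_dvd_of_pow_eq_one hu) with h | h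
    · exact absurd (orderOf_eq_one_iff.mp h) hu1
    · exact h
  have hPG : IsPGroup r (zpowers (g ^ (2 ^ m))) :=
    IsPGroup.of_card (n := 1) (by rw [Nat.card_zpowers, hord, pow_one])
  obtain ⟨R', hR'⟩ := hPG.exists_le_sylow
  have hR'eq : zpowers (g ^ (2 ^ m)) = (R' : Subgroup G) := by
    apply Subgroup.eq_of_le_of_card_ge hR'
    have h1 : Nat.card (R' : Subgroup G) = r := dq_card_R hr Q hQ e R'
    rw [h1, Nat.card_zpowers, hord]
  obtain ⟨k, hk⟩ := exists_conj_mem_sylow R R'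
  have hzc : k⁻¹ * g ^ r * k ∈ Q ⊓ centralizer ((R : Subgroup G) : Set G) := by
    refine Subgroup.mem_inf.mpr ⟨?_, ?_⟩
    · have := Subgroup.Normal.conj_mem (inferInstance : Q.Normal) _ hgr k⁻¹
      rwa [inv_inv] at this
    · rw [mem_centralizer_iff]
      intro t ht
      have h1 : k * t * k⁻¹ ∈ (R' : Subgroup G) := by
        rw [hk]
        have : k⁻¹ * (k * t * k⁻¹) * k = t := by group
        rw [this]
        exact ht
      rw [← hR'eq] at h1
      obtain ⟨i, hi⟩ := Subgroup.mem_zpowers_iff.mp h1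
      have hcomm : Commute (g ^ r) (k * t * k⁻¹) := by
        rw [← hi]
        exact ((Commute.refl g).pow_pow r (2 ^ m)).zpow_right i
      have h2 : g ^ r * (k * t * k⁻¹) = (k * t * k⁻¹) * g ^ r := hcomm
      calc t * (k⁻¹ * g ^ r * k) = k⁻¹ * ((k * t * k⁻¹) * g ^ r) * k := by group
        _ = k⁻¹ * (g ^ r * (k * t * k⁻¹)) * k := by rw [h2]
        _ = k⁻¹ * g ^ r * k * t := by group
  rw [hC, Subgroup.mem_bot] at hzc
  calc g ^ r = k * (k⁻¹ * g ^ r * k) * k⁻¹ := by group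
    _ = 1 := by rw [hzc]; group

theorem dq_pow_mem (hr : r ≠ 2) (Q : Subgroup G) [Q.Normal] (hQ : IsPGroup 2 Q)
    (e : G ⧸ Q ≃* DihedralGroup r) (R : Sylow r G) (g : G)
    (hg : g ∈ Q ⊔ (R : Subgroup G)) : g ^ r ∈ Q := by
  have hg' : g ∈ (Q : Set G) * ((R : Subgroup G) : Set G) := by
    rw [← Subgroup.normal_mul]
    exact hg
  obtain ⟨q, hq, y, hy, rfl⟩ := Set.mem_mul.mp hg'
  have hyr : y ^ r = 1 := by
    have h1 : (⟨y, hy⟩ : (R : Subgroup G)) ^ Nat.card (R : Subgroup G) = 1 := pow_card_eq_one'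
    have h2 : Nat.card (R : Subgroup G) = r := dq_card_R hr Q hQ e R
    rw [h2] at h1
    exact congrArg Subtype.val h1
  rw [← QuotientGroup.eq_one_iff]
  have hq1 : QuotientGroup.mk' Q q = 1 := (QuotientGroup.eq_one_iff q).mpr hq
  show QuotientGroup.mk' Q ((q * y) ^ r) = 1
  rw [map_pow, map_mul, hq1, one_mul, ← map_pow, hyr, map_one]

theorem dq_invol_not_mem (hr : r ≠ 2) (Q : Subgroup G) [Q.Normal] (hQ : IsPGroup 2 Q)
    (e : G ⧸ Q ≃* DihedralGroup r) (R : Sylow r G)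
    (hC : Q ⊓ centralizer ((R : Subgroup G) : Set G) = ⊥) (b : G) (hb : b * b = 1)
    (hbQ : b ∉ Q) : b ∉ Q ⊔ (R : Subgroup G) := by
  intro hbK
  have hp : r.Prime := Fact.out
  have h1 := dq_pow_eq_one hr Q hQ e R hC b hbQ (dq_pow_mem hr Q hQ e R b hbK)
  have h2 : orderOf b ∣ Nat.gcd 2 r :=
    Nat.dvd_gcd (orderOf_dvd_of_pow_eq_one (by rw [sq]; exact hb)) (orderOf_dvd_of_pow_eq_one h1)
  have h3 : Nat.gcd 2 r = 1 := (Nat.coprime_primes Nat.prime_two hp).mpr (Ne.symm hr)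
  rw [h3, Nat.dvd_one] at h2
  apply hbQ
  rw [orderOf_eq_one_iff.mp h2]
  exact one_mem _

omit [Finite G] in
/-- Two involutions whose product has odd order are conjugate. -/
theorem conj_of_involutions (a b : G) (ha : a * a = 1) (hb : b * b = 1) (m : ℕ)
    (h : (b * a) ^ (2 * m + 1) = 1) : ∃ g : G, g * a * g⁻¹ = b := by
  refine ⟨(b * a) ^ (m + 1), ?_⟩
  have hainv : a⁻¹ = a := inv_eq_of_mul_eq_one_left ha
  have hbinv : b⁻¹ = b := inv_eq_of_mul_eq_one_left hb
  have h1 : a * (b * a) * a⁻¹ = (b * a)⁻¹ := by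
    rw [mul_inv_rev, hainv, hbinv]
    calc a * (b * a) * a = a * b * (a * a) := by group
      _ = a * b := by rw [ha, mul_one]
  have h2 : a * (b * a) ^ (m + 1) * a⁻¹ = ((b * a) ^ (m + 1))⁻¹ := by
    rw [← conj_pow, h1, inv_pow]
  have h3 : (b * a) ^ (m + 1) * (b * a) ^ (m + 1) = (b * a) ^ (2 * m + 1) * (b * a) := by
    rw [← pow_add, ← pow_succ]
    congr 1
    omega
  calc (b * a) ^ (m + 1) * a * ((b * a) ^ (m + 1))⁻¹
      = (b * a) ^ (m + 1) * a * (a * (b * a) ^ (m + 1) * a⁻¹) := by rw [h2]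
    _ = (b * a) ^ (m + 1) * (a * a) * (b * a) ^ (m + 1) * a⁻¹ := by group
    _ = (b * a) ^ (m + 1) * (b * a) ^ (m + 1) * a⁻¹ := by rw [ha, mul_one]
    _ = (b * a) ^ (2 * m + 1) * (b * a) * a⁻¹ := by rw [h3]
    _ = b := by rw [h, one_mul, hainv, mul_assoc, ha, mul_one]

theorem dq_exists_ne_one (hr : r ≠ 2) (Q : Subgroup G) [Q.Normal] (hQ : IsPGroup 2 Q)
    (e : G ⧸ Q ≃* DihedralGroup r) (R : Sylow r G) :
    ∃ y ∈ (R : Subgroup G), y ≠ 1 ∧ y ^ r = 1 ∧ y ∉ Q := by
  have hp : r.Prime := Fact.out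
  have hcard : Nat.card (R : Subgroup G) = r := dq_card_R hr Q hQ e R
  have hne : (R : Subgroup G) ≠ ⊥ := by
    intro h
    rw [h, Subgroup.card_bot] at hcard
    exact hp.one_lt.ne hcard
  obtain ⟨y, hy, hy1⟩ := (Subgroup.ne_bot_iff_exists_ne_one.mp hne : ∃ y : (R : Subgroup G), y ≠ 1) |>.imp
    (fun y h => h) |> fun ⟨y, h⟩ => (⟨(y : G), y.2, fun h' => h (Subtype.ext h')⟩ : ∃ y ∈ (R : Subgroup G), y ≠ 1)
  refine ⟨y, hy, hy1, ?_, ?_⟩
  · have h1 : (⟨y, hy⟩ : (R : Subgroup G)) ^ Nat.card (R : Subgroup G) = 1 := pow_card_eq_one'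
    rw [hcard] at h1
    exact congrArg Subtype.val h1
  · intro hyQ
    have h1 : y ∈ (R : Subgroup G) ⊓ Q := Subgroup.mem_inf.mpr ⟨hy, hyQ⟩
    rw [dq_inf_bot hr Q hQ R, Subgroup.mem_bot] at h1
    exact hy1 h1

/-- All involutions outside `Q` are conjugate to an involution of `N_G(R)`. -/
theorem dq_conj (hr : r ≠ 2) (Q : Subgroup G) [Q.Normal] (hQ : IsPGroup 2 Q)
    (e : G ⧸ Q ≃* DihedralGroup r) (R : Sylow r G)
    (hC : Q ⊓ centralizer ((R : Subgroup G) : Set G) = ⊥) (a : G)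
    (haN : a ∈ normalizer ((R : Subgroup G) : Set G)) (ha2 : a * a = 1) (ha1 : a ≠ 1)
    (b : G) (hb2 : b * b = 1) (hbQ : b ∉ Q) : ∃ g : G, g * a * g⁻¹ = b := by
  have hp : r.Prime := Fact.out
  have haQ : a ∉ Q := by
    intro haQ
    have h1 : a ∈ normalizer ((R : Subgroup G) : Set G) ⊓ Q := Subgroup.mem_inf.mpr ⟨haN, haQ⟩
    rw [dq_normalizer_inf hr Q hQ R hC, Subgroup.mem_bot] at h1
    exact ha1 h1
  obtain ⟨m, hm⟩ : ∃ m, r = 2 * m + 1 := by
    obtain ⟨m, hm⟩ := hp.odd_of_ne_two hr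
    exact ⟨m, hm⟩
  have hidx := dq_index_two hr Q hQ e R
  have key : ∀ a' : G, a' * a' = 1 → a' ∉ Q → b * a' ∉ Q → ∃ g : G, g * a' * g⁻¹ = b := by
    intro a' ha' ha'Q hba'
    have h1 := dq_invol_not_mem hr Q hQ e R hC b hb2 hbQ
    have h2 := dq_invol_not_mem hr Q hQ e R hC a' ha' ha'Q
    have h3 : b * a' ∈ Q ⊔ (R : Subgroup G) :=
      (Subgroup.mul_mem_iff_of_index_two hidx).mpr ⟨fun h => absurd h h1, fun h => absurd h h2⟩
    have h4 := dq_pow_eq_one hr Q hQ e R hC (b * a') hba' (dq_pow_mem hr Q hQ e R _ h3)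
    rw [hm] at h4
    exact conj_of_involutions a' b ha' hb2 m h4
  by_cases h : b * a ∈ Q
  · obtain ⟨y, hyR, hy1, hyr, hyQ⟩ := dq_exists_ne_one hr Q hQ e R
    have ha' : (y * a * y⁻¹) * (y * a * y⁻¹) = 1 := by
      calc (y * a * y⁻¹) * (y * a * y⁻¹) = y * (a * a) * y⁻¹ := by group
        _ = 1 := by rw [ha2]; group
    have ha'Q : y * a * y⁻¹ ∉ Q := by
      intro h1
      apply haQ
      have := Subgroup.Normal.conj_mem (inferInstance : Q.Normal) _ h1 y⁻¹
      have e1 : y⁻¹ * (y * a * y⁻¹) * y⁻¹⁻¹ = a := by group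
      rwa [e1] at this
    have hba' : b * (y * a * y⁻¹) ∉ Q := by
      intro h1
      have h2 : a⁻¹ * y * a * y⁻¹ ∈ Q := by
        have e1 : a⁻¹ * y * a * y⁻¹ = (b * a)⁻¹ * (b * (y * a * y⁻¹)) := by group
        rw [e1]
        exact mul_mem (inv_mem h) h1
      have h3 : a⁻¹ * y * a * y⁻¹ ∈ (R : Subgroup G) := by
        have h4 := (mem_normalizer_iff.mp (inv_mem haN) y).mp hyR
        rw [inv_inv] at h4
        exact mul_mem h4 (inv_mem hyR)
      have h5 : a⁻¹ * y * a * y⁻¹ ∈ (R : Subgroup G) ⊓ Q := Subgroup.mem_inf.mpr ⟨h3, h2⟩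
      rw [dq_inf_bot hr Q hQ R, Subgroup.mem_bot] at h5
      apply dq_not_comm hr Q e a y ha2 haQ hyr hyQ
      calc a * y = a * 1 * y := by group
        _ = a * (a⁻¹ * y * a * y⁻¹) * y := by rw [h5]
        _ = y * a := by group
    obtain ⟨g, hg⟩ := key _ ha' ha'Q hba'
    refine ⟨g * y, ?_⟩
    rw [← hg]
    group
  · exact key a ha2 haQ h

omit [Finite G] [Fact (Nat.Prime r)] in
theorem conj_mem_zpowers_iff (b u : G) (hb : b * b = 1) (h : b * u * b⁻¹ = u⁻¹) (s : G) :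
    s ∈ zpowers u ↔ b * s * b⁻¹ ∈ zpowers u := by
  have hbinv : b⁻¹ = b := inv_eq_of_mul_eq_one_left hb
  have key : ∀ s : G, s ∈ zpowers u → b * s * b⁻¹ ∈ zpowers u := by
    intro s hs
    obtain ⟨i, rfl⟩ := Subgroup.mem_zpowers_iff.mp hs
    have h1 : b * u ^ i * b⁻¹ = (u⁻¹) ^ i := by
      rw [← h]
      exact (conj_zpow (a := b) (b := u) (i := i)).symm
    rw [h1]
    exact zpow_mem (inv_mem (mem_zpowers u)) i
  constructor
  · exact key s
  · intro hs
    have h2 := key _ hs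
    have e1 : b * (b * s * b⁻¹) * b⁻¹ = s := by
      rw [hbinv]
      calc b * (b * s * b) * b = (b * b) * s * (b * b) := by group
        _ = s := by rw [hb]; group
    rwa [e1] at h2

/-- `|C_Q(a)|² = |Q|` for an involution `a` of `N_G(R)`. -/
theorem dq_card_centralizer (hr : r ≠ 2) (Q : Subgroup G) [Q.Normal] (hQ : IsPGroup 2 Q)
    (e : G ⧸ Q ≃* DihedralGroup r) (R : Sylow r G)
    (hC : Q ⊓ centralizer ((R : Subgroup G) : Set G) = ⊥) (a : G)
    (haN : a ∈ normalizer ((R : Subgroup G) : Set G)) (ha2 : a * a = 1) (ha1 : a ≠ 1) :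
    Nat.card ↥(Q ⊓ centralizer ({a} : Set G)) ^ 2 = Nat.card Q := by
  have hp : r.Prime := Fact.out
  have hainv : a⁻¹ = a := inv_eq_of_mul_eq_one_left ha2
  have haQ : a ∉ Q := by
    intro haQ
    have h1 : a ∈ normalizer ((R : Subgroup G) : Set G) ⊓ Q := Subgroup.mem_inf.mpr ⟨haN, haQ⟩
    rw [dq_normalizer_inf hr Q hQ R hC, Subgroup.mem_bot] at h1
    exact ha1 h1
  obtain ⟨y, hyR, hy1, hyr, hyQ⟩ := dq_exists_ne_one hr Q hQ e R
  have hyN : y ∈ normalizer ((R : Subgroup G) : Set G) := Subgroup.le_normalizer hyR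
  have hy0R : a * y * a * y⁻¹ ∈ (R : Subgroup G) := by
    have h4 := (mem_normalizer_iff.mp haN y).mp hyR
    rw [hainv] at h4
    exact mul_mem h4 (inv_mem hyR)
  have hy01 : a * y * a * y⁻¹ ≠ 1 := by
    intro h
    apply dq_not_comm hr Q e a y ha2 haQ hyr hyQ
    calc a * y = (a * y * a * y⁻¹) * y * a⁻¹ := by group
      _ = y * a := by rw [h, hainv, one_mul]
  have hcardR : Nat.card (R : Subgroup G) = r := dq_card_R hr Q hQ e R
  have hgen : (R : Subgroup G) ≤ zpowers (a * y * a * y⁻¹) := by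
    have hle : zpowers (a * y * a * y⁻¹) ≤ (R : Subgroup G) := by
      rw [zpowers_le]
      exact hy0R
    have h1 : orderOf (a * y * a * y⁻¹) = r := by
      have h2 : orderOf (a * y * a * y⁻¹) ∣ r := by
        rw [← hcardR, ← Nat.card_zpowers]
        exact Subgroup.card_dvd_of_le hle
      rcases (Nat.dvd_prime hp).mp h2 with h | h
      · exact absurd (orderOf_eq_one_iff.mp h) hy01
      · exact h
    exact (Subgroup.eq_of_le_of_card_ge hle (by rw [hcardR, Nat.card_zpowers, h1])).ge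
  have htriv : ∀ t ∈ Q, t * a = a * t → t * (y * a * y⁻¹) = (y * a * y⁻¹) * t → t = 1 := by
    intro t htQ hta htc
    have h1 : t ∈ Q ⊓ centralizer ((R : Subgroup G) : Set G) := by
      refine Subgroup.mem_inf.mpr ⟨htQ, ?_⟩
      rw [mem_centralizer_iff]
      intro s hs
      obtain ⟨i, rfl⟩ := Subgroup.mem_zpowers_iff.mp (hgen hs)
      have hcomm : Commute t (a * y * a * y⁻¹) := by
        have e1 : a * y * a * y⁻¹ = a * (y * a * y⁻¹) := by group
        rw [e1]
        exact Commute.mul_right hta htc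
      exact ((hcomm.zpow_right i).eq).symm
    rw [hC, Subgroup.mem_bot] at h1
    exact h1
  have hmemQ : ∀ u v : ↥(Q ⊓ centralizer ({a} : Set G)), y * (u : G) * y⁻¹ * (v : G) ∈ Q := by
    intro u v
    exact mul_mem (Subgroup.Normal.conj_mem inferInstance _ (Subgroup.mem_inf.mp u.2).1 y)
      (Subgroup.mem_inf.mp v.2).1
  have hcomm_a : ∀ u : ↥(Q ⊓ centralizer ({a} : Set G)), Commute (u : G) a := by
    intro u
    exact (Subgroup.mem_centralizer_iff.mp (Subgroup.mem_inf.mp u.2).2 a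
      (Set.mem_singleton a)).symm
  have hbij : Function.Bijective
      (fun x : ↥(Q ⊓ centralizer ({a} : Set G)) × ↥(Q ⊓ centralizer ({a} : Set G)) =>
        (⟨y * (x.1 : G) * y⁻¹ * (x.2 : G), hmemQ x.1 x.2⟩ : Q)) := by
    constructor
    · rintro ⟨u, v⟩ ⟨u', v'⟩ h
      have h1 : y * (u : G) * y⁻¹ * (v : G) = y * (u' : G) * y⁻¹ * (v' : G) :=
        congrArg Subtype.val h
      have h2 : (v' : G) * (v : G)⁻¹ = y * ((u' : G)⁻¹ * u) * y⁻¹ := by
        calc (v' : G) * (v : G)⁻¹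
            = (y * (u' : G) * y⁻¹)⁻¹ * (y * (u' : G) * y⁻¹ * (v' : G)) * (v : G)⁻¹ := by group
          _ = (y * (u' : G) * y⁻¹)⁻¹ * (y * (u : G) * y⁻¹ * (v : G)) * (v : G)⁻¹ := by rw [h1]
          _ = y * ((u' : G)⁻¹ * u) * y⁻¹ := by group
      have ht : (v' : G) * (v : G)⁻¹ = 1 := by
        apply htriv
        · exact mul_mem (Subgroup.mem_inf.mp v'.2).1 (inv_mem (Subgroup.mem_inf.mp v.2).1)
        · exact (Commute.mul_left (hcomm_a v') (Commute.inv_left (hcomm_a v))).eq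
        · rw [h2]
          have hw : ((u' : G)⁻¹ * u) * a = a * ((u' : G)⁻¹ * u) :=
            (Commute.mul_left (Commute.inv_left (hcomm_a u')) (hcomm_a u)).eq
          calc y * ((u' : G)⁻¹ * u) * y⁻¹ * (y * a * y⁻¹)
              = y * (((u' : G)⁻¹ * u) * a) * y⁻¹ := by group
            _ = y * (a * ((u' : G)⁻¹ * u)) * y⁻¹ := by rw [hw]
            _ = (y * a * y⁻¹) * (y * ((u' : G)⁻¹ * u) * y⁻¹) := by group
      have hv : (v' : G) = v := mul_inv_eq_one.mp ht
      have hu : (u : G) = u' := by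
        rw [hv] at h1
        have h3 := mul_right_cancel h1
        have h4 : y⁻¹ * (y * (u : G) * y⁻¹) * y = y⁻¹ * (y * (u' : G) * y⁻¹) * y := by rw [h3]
        have e1 : ∀ w : G, y⁻¹ * (y * w * y⁻¹) * y = w := fun w => by group
        rwa [e1, e1] at h4
      exact Prod.ext (Subtype.ext hu) (Subtype.ext hv.symm)
    · rintro ⟨q, hq⟩
      obtain ⟨b, hbdef⟩ : ∃ b, b = q * a * q⁻¹ := ⟨_, rfl⟩
      obtain ⟨c, hcdef⟩ : ∃ c, c = y * a * y⁻¹ := ⟨_, rfl⟩
      have hb2 : b * b = 1 := by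
        rw [hbdef]
        calc q * a * q⁻¹ * (q * a * q⁻¹) = q * (a * a) * q⁻¹ := by group
          _ = 1 := by rw [ha2]; group
      have hc2 : c * c = 1 := by
        rw [hcdef]
        calc y * a * y⁻¹ * (y * a * y⁻¹) = y * (a * a) * y⁻¹ := by group
          _ = 1 := by rw [ha2]; group
      have hbinv : b⁻¹ = b := inv_eq_of_mul_eq_one_left hb2
      have hcinv : c⁻¹ = c := inv_eq_of_mul_eq_one_left hc2
      have hcN : c ∈ normalizer ((R : Subgroup G) : Set G) := by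
        rw [hcdef]
        exact mul_mem (mul_mem hyN haN) (inv_mem hyN)
      have hbc : b * c = (q * (a * q⁻¹ * a⁻¹)) * (a * y * a * y⁻¹) := by
        rw [hbdef, hcdef]
        group
      have hq'Q : q * (a * q⁻¹ * a⁻¹) ∈ Q :=
        mul_mem hq (Subgroup.Normal.conj_mem inferInstance _ (inv_mem hq) a)
      have hbcK : b * c ∈ Q ⊔ (R : Subgroup G) := by
        rw [hbc]
        exact mul_mem (mem_sup_left hq'Q) (mem_sup_right hy0R)
      have hbcQ : b * c ∉ Q := by
        intro h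
        have h1 : a * y * a * y⁻¹ ∈ Q := by
          have e1 : a * y * a * y⁻¹ = (q * (a * q⁻¹ * a⁻¹))⁻¹ * (b * c) := by
            rw [hbc]
            group
          rw [e1]
          exact mul_mem (inv_mem hq'Q) h
        have h2 : a * y * a * y⁻¹ ∈ (R : Subgroup G) ⊓ Q := Subgroup.mem_inf.mpr ⟨hy0R, h1⟩
        rw [dq_inf_bot hr Q hQ R, Subgroup.mem_bot] at h2
        exact hy01 h2
      have hbcr : (b * c) ^ r = 1 :=
        dq_pow_eq_one hr Q hQ e R hC _ hbcQ (dq_pow_mem hr Q hQ e R _ hbcK)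
      have hbc1 : b * c ≠ 1 := fun h => hbcQ (h ▸ one_mem Q)
      have hord : orderOf (b * c) = r := by
        rcases (Nat.dvd_prime hp).mp (orderOf_dvd_of_pow_eq_one hbcr) with h | h
        · exact absurd (orderOf_eq_one_iff.mp h) hbc1
        · exact h
      have hPG : IsPGroup r (zpowers (b * c)) :=
        IsPGroup.of_card (n := 1) (by rw [Nat.card_zpowers, hord, pow_one])
      obtain ⟨R', hR'⟩ := hPG.exists_le_sylow
      have hR'eq : zpowers (b * c) = (R' : Subgroup G) := by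
        apply Subgroup.eq_of_le_of_card_ge hR'
        have h1 : Nat.card (R' : Subgroup G) = r := dq_card_R hr Q hQ e R'
        rw [h1, Nat.card_zpowers, hord]
      obtain ⟨k, hk⟩ := exists_conj_mem_sylow R R'
      have hk' : k ∈ (Q : Set G) * ((normalizer ((R : Subgroup G) : Set G) : Subgroup G) : Set G) := by
        rw [← Subgroup.normal_mul, sup_comm, dq_normalizer_sup hr Q hQ e R]
        exact Set.mem_univ _
      obtain ⟨q', hq', n, hn, rfl⟩ := Set.mem_mul.mp hk'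
      have hq'R : ∀ x, x ∈ zpowers (b * c) ↔ q'⁻¹ * x * q' ∈ (R : Subgroup G) := by
        intro x
        rw [hR'eq, hk x]
        have e1 : (q' * n)⁻¹ * x * (q' * n) = n⁻¹ * (q'⁻¹ * x * q') * n⁻¹⁻¹ := by group
        rw [e1]
        exact ((mem_normalizer_iff.mp (inv_mem hn)) (q'⁻¹ * x * q')).symm
      have hbn := conj_mem_zpowers_iff b (b * c) hb2 (by
          rw [mul_inv_rev, hbinv, hcinv]
          calc b * (b * c) * b = (b * b) * c * b := by group
            _ = c * b := by rw [hb2, one_mul])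
      have hcn := conj_mem_zpowers_iff c (b * c) hc2 (by
          rw [mul_inv_rev, hbinv, hcinv]
          calc c * (b * c) * c = c * b * (c * c) := by group
            _ = c * b := by rw [hc2, mul_one])
      have hconjN : ∀ d : G, (∀ s, s ∈ zpowers (b * c) ↔ d * s * d⁻¹ ∈ zpowers (b * c)) →
          q'⁻¹ * d * q' ∈ normalizer ((R : Subgroup G) : Set G) := by
        intro d hd
        rw [mem_normalizer_iff]
        intro t
        have h1 := hq'R (q' * t * q'⁻¹)
        have e1 : q'⁻¹ * (q' * t * q'⁻¹) * q' = t := by group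
        rw [e1] at h1
        have h2 := hq'R (d * (q' * t * q'⁻¹) * d⁻¹)
        have e2 : q'⁻¹ * (d * (q' * t * q'⁻¹) * d⁻¹) * q' =
            q'⁻¹ * d * q' * t * (q'⁻¹ * d * q')⁻¹ := by group
        rw [e2] at h2
        rw [← h1, hd (q' * t * q'⁻¹), h2]
      have hbN := hconjN b hbn
      have hcN' := hconjN c hcn
      have hc_eq : q'⁻¹ * c * q' = c := by
        have h1 : q'⁻¹ * c * q' * c⁻¹ ∈ normalizer ((R : Subgroup G) : Set G) ⊓ Q := by
          refine Subgroup.mem_inf.mpr ⟨mul_mem hcN' (inv_mem hcN), ?_⟩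
          have e1 : q'⁻¹ * c * q' * c⁻¹ = q'⁻¹ * (c * q' * c⁻¹) := by group
          rw [e1]
          exact mul_mem (inv_mem hq') (Subgroup.Normal.conj_mem inferInstance _ hq' c)
        rw [dq_normalizer_inf hr Q hQ R hC, Subgroup.mem_bot] at h1
        calc q'⁻¹ * c * q' = (q'⁻¹ * c * q' * c⁻¹) * c := by group
          _ = c := by rw [h1, one_mul]
      have hb_eq : q'⁻¹ * (q * a * q⁻¹) * q' = a := by
        have h1 : q'⁻¹ * b * q' * a⁻¹ ∈ normalizer ((R : Subgroup G) : Set G) ⊓ Q := by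
          refine Subgroup.mem_inf.mpr ⟨mul_mem hbN (inv_mem haN), ?_⟩
          have e1 : q'⁻¹ * b * q' * a⁻¹ = (q'⁻¹ * q) * (a * (q⁻¹ * q') * a⁻¹) := by
            rw [hbdef]
            group
          rw [e1]
          exact mul_mem (mul_mem (inv_mem hq') hq)
            (Subgroup.Normal.conj_mem inferInstance _ (mul_mem (inv_mem hq) hq') a)
        rw [dq_normalizer_inf hr Q hQ R hC, Subgroup.mem_bot] at h1
        rw [← hbdef]
        calc q'⁻¹ * b * q' = (q'⁻¹ * b * q' * a⁻¹) * a := by group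
          _ = a := by rw [h1, one_mul]
      have hu : y⁻¹ * q' * y ∈ Q ⊓ centralizer ({a} : Set G) := by
        refine Subgroup.mem_inf.mpr ⟨?_, ?_⟩
        · have := Subgroup.Normal.conj_mem (inferInstance : Q.Normal) _ hq' y⁻¹
          rwa [inv_inv] at this
        · rw [Subgroup.mem_centralizer_iff]
          intro h hh
          rw [Set.mem_singleton_iff] at hh
          rw [hh]
          have h2 : (y * a * y⁻¹) * q' = q' * (y * a * y⁻¹) := by
            rw [← hcdef]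
            calc c * q' = q' * (q'⁻¹ * c * q') := by group
              _ = q' * c := by rw [hc_eq]
          calc a * (y⁻¹ * q' * y) = y⁻¹ * ((y * a * y⁻¹) * q') * y := by group
            _ = y⁻¹ * (q' * (y * a * y⁻¹)) * y := by rw [h2]
            _ = y⁻¹ * q' * y * a := by group
      have hv : q'⁻¹ * q ∈ Q ⊓ centralizer ({a} : Set G) := by
        refine Subgroup.mem_inf.mpr ⟨mul_mem (inv_mem hq') hq, ?_⟩
        rw [Subgroup.mem_centralizer_iff]
        intro h hh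
        rw [Set.mem_singleton_iff] at hh
        rw [hh]
        calc a * (q'⁻¹ * q) = (q'⁻¹ * (q * a * q⁻¹) * q') * (q'⁻¹ * q) := by rw [hb_eq]
          _ = q'⁻¹ * q * a := by group
      refine ⟨(⟨_, hu⟩, ⟨_, hv⟩), ?_⟩
      apply Subtype.ext
      show y * (y⁻¹ * q' * y) * y⁻¹ * (q'⁻¹ * q) = q
      group
  have hcard := Nat.card_congr (Equiv.ofBijective _ hbij)
  rw [Nat.card_prod] at hcard
  rw [sq, hcard]

end DihQuot

end Cfsg.Agent.Helper48
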