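import Cfsg.Agent.Helper48.ExtraP

/-!
# Maximal complements of the centre in an extraspecial group (helper48)
-/

set_option autoImplicit false

namespace Cfsg.Agent.Helper48

open Subgroup
open scoped Classical Pointwise

section MaxCompl

variable {E : Type*} [Group E] {p : ℕ}

theorem exists_max_complement [Finite E] :
    ∃ D : Subgroup E, D ⊓ center E = ⊥ ∧
      ∀ D' : Subgroup E, D' ⊓ center E = ⊥ → D ≤ D' → D' = D := by
  have : Nonempty {D : Subgroup E // D ⊓ center E = ⊥} := ⟨⟨⊥, bot_inf_eq _⟩⟩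
  obtain ⟨⟨D, hD⟩, hmax⟩ :=
    Finite.exists_max (fun D : {D : Subgroup E // D ⊓ center E = ⊥} => Nat.card D.1)
  refine ⟨D, hD, fun D' hD' hle => ?_⟩
  exact (Subgroup.eq_of_le_of_card_ge hle (hmax ⟨D', hD'⟩)).symm

theorem max_complement_spec [Fact p.Prime] (D : Subgroup E) (hD : D ⊓ center E = ⊥)
    (hmax : ∀ D' : Subgroup E, D' ⊓ center E = ⊥ → D ≤ D' → D' = D) (g : E)
    (hg : g ∈ centralizer (D : Set E)) (hgp : g ^ p = 1) : g ∈ D ⊔ center E := by
  by_contra hgn
  have hp' : p.Prime := Fact.out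
  have hg1 : g ≠ 1 := fun h => hgn (h ▸ one_mem _)
  have hord : orderOf g = p := by
    rcases (Nat.dvd_prime hp').mp (orderOf_dvd_of_pow_eq_one hgp) with h | h
    · exact absurd (orderOf_eq_one_iff.mp h) hg1
    · exact h
  have hle : zpowers g ≤ normalizer (D : Set E) := by
    rw [zpowers_le]
    exact Subgroup.centralizer_le_normalizer _ hg
  have hD' : (D ⊔ zpowers g) ⊓ center E = ⊥ := by
    rw [eq_bot_iff]
    rintro y ⟨hy1, hy2⟩
    have hy1' : y ∈ (D : Set E) * (zpowers g : Set E) := by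
      rw [← Subgroup.coe_mul_of_right_le_normalizer_left D (zpowers g) hle]
      exact hy1
    obtain ⟨d, hd, t, ht, rfl⟩ := Set.mem_mul.mp hy1'
    obtain ⟨k, rfl⟩ := Subgroup.mem_zpowers_iff.mp ht
    by_cases hk : g ^ k = 1
    · rw [hk, mul_one] at hy2 ⊢
      have : d ∈ D ⊓ center E := ⟨hd, hy2⟩
      rwa [hD] at this
    · exfalso
      apply hgn
      have h1 : g ^ k ∈ D ⊔ center E := by
        have : g ^ k = d⁻¹ * (d * g ^ k) := by group
        rw [this]
        exact mul_mem (Subgroup.mem_sup_left (inv_mem hd)) (Subgroup.mem_sup_right hy2)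
      have h2 : ¬ (p : ℤ) ∣ k := by
        rw [← hord, orderOf_dvd_iff_zpow_eq_one]
        exact hk
      have h2' : ¬ p ∣ k.natAbs := fun h => h2 (Int.natCast_dvd.mpr h)
      have h3 : Int.gcd k p = 1 := by
        rw [Int.gcd, Int.natAbs_natCast]
        exact Nat.Coprime.symm ((Nat.Prime.coprime_iff_not_dvd hp').mpr h2')
      have h4 := Int.gcd_eq_gcd_ab k p
      rw [h3] at h4
      have h5 : g = (g ^ k) ^ (Int.gcdA k p) := by
        have h6 : g ^ (1 : ℤ) = g ^ (k * Int.gcdA k p + p * Int.gcdB k p) := by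
          rw [← h4]
          simp
        rw [zpow_one, zpow_add, zpow_mul, zpow_mul, zpow_natCast, hgp, one_zpow, mul_one] at h6
        exact h6
      rw [h5]
      exact zpow_mem h1 _
  have h7 := hmax _ hD' le_sup_left
  apply hgn
  apply Subgroup.mem_sup_left
  rw [← h7]
  exact Subgroup.mem_sup_right (mem_zpowers g)

theorem card_sup_center_le (hp : Nat.card (center E) = p) [Finite E] (D : Subgroup E) :
    Nat.card ↥(D ⊔ center E) ≤ Nat.card D * p := by
  have hsurj : Function.Surjective (fun x : D × center E =>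
      (⟨(x.1 : E) * x.2, mul_mem (mem_sup_left x.1.2) (mem_sup_right x.2.2)⟩ :
        ↥(D ⊔ center E))) := by
    rintro ⟨y, hy⟩
    have : y ∈ (D : Set E) * (center E : Set E) := by
      rw [← Subgroup.mul_normal]
      exact hy
    obtain ⟨d, hd, z, hz, rfl⟩ := Set.mem_mul.mp this
    exact ⟨(⟨d, hd⟩, ⟨z, hz⟩), rfl⟩
  have := Nat.card_le_card_of_surjective _ hsurj
  rwa [Nat.card_prod, hp] at this

theorem card_mul_le_card_centralizer (hc : ∀ x y : E, x * y * x⁻¹ * y⁻¹ ∈ center E)
    (hp : Nat.card (center E) = p) [Finite E] (D : Subgroup E) (hD : D ⊓ center E = ⊥) :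
    Nat.card D * p ≤ Nat.card (centralizer (D : Set E)) := by
  have hab : ∀ a ∈ D, ∀ b ∈ D, a * b = b * a := by
    intro a ha b hb
    have h1 : a * b * a⁻¹ * b⁻¹ ∈ D ⊓ center E :=
      Subgroup.mem_inf.mpr ⟨mul_mem (mul_mem (mul_mem ha hb) (inv_mem ha)) (inv_mem hb), hc a b⟩
    rw [hD, Subgroup.mem_bot] at h1
    calc a * b = (a * b * a⁻¹ * b⁻¹) * (b * a) := by group
      _ = b * a := by rw [h1, one_mul]
  have hmem : ∀ x : D × center E, (x.1 : E) * x.2 ∈ centralizer (D : Set E) := by
    intro x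
    rw [mem_centralizer_iff]
    intro d hd
    have h1 := hab d hd x.1 x.1.2
    have h2 := Subgroup.mem_center_iff.mp x.2.2 d
    calc d * ((x.1 : E) * x.2) = (d * x.1) * x.2 := by group
      _ = (x.1 * d) * x.2 := by rw [h1]
      _ = x.1 * (d * x.2) := by group
      _ = x.1 * (x.2 * d) := by rw [h2]
      _ = (x.1 : E) * x.2 * d := by group
  have hinj : Function.Injective (fun x : D × center E =>
      (⟨(x.1 : E) * x.2, hmem x⟩ : centralizer (D : Set E))) := by
    rintro ⟨⟨d, hd⟩, ⟨z, hz⟩⟩ ⟨⟨d', hd'⟩, ⟨z', hz'⟩⟩ h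
    have h1 : d * z = d' * z' := congrArg Subtype.val h
    have h2 : d'⁻¹ * d = z' * z⁻¹ := by
      calc d'⁻¹ * d = d'⁻¹ * (d * z) * z⁻¹ := by group
        _ = d'⁻¹ * (d' * z') * z⁻¹ := by rw [h1]
        _ = z' * z⁻¹ := by group
    have h3 : d'⁻¹ * d ∈ D ⊓ center E :=
      Subgroup.mem_inf.mpr ⟨mul_mem (inv_mem hd') hd, h2 ▸ mul_mem hz' (inv_mem hz)⟩
    rw [hD, Subgroup.mem_bot] at h3
    have h4 : d = d' := by
      calc d = d' * (d'⁻¹ * d) := by group
        _ = d' := by rw [h3, mul_one]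
    subst h4
    have h5 : z = z' := mul_left_cancel h1
    subst h5
    rfl
  have := Nat.card_le_card_of_injective _ hinj
  rwa [Nat.card_prod, hp] at this

theorem card_le_of_ker_subset [Finite E] (L : Subgroup E) {Z' : Type*} [Group Z'] [Finite Z']
    (f : L →* Z') (S : Set E) (hS : ∀ y : L, f y = 1 → (y : E) ∈ S) :
    Nat.card L ≤ Nat.card Z' * S.ncard := by
  have h1 : Nat.card f.ker * f.ker.index = Nat.card L := Subgroup.card_mul_index _
  rw [Subgroup.index_ker] at h1
  have h2 : Nat.card f.range ≤ Nat.card Z' := Subgroup.card_le_card_group _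
  have h3 : Nat.card f.ker ≤ S.ncard := by
    rw [← Nat.card_coe_set_eq]
    apply Nat.card_le_card_of_injective
      (fun k : f.ker => (⟨((k : L) : E), hS k (MonoidHom.mem_ker.mp k.2)⟩ : S))
    intro a b hab
    have hab' : ((a : L) : E) = ((b : L) : E) := congrArg (fun s : S => (s : E)) hab
    exact Subtype.ext (Subtype.ext hab')
  calc Nat.card L = Nat.card f.ker * Nat.card f.range := h1.symm
    _ ≤ S.ncard * Nat.card Z' := Nat.mul_le_mul h3 h2
    _ = Nat.card Z' * S.ncard := mul_comm _ _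

/-- For `p = 2`: an element of `C_E(D)` commuting with `x ∉ DZ` lies in `DZ ∪ x⁻¹DZ`. -/
theorem max_complement_two_comm [Fact (Nat.Prime 2)]
    (hc : ∀ x y : E, x * y * x⁻¹ * y⁻¹ ∈ center E)
    (hp : Nat.card (center E) = 2) (D : Subgroup E) (hD : D ⊓ center E = ⊥)
    (hmax : ∀ D' : Subgroup E, D' ⊓ center E = ⊥ → D ≤ D' → D' = D) (x : E)
    (hx : x ∈ centralizer (D : Set E)) (hxn : x ∉ D ⊔ center E) (y : E)
    (hy : y ∈ centralizer (D : Set E)) (hxy : x * y = y * x) :
    y ∈ D ⊔ center E ∨ x * y ∈ D ⊔ center E := by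
  by_contra hcon
  push Not at hcon
  obtain ⟨hyn, hxyn⟩ := hcon
  have hx2 : x ^ 2 ≠ 1 := fun h => hxn (max_complement_spec D hD hmax x hx h)
  have hy2 : y ^ 2 ≠ 1 := fun h => hyn (max_complement_spec D hD hmax y hy h)
  have hxy2 : (x * y) ^ 2 ≠ 1 := fun h => hxyn (max_complement_spec D hD hmax (x * y) (mul_mem hx hy) h)
  have hxc : x ^ 2 ∈ center E := pow_prime_mem_center hc hp x
  have hyc : y ^ 2 ∈ center E := pow_prime_mem_center hc hp y
  have hx2' : (⟨x ^ 2, hxc⟩ : center E) ≠ 1 := fun h => hx2 (congrArg Subtype.val h)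
  have hy2' : (⟨y ^ 2, hyc⟩ : center E) ≠ 1 := fun h => hy2 (congrArg Subtype.val h)
  have heq : (⟨y ^ 2, hyc⟩ : center E) = ⟨x ^ 2, hxc⟩ := by
    rcases center_cases hp hx2' (⟨y ^ 2, hyc⟩ : center E) with h | h
    · exact absurd h hy2'
    · exact h
  have heq' : y ^ 2 = x ^ 2 := congrArg Subtype.val heq
  have hsq : x ^ 2 * x ^ 2 = 1 := congrArg Subtype.val (center_mul_self hp ⟨x ^ 2, hxc⟩)
  apply hxy2
  have hcomm : Commute x y := hxy
  rw [hcomm.mul_pow, heq', hsq]

/-- The order of a maximal complement `D` to the centre of an extraspecial group of order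
`p^(2w+1)`: it is `p^w`, except possibly when `p = 2`, where it may be `2^(w-1)` with `C_E(D)`
nonabelian. -/
theorem card_max_complement [Fact p.Prime] (hc : ∀ x y : E, x * y * x⁻¹ * y⁻¹ ∈ center E)
    (hp : Nat.card (center E) = p) [Finite E] (w : ℕ) (hcard : Nat.card E = p ^ (2 * w + 1))
    (D : Subgroup E) (hD : D ⊓ center E = ⊥)
    (hmax : ∀ D' : Subgroup E, D' ⊓ center E = ⊥ → D ≤ D' → D' = D) :
    Nat.card D = p ^ w ∨ (p = 2 ∧ 1 ≤ w ∧ Nat.card D = 2 ^ (w - 1) ∧
      ∃ x ∈ centralizer (D : Set E), ∃ y ∈ centralizer (D : Set E), x * y ≠ y * x) := by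
  have hp' : p.Prime := Fact.out
  have hdual : Nat.card (centralizer (D : Set E)) * Nat.card D = p ^ (2 * w + 1) := by
    rw [card_centralizer_mul_card_of_inf_eq_bot hc hp D hD, hcard]
  obtain ⟨δ, hδle, hδ⟩ : ∃ δ ≤ 2 * w + 1, Nat.card D = p ^ δ :=
    (Nat.dvd_prime_pow hp').mp (hcard ▸ Subgroup.card_subgroup_dvd_card D)
  have hL : Nat.card (centralizer (D : Set E)) = p ^ (2 * w + 1 - δ) := by
    have h1 : Nat.card (centralizer (D : Set E)) * p ^ δ = p ^ (2 * w + 1 - δ) * p ^ δ := by
      rw [← hδ, hdual, hδ, ← pow_add]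
      congr 1
      omega
    exact Nat.eq_of_mul_eq_mul_right (pow_pos hp'.pos δ) h1
  have hδw : δ ≤ w := by
    have h1 := card_mul_le_card_centralizer hc hp D hD
    rw [hδ, hL, ← pow_succ] at h1
    have := (Nat.pow_le_pow_iff_right hp'.one_lt).mp h1
    omega
  have hSDZ : ((D ⊔ center E : Subgroup E) : Set E).ncard ≤ p ^ (δ + 1) := by
    have h1 := card_sup_center_le hp D
    rw [hδ, ← pow_succ] at h1
    rw [← Nat.card_coe_set_eq]
    exact h1
  -- an upper bound `|L| ≤ p^m` gives `2w+1-δ ≤ m`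
  have hbound : ∀ m : ℕ, Nat.card (centralizer (D : Set E)) ≤ p ^ m → 2 * w + 1 - δ ≤ m := by
    intro m hm
    rw [hL] at hm
    exact (Nat.pow_le_pow_iff_right hp'.one_lt).mp hm
  have hfin : ∀ m : ℕ, Nat.card (centralizer (D : Set E)) ≤ p ^ (δ + 2) → Nat.card D = p ^ w := by
    intro m hm
    have := hbound _ hm
    have : δ = w := by omega
    rw [hδ, this]
  by_cases hLle : centralizer (D : Set E) ≤ D ⊔ center E
  · left
    apply hfin 0
    calc Nat.card (centralizer (D : Set E)) ≤ Nat.card ↥(D ⊔ center E) :=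
          Subgroup.card_le_of_le hLle
      _ ≤ Nat.card D * p := card_sup_center_le hp D
      _ = p ^ (δ + 1) := by rw [hδ, pow_succ]
      _ ≤ p ^ (δ + 2) := Nat.pow_le_pow_right hp'.pos (by omega)
  · obtain ⟨x, hxL, hxn⟩ := SetLike.not_le_iff_exists.mp hLle
    by_cases hodd : p = 2
    · subst hodd
      -- the set `DZ ∪ x⁻¹DZ`
      obtain ⟨S, hSdef⟩ : ∃ S : Set E, S = ((D ⊔ center E : Subgroup E) : Set E) ∪
          (fun t => x⁻¹ * t) '' ((D ⊔ center E : Subgroup E) : Set E) := ⟨_, rfl⟩
      have hScard : S.ncard ≤ 2 ^ (δ + 2) := by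
        rw [hSdef]
        calc _ ≤ ((D ⊔ center E : Subgroup E) : Set E).ncard +
              ((fun t => x⁻¹ * t) '' ((D ⊔ center E : Subgroup E) : Set E)).ncard :=
              Set.ncard_union_le _ _
          _ ≤ ((D ⊔ center E : Subgroup E) : Set E).ncard +
              ((D ⊔ center E : Subgroup E) : Set E).ncard :=
              Nat.add_le_add_left (Set.ncard_image_le (Set.toFinite _)) _
          _ ≤ 2 ^ (δ + 1) + 2 ^ (δ + 1) := Nat.add_le_add hSDZ hSDZ
          _ = 2 ^ (δ + 2) := by ring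
      have hSmem : ∀ y ∈ centralizer (D : Set E), x * y = y * x → y ∈ S := by
        intro y hy hxy
        rw [hSdef]
        rcases max_complement_two_comm hc hp D hD hmax x hxL hxn y hy hxy with h | h
        · exact Or.inl h
        · exact Or.inr ⟨x * y, h, by group⟩
      by_cases hcomm : ∀ y ∈ centralizer (D : Set E), x * y = y * x
      · left
        apply hfin 0
        calc Nat.card (centralizer (D : Set E))
            = ((centralizer (D : Set E) : Subgroup E) : Set E).ncard :=
              (Nat.card_coe_set_eq _)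
          _ ≤ S.ncard := Set.ncard_le_ncard (fun y hy => hSmem y hy (hcomm y hy)) (Set.toFinite _)
          _ ≤ 2 ^ (δ + 2) := hScard
      · push Not at hcomm
        obtain ⟨y, hyL, hxy⟩ := hcomm
        have h1 := card_le_of_ker_subset (centralizer (D : Set E))
          ((commHom hc x).comp (centralizer (D : Set E)).subtype) S (by
            intro t ht
            apply hSmem t t.2
            exact ((commHom_eq_one_iff hc x t).mp ht).symm)
        rw [hp] at h1
        have h2 : Nat.card (centralizer (D : Set E)) ≤ 2 ^ (δ + 3) := by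
          calc Nat.card (centralizer (D : Set E)) ≤ 2 * S.ncard := h1
            _ ≤ 2 * 2 ^ (δ + 2) := Nat.mul_le_mul_left _ hScard
            _ = 2 ^ (δ + 3) := by ring
        have h3 := hbound _ h2
        by_cases hδeq : δ = w
        · left
          rw [hδ, hδeq]
        · right
          have h4 : δ = w - 1 := by omega
          refine ⟨rfl, by omega, by rw [hδ, h4], x, hxL, y, hyL, hxy⟩
    · left
      apply hfin 0
      have h1 := card_le_of_ker_subset (centralizer (D : Set E))
        ({ toFun := fun g => ⟨(g : E) ^ p, pow_prime_mem_center hc hp g⟩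
           map_one' := by
            apply Subtype.ext
            show ((1 : centralizer (D : Set E)) : E) ^ p = 1
            simp
           map_mul' := by
            intro a b
            apply Subtype.ext
            show (((a * b : centralizer (D : Set E)) : E)) ^ p = (a : E) ^ p * (b : E) ^ p
            rw [Subgroup.coe_mul]
            exact mul_pow_prime_of_odd hc hp hodd a b } :
          centralizer (D : Set E) →* center E)
        ((D ⊔ center E : Subgroup E) : Set E) (by
          intro t ht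
          have ht' : (t : E) ^ p = 1 := congrArg Subtype.val ht
          exact max_complement_spec D hD hmax t t.2 ht')
      rw [hp] at h1
      calc Nat.card (centralizer (D : Set E)) ≤ p * ((D ⊔ center E : Subgroup E) : Set E).ncard := h1
        _ ≤ p * p ^ (δ + 1) := Nat.mul_le_mul_left _ hSDZ
        _ = p ^ (δ + 2) := by ring

end MaxCompl

end Cfsg.Agent.Helper48
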