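import Mathlib
import Cfsg.Agent.Helper48.ExtraP2

/-!
# Counting involutions in extraspecial 2-groups (helper48)

`E` is a finite group with central commutators and centre of order two (`hc`, `h2`), of order
`2 ^ (2 m + 1)`.  Either `E` has an elementary abelian subgroup of order `2 ^ (m + 1)` (plus type,
`ES2Plus E m`) and then `#{x | x² = 1} = 2^(2m) + 2^m`, or not (minus type) and then
`#{x | x² = 1} = 2^(2m) - 2^m`.
-/

set_option autoImplicit false

namespace Cfsg.Agent.Helper48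

open Subgroup
open scoped Classical Pointwise

section ES2Count

variable {E : Type*} [Group E]

/-- The square of an element, as an element of the centre. -/
def sqC (hc : ∀ x y : E, x * y * x⁻¹ * y⁻¹ ∈ center E) (h2 : Nat.card (center E) = 2) (x : E) :
    center E := ⟨x ^ 2, sq_mem_center hc h2 x⟩

theorem sqC_coe (hc : ∀ x y : E, x * y * x⁻¹ * y⁻¹ ∈ center E) (h2 : Nat.card (center E) = 2)
    (x : E) : ((sqC hc h2 x : center E) : E) = x ^ 2 := rfl

theorem sqC_eq_one_iff (hc : ∀ x y : E, x * y * x⁻¹ * y⁻¹ ∈ center E)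
    (h2 : Nat.card (center E) = 2) (x : E) : sqC hc h2 x = 1 ↔ x ^ 2 = 1 := by
  rw [Subtype.ext_iff, sqC_coe]; rfl

/-- The sum `∑ χ(x²)` is supported on the centralizer of any subgroup of exponent two. -/
theorem sum_sgnC_sq_eq (hc : ∀ x y : E, x * y * x⁻¹ * y⁻¹ ∈ center E)
    (h2 : Nat.card (center E) = 2) [Fintype E] (A : Subgroup E) (hA : ∀ a ∈ A, a ^ 2 = 1) :
    ∑ x : E, sgnC (sqC hc h2 x) =
      ∑ x : E, if x ∈ centralizer (A : Set E) then sgnC (sqC hc h2 x) else 0 := by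
  have hsq : ∀ (a : A) (x : E), sqC hc h2 ((a : E) * x) = commHom hc x (a : E) * sqC hc h2 x := by
    intro a x
    apply Subtype.ext
    rw [Subgroup.coe_mul, sqC_coe, sqC_coe, commHom_apply_coe]
    have ha : (a : E)⁻¹ = a := by
      have := hA a a.2
      exact inv_eq_of_mul_eq_one_left (by rw [← pow_two]; exact this)
    rw [ha, pow_two, pow_two]; group
  have hS : (Fintype.card A : ℤ) * ∑ x : E, sgnC (sqC hc h2 x) =
      (Fintype.card A : ℤ) *
        ∑ x : E, if x ∈ centralizer (A : Set E) then sgnC (sqC hc h2 x) else 0 := by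
    have e1 : (Fintype.card A : ℤ) * ∑ x : E, sgnC (sqC hc h2 x) =
        ∑ a : A, ∑ x : E, sgnC (sqC hc h2 ((a : E) * x)) := by
      rw [← Finset.card_univ (α := A), ← nsmul_eq_mul, ← Finset.sum_const]
      apply Finset.sum_congr rfl
      intro a _
      exact (Fintype.sum_equiv (Equiv.mulLeft (a : E)) _ _ (fun x => rfl)).symm
    rw [e1, Finset.sum_comm, Finset.mul_sum]
    apply Finset.sum_congr rfl
    intro x _
    simp_rw [hsq, sgnC_mul h2]
    rw [← Finset.sum_mul, sum_sgnC_commHom_left hc h2]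
    split_ifs with hx
    · rfl
    · rw [zero_mul, mul_zero]
  have hAne : (Fintype.card A : ℤ) ≠ 0 := by
    have : 0 < Fintype.card A := Fintype.card_pos
    exact_mod_cast this.ne'
  exact mul_left_cancel₀ hAne hS

theorem sum_sgnC_sq (hc : ∀ x y : E, x * y * x⁻¹ * y⁻¹ ∈ center E)
    (h2 : Nat.card (center E) = 2) [Fintype E] :
    ∑ x : E, sgnC (sqC hc h2 x) =
      2 * (Fintype.card {x : E // x ^ 2 = 1} : ℤ) - Fintype.card E := by
  have e3 : ∀ x : E, sgnC (sqC hc h2 x) = 2 * (if x ^ 2 = 1 then (1 : ℤ) else 0) - 1 := by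
    intro x
    unfold sgnC
    by_cases h : x ^ 2 = 1
    · simp [h, (sqC_eq_one_iff hc h2 x).mpr h]
    · simp [h, mt (sqC_eq_one_iff hc h2 x).mp h]
  simp_rw [e3]
  rw [Finset.sum_sub_distrib, ← Finset.mul_sum, sum_ite_const_int]
  simp

/-- A subgroup of exponent two is commutative. -/
theorem isMulCommutative_of_sq_eq_one (A : Subgroup E) (hA : ∀ a ∈ A, a ^ 2 = 1) :
    IsMulCommutative A := by
  refine ⟨⟨fun a b => ?_⟩⟩
  apply Subtype.ext
  have ha := hA a a.2
  have hb := hA b b.2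
  have hab := hA (a * b) (A.mul_mem a.2 b.2)
  rw [pow_two] at ha hb hab
  show (a : E) * b = b * a
  calc (a : E) * b = (b * b) * ((a : E) * b) * (a * a) := by rw [ha, hb, one_mul, mul_one]
    _ = b * ((b * a) * (b * a)) * a := by group
    _ = b * a := by
      have h' : ((b : E) * a) * (b * a) = 1 := by
        have h1 : ((a : E) * b)⁻¹ = a * b := inv_eq_of_mul_eq_one_left hab
        have h2 : ((b : E) * a) = ((a : E) * b)⁻¹ := by
          rw [mul_inv_rev]
          have ha' : (a : E)⁻¹ = a := inv_eq_of_mul_eq_one_left ha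
          have hb' : (b : E)⁻¹ = b := inv_eq_of_mul_eq_one_left hb
          rw [ha', hb']
        rw [h2, h1]; exact hab
      rw [h', mul_one]

/-- A subgroup of exponent two of `E` has order at most `2 ^ (m + 1)`. -/
theorem card_le_of_sq_eq_one (hc : ∀ x y : E, x * y * x⁻¹ * y⁻¹ ∈ center E)
    (h2 : Nat.card (center E) = 2) [Finite E] (m : ℕ) (hcard : Nat.card E = 2 ^ (2 * m + 1))
    (A : Subgroup E) (hA : ∀ a ∈ A, a ^ 2 = 1) : Nat.card A ≤ 2 ^ (m + 1) := by
  have hAab := isMulCommutative_of_sq_eq_one A hA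
  have hle : A ≤ centralizer (A : Set E) := Subgroup.le_centralizer A
  have hcnt := card_centralizer_mul_card hc h2 A
  have hinj : Nat.card {b : A // (b : E) ∈ center E} ≤ Nat.card (center E) := by
    apply Nat.card_le_card_of_injective
      (fun b : {b : A // (b : E) ∈ center E} => (⟨(b.1 : E), b.2⟩ : center E))
    intro b b' h
    apply Subtype.ext
    apply Subtype.ext
    have h' := congrArg Subtype.val h
    exact h'
  rw [h2] at hinj
  have h3 : Nat.card A * Nat.card A ≤ 2 ^ (m + 1) * 2 ^ (m + 1) := by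
    calc Nat.card A * Nat.card A ≤ Nat.card (centralizer (A : Set E)) * Nat.card A :=
          Nat.mul_le_mul_right _ (Subgroup.card_le_of_le hle)
      _ = Nat.card {b : A // (b : E) ∈ center E} * Nat.card E := hcnt
      _ ≤ 2 * 2 ^ (2 * m + 1) := by rw [hcard]; exact Nat.mul_le_mul_right _ hinj
      _ = 2 ^ (m + 1) * 2 ^ (m + 1) := by ring
  exact Nat.mul_self_le_mul_self_iff.mp h3

/-- Plus type: an elementary abelian subgroup of order `2 ^ (m + 1)` exists. -/
def ES2Plus (E : Type*) [Group E] (m : ℕ) : Prop :=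
  ∃ A : Subgroup E, (∀ a ∈ A, a ^ 2 = 1) ∧ Nat.card A = 2 ^ (m + 1)

/-- The number of solutions of `x² = 1` in plus type. -/
theorem card_sq_eq_one_of_plus (hc : ∀ x y : E, x * y * x⁻¹ * y⁻¹ ∈ center E)
    (h2 : Nat.card (center E) = 2) [Finite E] (m : ℕ) (hcard : Nat.card E = 2 ^ (2 * m + 1))
    (A : Subgroup E) (hA : ∀ a ∈ A, a ^ 2 = 1) (hAc : Nat.card A = 2 ^ (m + 1)) :
    Nat.card {x : E // x ^ 2 = 1} = 2 ^ (2 * m) + 2 ^ m := by
  have := Fintype.ofFinite E
  have hCA := centralizer_eq_self_of_card hc h2 m hcard A (isMulCommutative_of_sq_eq_one A hA) hAc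
  have h1 := sum_sgnC_sq_eq hc h2 A hA
  rw [hCA, sum_sgnC_sq hc h2] at h1
  have h3 : ∑ x : E, (if x ∈ A then sgnC (sqC hc h2 x) else 0) = (Fintype.card A : ℤ) := by
    have : ∀ x : E, (if x ∈ A then sgnC (sqC hc h2 x) else 0) = if x ∈ A then (1 : ℤ) else 0 := by
      intro x
      split_ifs with hx
      · rw [(sqC_eq_one_iff hc h2 x).mpr (hA x hx), sgnC_one]
      · rfl
    simp_rw [this]
    rw [sum_ite_const_int, mul_one]
  rw [h3] at h1
  have hE' : Fintype.card E = 2 ^ (2 * m + 1) := by rw [← Nat.card_eq_fintype_card]; exact hcard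
  have hA' : Fintype.card A = 2 ^ (m + 1) := by rw [← Nat.card_eq_fintype_card]; exact hAc
  rw [hE', hA'] at h1
  rw [Nat.card_eq_fintype_card]
  have h5 : 2 * Fintype.card {x : E // x ^ 2 = 1} = 2 ^ (2 * m + 1) + 2 ^ (m + 1) := by
    have : (2 * Fintype.card {x : E // x ^ 2 = 1} : ℤ) = 2 ^ (2 * m + 1) + 2 ^ (m + 1) := by
      push_cast at h1 ⊢
      linarith
    exact_mod_cast this
  rw [pow_succ, pow_succ] at h5
  omega

theorem mem_sup_center_iff (D : Subgroup E) (x : E) :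
    x ∈ D ⊔ center E ↔ ∃ d ∈ D, ∃ c ∈ center E, x = d * c := by
  constructor
  · intro hx
    have : x ∈ (D : Set E) * (center E : Set E) := by
      rw [← Subgroup.mul_normal]
      exact hx
    obtain ⟨d, hd, c, hcz, rfl⟩ := Set.mem_mul.mp this
    exact ⟨d, hd, c, hcz, rfl⟩
  · rintro ⟨d, hd, c, hcz, rfl⟩
    exact mul_mem (mem_sup_left hd) (mem_sup_right hcz)

theorem sq_eq_one_of_mem_sup_center (hc : ∀ x y : E, x * y * x⁻¹ * y⁻¹ ∈ center E)
    (h2 : Nat.card (center E) = 2) (D : Subgroup E) (hD : D ⊓ center E = ⊥) {x : E}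
    (hx : x ∈ D ⊔ center E) : x ^ 2 = 1 := by
  obtain ⟨d, hd, c, hcz, rfl⟩ := (mem_sup_center_iff D x).mp hx
  have hd2 : d ^ 2 = 1 := by
    have h1 : d ^ 2 ∈ D ⊓ center E :=
      Subgroup.mem_inf.mpr ⟨D.pow_mem hd 2, sq_mem_center hc h2 d⟩
    rwa [hD, Subgroup.mem_bot] at h1
  have hc2 : c * c = 1 := congrArg Subtype.val (center_mul_self h2 ⟨c, hcz⟩)
  have hcomm : c * d = d * c := (Subgroup.mem_center_iff.mp hcz d).symm
  rw [pow_two] at hd2 ⊢
  calc d * c * (d * c) = d * (c * d) * c := by group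
    _ = d * (d * c) * c := by rw [hcomm]
    _ = (d * d) * (c * c) := by group
    _ = 1 := by rw [hd2, hc2, one_mul]

theorem card_sup_center_eq (h2 : Nat.card (center E) = 2) [Finite E] (D : Subgroup E)
    (hD : D ⊓ center E = ⊥) : Nat.card ↥(D ⊔ center E) = 2 * Nat.card D := by
  have hle : Nat.card ↥(D ⊔ center E) ≤ Nat.card D * 2 := card_sup_center_le h2 D
  obtain ⟨k, hk⟩ : Nat.card D ∣ Nat.card ↥(D ⊔ center E) := Subgroup.card_dvd_of_le le_sup_left
  have hDpos : 0 < Nat.card D := Nat.card_pos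
  have hk1 : k ≠ 1 := by
    rintro rfl
    rw [mul_one] at hk
    have heq : D = D ⊔ center E := Subgroup.eq_of_le_of_card_ge le_sup_left hk.le
    have hZ : center E ≤ D := by
      rw [heq]; exact le_sup_right
    have : center E = ⊥ := by
      rw [← hD]; exact (inf_eq_right.mpr hZ).symm
    rw [this] at h2
    simp at h2
  have hk0 : k ≠ 0 := by
    rintro rfl
    rw [mul_zero] at hk
    have : 0 < Nat.card ↥(D ⊔ center E) := Nat.card_pos
    omega
  have hk2 : 2 ≤ k := by omega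
  have : Nat.card D * 2 ≤ Nat.card D * k := Nat.mul_le_mul_left _ hk2
  rw [hk] at hle ⊢
  have hk' : k = 2 := by
    have := Nat.le_of_mul_le_mul_left hle hDpos
    omega
  rw [hk', mul_comm]

/-- The number of solutions of `x² = 1` in minus type. -/
theorem card_sq_eq_one_of_minus (hc : ∀ x y : E, x * y * x⁻¹ * y⁻¹ ∈ center E)
    (h2 : Nat.card (center E) = 2) [Finite E] (m : ℕ) (hm : 1 ≤ m)
    (hcard : Nat.card E = 2 ^ (2 * m + 1)) (D : Subgroup E) (hD : D ⊓ center E = ⊥)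
    (hmax : ∀ D' : Subgroup E, D' ⊓ center E = ⊥ → D ≤ D' → D' = D)
    (hDc : Nat.card D = 2 ^ (m - 1)) :
    Nat.card {x : E // x ^ 2 = 1} = 2 ^ (2 * m) - 2 ^ m := by
  have := Fintype.ofFinite E
  have : Fact (Nat.Prime 2) := ⟨Nat.prime_two⟩
  obtain ⟨k, rfl⟩ : ∃ k, m = k + 1 := ⟨m - 1, by omega⟩
  have hDsq : ∀ d ∈ D, d ^ 2 = 1 := fun d hd =>
    sq_eq_one_of_mem_sup_center hc h2 D hD (mem_sup_left hd)
  have hDab := isMulCommutative_of_sq_eq_one D hDsq
  have hsup_le : D ⊔ center E ≤ centralizer (D : Set E) :=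
    sup_le (Subgroup.le_centralizer D) (Subgroup.center_le_centralizer _)
  have h1 := sum_sgnC_sq_eq hc h2 D hDsq
  rw [sum_sgnC_sq hc h2] at h1
  have hpt : ∀ x : E, (if x ∈ centralizer (D : Set E) then sgnC (sqC hc h2 x) else 0) =
      (if x ∈ D ⊔ center E then (2 : ℤ) else 0) -
        (if x ∈ centralizer (D : Set E) then (1 : ℤ) else 0) := by
    intro x
    by_cases hx : x ∈ centralizer (D : Set E)
    · by_cases hx2 : x ∈ D ⊔ center E
      · have : sqC hc h2 x = 1 :=
          (sqC_eq_one_iff hc h2 x).mpr (sq_eq_one_of_mem_sup_center hc h2 D hD hx2)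
        simp [hx, hx2, this, sgnC_one]
      · have : sqC hc h2 x ≠ 1 := fun h =>
          hx2 (max_complement_spec D hD hmax x hx ((sqC_eq_one_iff hc h2 x).mp h))
        simp [hx, hx2, sgnC, this]
    · have hx2 : x ∉ D ⊔ center E := fun h => hx (hsup_le h)
      simp [hx, hx2]
  simp_rw [hpt] at h1
  rw [Finset.sum_sub_distrib, sum_ite_const_int, sum_ite_const_int] at h1
  have hc1 : Fintype.card {x : E // x ∈ D ⊔ center E} = 2 ^ (k + 1) := by
    have h := card_sup_center_eq h2 D hD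
    rw [hDc, Nat.add_sub_cancel] at h
    rw [← Nat.card_eq_fintype_card, pow_succ, mul_comm]
    exact h
  have hc2 : Fintype.card {x : E // x ∈ centralizer (D : Set E)} = 4 * 2 ^ (k + 1) := by
    have h := card_centralizer_mul_card_of_inf_eq_bot hc h2 D hD
    rw [hDc, hcard] at h
    have h' : Nat.card (centralizer (D : Set E)) * 2 ^ (k + 1 - 1) =
        (4 * 2 ^ (k + 1)) * 2 ^ (k + 1 - 1) := by
      rw [h]
      simp only [Nat.add_sub_cancel]
      ring
    have h'' := Nat.eq_of_mul_eq_mul_right (by positivity) h'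
    rw [← Nat.card_eq_fintype_card]
    exact h''
  have hE' : Fintype.card E = 2 * 2 ^ (2 * (k + 1)) := by
    rw [← Nat.card_eq_fintype_card, hcard, pow_succ, mul_comm]
  rw [hc1, hc2, hE'] at h1
  rw [Nat.card_eq_fintype_card]
  have hle : 2 ^ (k + 1) ≤ 2 ^ (2 * (k + 1)) := Nat.pow_le_pow_right (by norm_num) (by omega)
  have h5 : Fintype.card {x : E // x ^ 2 = 1} + 2 ^ (k + 1) = 2 ^ (2 * (k + 1)) := by
    have : (Fintype.card {x : E // x ^ 2 = 1} + 2 ^ (k + 1) : ℤ) = 2 ^ (2 * (k + 1)) := by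
      push_cast at h1 ⊢
      linarith
    exact_mod_cast this
  omega

/-- Dichotomy: plus type with `2^(2m) + 2^m` solutions of `x² = 1`, or minus type with
`2^(2m) - 2^m` solutions. -/
theorem es2_dichotomy (hc : ∀ x y : E, x * y * x⁻¹ * y⁻¹ ∈ center E)
    (h2 : Nat.card (center E) = 2) [Finite E] (m : ℕ) (hcard : Nat.card E = 2 ^ (2 * m + 1)) :
    (ES2Plus E m ∧ Nat.card {x : E // x ^ 2 = 1} = 2 ^ (2 * m) + 2 ^ m) ∨
    (1 ≤ m ∧ ¬ ES2Plus E m ∧ (∃ A : Subgroup E, (∀ a ∈ A, a ^ 2 = 1) ∧ Nat.card A = 2 ^ m) ∧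
      Nat.card {x : E // x ^ 2 = 1} = 2 ^ (2 * m) - 2 ^ m) := by
  have : Fact (Nat.Prime 2) := ⟨Nat.prime_two⟩
  obtain ⟨D, hD, hmax⟩ := exists_max_complement (E := E)
  rcases card_max_complement hc h2 m hcard D hD hmax with hDc | ⟨-, hm, hDc, -⟩
  · left
    have hA2 : Nat.card ↥(D ⊔ center E) = 2 ^ (m + 1) := by
      rw [card_sup_center_eq h2 D hD, hDc, pow_succ, mul_comm]
    have hA1 : ∀ a ∈ D ⊔ center E, a ^ 2 = 1 :=
      fun a ha => sq_eq_one_of_mem_sup_center hc h2 D hD ha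
    exact ⟨⟨_, hA1, hA2⟩, card_sq_eq_one_of_plus hc h2 m hcard _ hA1 hA2⟩
  · right
    have hN := card_sq_eq_one_of_minus hc h2 m hm hcard D hD hmax hDc
    refine ⟨hm, ?_, ⟨D ⊔ center E, fun a ha => sq_eq_one_of_mem_sup_center hc h2 D hD ha, ?_⟩, hN⟩
    · rintro ⟨A, hA1, hA2⟩
      have := card_sq_eq_one_of_plus hc h2 m hcard A hA1 hA2
      rw [hN] at this
      have hpos : 0 < 2 ^ m := by positivity
      have hle : 2 ^ m ≤ 2 ^ (2 * m) := Nat.pow_le_pow_right (by norm_num) (by omega)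
      omega
    · obtain ⟨k, rfl⟩ : ∃ k, m = k + 1 := ⟨m - 1, by omega⟩
      rw [card_sup_center_eq h2 D hD, hDc, Nat.add_sub_cancel, pow_succ, mul_comm]

end ES2Count

end Cfsg.Agent.Helper48
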