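import Mathlib
import Cfsg.Agent.Helper48.ES2Count
import Cfsg.Agent.Helper48.SL23Recog

/-!
# Classification of extraspecial 2-groups (helper48)

Two finite groups with central commutators and centre of order two, of the same order
`2 ^ (2 m + 1)` and of the same type (`ES2Plus`), are isomorphic (`es2_iso`).
-/

set_option autoImplicit false

universe u v

namespace Cfsg.Agent.Helper48

open Subgroup
open scoped Classical Pointwise

section Ext

/-- If `a`, `b` centralize a subgroup `Γ₀` and `a²`, `b²`, `[a,b]` lie in `Γ₀`, then the subgroup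
generated by `a`, `b`, `Γ₀` is covered by the four cosets `Γ₀, aΓ₀, bΓ₀, abΓ₀`. -/
theorem mem_cosets_of_mem_closure {L : Type*} [Group L] (Γ₀ : Subgroup L) (a b : L)
    (ha : ∀ γ ∈ Γ₀, a * γ = γ * a) (hb : ∀ γ ∈ Γ₀, b * γ = γ * b)
    (haa : a * a ∈ Γ₀) (hbb : b * b ∈ Γ₀) (hba : ∃ ω ∈ Γ₀, b * a = a * b * ω)
    {g : L} (hg : g ∈ closure ({a, b} ∪ (Γ₀ : Set L))) :
    ∃ γ ∈ Γ₀, g = γ ∨ g = a * γ ∨ g = b * γ ∨ g = a * b * γ := by
  obtain ⟨ω, hω, hbaω⟩ := hba
  have Pγ : ∀ w : L, (∃ γ ∈ Γ₀, w = γ ∨ w = a * γ ∨ w = b * γ ∨ w = a * b * γ) →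
      ∀ γ₀ ∈ Γ₀, ∃ γ ∈ Γ₀, w * γ₀ = γ ∨ w * γ₀ = a * γ ∨ w * γ₀ = b * γ ∨ w * γ₀ = a * b * γ := by
    rintro w ⟨γ, hγ, h | h | h | h⟩ γ₀ hγ₀
    · exact ⟨γ * γ₀, Γ₀.mul_mem hγ hγ₀, Or.inl (by rw [h])⟩
    · exact ⟨γ * γ₀, Γ₀.mul_mem hγ hγ₀, Or.inr (Or.inl (by rw [h, mul_assoc]))⟩
    · exact ⟨γ * γ₀, Γ₀.mul_mem hγ hγ₀, Or.inr (Or.inr (Or.inl (by rw [h, mul_assoc])))⟩
    · exact ⟨γ * γ₀, Γ₀.mul_mem hγ hγ₀, Or.inr (Or.inr (Or.inr (by rw [h, mul_assoc])))⟩
  have Pa : ∀ w : L, (∃ γ ∈ Γ₀, w = γ ∨ w = a * γ ∨ w = b * γ ∨ w = a * b * γ) →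
      ∃ γ ∈ Γ₀, w * a = γ ∨ w * a = a * γ ∨ w * a = b * γ ∨ w * a = a * b * γ := by
    rintro w ⟨γ, hγ, h | h | h | h⟩
    · exact ⟨γ, hγ, Or.inr (Or.inl (by rw [h, ha γ hγ]))⟩
    · refine ⟨a * a * γ, Γ₀.mul_mem haa hγ, Or.inl ?_⟩
      calc w * a = a * (γ * a) := by rw [h, mul_assoc]
        _ = a * (a * γ) := by rw [ha γ hγ]
        _ = a * a * γ := by rw [mul_assoc]
    · refine ⟨ω * γ, Γ₀.mul_mem hω hγ, Or.inr (Or.inr (Or.inr ?_))⟩
      calc w * a = b * (γ * a) := by rw [h, mul_assoc]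
        _ = b * (a * γ) := by rw [ha γ hγ]
        _ = (b * a) * γ := by rw [mul_assoc]
        _ = a * b * ω * γ := by rw [hbaω]
        _ = a * b * (ω * γ) := by rw [mul_assoc]
    · refine ⟨a * a * (ω * γ), Γ₀.mul_mem haa (Γ₀.mul_mem hω hγ), Or.inr (Or.inr (Or.inl ?_))⟩
      have h1 := hb (a * a) haa
      calc w * a = a * b * (γ * a) := by rw [h, mul_assoc]
        _ = a * b * (a * γ) := by rw [ha γ hγ]
        _ = a * (b * a) * γ := by group
        _ = a * (a * b * ω) * γ := by rw [hbaω]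
        _ = (a * a) * b * (ω * γ) := by group
        _ = b * (a * a) * (ω * γ) := by rw [h1]
        _ = b * (a * a * (ω * γ)) := by rw [mul_assoc]
  have Pb : ∀ w : L, (∃ γ ∈ Γ₀, w = γ ∨ w = a * γ ∨ w = b * γ ∨ w = a * b * γ) →
      ∃ γ ∈ Γ₀, w * b = γ ∨ w * b = a * γ ∨ w * b = b * γ ∨ w * b = a * b * γ := by
    rintro w ⟨γ, hγ, h | h | h | h⟩
    · exact ⟨γ, hγ, Or.inr (Or.inr (Or.inl (by rw [h, hb γ hγ])))⟩
    · refine ⟨γ, hγ, Or.inr (Or.inr (Or.inr ?_))⟩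
      calc w * b = a * (γ * b) := by rw [h, mul_assoc]
        _ = a * (b * γ) := by rw [hb γ hγ]
        _ = a * b * γ := by rw [mul_assoc]
    · refine ⟨b * b * γ, Γ₀.mul_mem hbb hγ, Or.inl ?_⟩
      calc w * b = b * (γ * b) := by rw [h, mul_assoc]
        _ = b * (b * γ) := by rw [hb γ hγ]
        _ = b * b * γ := by rw [mul_assoc]
    · refine ⟨b * b * γ, Γ₀.mul_mem hbb hγ, Or.inr (Or.inl ?_)⟩
      calc w * b = a * b * (γ * b) := by rw [h, mul_assoc]
        _ = a * b * (b * γ) := by rw [hb γ hγ]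
        _ = a * (b * b * γ) := by group
  induction hg using Subgroup.closure_induction_right with
  | one => exact ⟨1, Γ₀.one_mem, Or.inl rfl⟩
  | mul_right w _ y hy ih =>
    rcases hy with hy | hy
    · rcases hy with rfl | hy
      · exact Pa w ih
      · rw [Set.mem_singleton_iff] at hy
        subst hy
        exact Pb w ih
    · exact Pγ w ih y hy
  | mul_inv_cancel w _ y hy ih =>
    rcases hy with hy | hy
    · rcases hy with rfl | hy
      · have : w * y⁻¹ = w * y * (y * y)⁻¹ := by group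
        rw [this]
        exact Pγ _ (Pa w ih) _ (Γ₀.inv_mem haa)
      · rw [Set.mem_singleton_iff] at hy
        subst hy
        have : w * y⁻¹ = w * y * (y * y)⁻¹ := by group
        rw [this]
        exact Pγ _ (Pb w ih) _ (Γ₀.inv_mem hbb)
    · exact Pγ w ih _ (Γ₀.inv_mem hy)

theorem card_closure_le_four_mul {L : Type*} [Group L] [Finite L] (Γ₀ : Subgroup L) (a b : L)
    (ha : ∀ γ ∈ Γ₀, a * γ = γ * a) (hb : ∀ γ ∈ Γ₀, b * γ = γ * b)
    (haa : a * a ∈ Γ₀) (hbb : b * b ∈ Γ₀) (hba : ∃ ω ∈ Γ₀, b * a = a * b * ω) :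
    Nat.card (closure ({a, b} ∪ (Γ₀ : Set L))) ≤ 4 * Nat.card Γ₀ := by
  have key : ∀ g : closure ({a, b} ∪ (Γ₀ : Set L)), ∃ x : Fin 4 × Γ₀,
      (g : L) = ![1, a, b, a * b] x.1 * (x.2 : L) := by
    rintro ⟨g, hg⟩
    obtain ⟨γ, hγ, h | h | h | h⟩ := mem_cosets_of_mem_closure Γ₀ a b ha hb haa hbb hba hg
    · exact ⟨(0, ⟨γ, hγ⟩), by simp [h]⟩
    · exact ⟨(1, ⟨γ, hγ⟩), by simp [h]⟩
    · exact ⟨(2, ⟨γ, hγ⟩), by simp [h]⟩
    · exact ⟨(3, ⟨γ, hγ⟩), by simp [h]⟩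
  choose f hf using key
  have hinj : Function.Injective f := by
    intro g g' hgg
    apply Subtype.ext
    rw [hf g, hf g', hgg]
  have := Nat.card_le_card_of_injective f hinj
  simpa using this

/-- Extension of an isomorphism `β : C ≃* C'` to groups generated over `C`, `C'` by two elements
centralizing them, with matching squares and commutator. -/
theorem nonempty_mulEquiv_of_ext {E : Type u} {E' : Type v} [Group E] [Group E'] [Finite E]
    [Finite E'] (C : Subgroup E) (C' : Subgroup E') (β : C ≃* C') (t u : E) (t' u' : E')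
    (htC : ∀ c ∈ C, t * c = c * t) (huC : ∀ c ∈ C, u * c = c * u)
    (htC' : ∀ c ∈ C', t' * c = c * t') (huC' : ∀ c ∈ C', u' * c = c * u')
    (htt : ∃ c : C, t * t = c ∧ t' * t' = β c) (huu : ∃ c : C, u * u = c ∧ u' * u' = β c)
    (hut : ∃ c : C, u * t = t * u * c ∧ u' * t' = t' * u' * β c)
    (hgen : closure ({t, u} ∪ (C : Set E)) = ⊤)
    (hgen' : closure ({t', u'} ∪ (C' : Set E')) = ⊤)
    (hcard : Nat.card E = 4 * Nat.card C) (hcard' : Nat.card E' = Nat.card E) :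
    Nonempty (E ≃* E') := by
  obtain ⟨f, hf⟩ : ∃ f : C →* E × E', ∀ c : C, f c = ((c : E), ((β c : C') : E')) :=
    ⟨MonoidHom.prod C.subtype (C'.subtype.comp β.toMonoidHom), fun c => rfl⟩
  obtain ⟨Γ₀, hΓ₀⟩ : ∃ Γ₀ : Subgroup (E × E'), Γ₀ = f.range := ⟨_, rfl⟩
  have hmemΓ₀ : ∀ c : C, ((c : E), ((β c : C') : E')) ∈ Γ₀ := by
    intro c; rw [hΓ₀, ← hf]; exact ⟨c, rfl⟩
  have hΓ₀mem : ∀ γ ∈ Γ₀, ∃ c : C, γ = ((c : E), ((β c : C') : E')) := by
    intro γ hγ
    rw [hΓ₀] at hγ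
    obtain ⟨c, rfl⟩ := hγ
    exact ⟨c, hf c⟩
  have hΓ₀card : Nat.card Γ₀ ≤ Nat.card C := by
    rw [hΓ₀]
    exact Nat.card_le_card_of_surjective _ f.rangeRestrict_surjective
  have ha : ∀ γ ∈ Γ₀, ((t, t') : E × E') * γ = γ * (t, t') := by
    intro γ hγ
    obtain ⟨c, rfl⟩ := hΓ₀mem γ hγ
    exact Prod.ext (htC c c.2) (htC' _ (β c).2)
  have hb : ∀ γ ∈ Γ₀, ((u, u') : E × E') * γ = γ * (u, u') := by
    intro γ hγ
    obtain ⟨c, rfl⟩ := hΓ₀mem γ hγ
    exact Prod.ext (huC c c.2) (huC' _ (β c).2)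
  have haa : ((t, t') : E × E') * (t, t') ∈ Γ₀ := by
    obtain ⟨c, h1, h2⟩ := htt
    have : ((t, t') : E × E') * (t, t') = ((c : E), ((β c : C') : E')) := Prod.ext h1 h2
    rw [this]; exact hmemΓ₀ c
  have hbb : ((u, u') : E × E') * (u, u') ∈ Γ₀ := by
    obtain ⟨c, h1, h2⟩ := huu
    have : ((u, u') : E × E') * (u, u') = ((c : E), ((β c : C') : E')) := Prod.ext h1 h2
    rw [this]; exact hmemΓ₀ c
  have hba : ∃ ω ∈ Γ₀, ((u, u') : E × E') * (t, t') = (t, t') * (u, u') * ω := by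
    obtain ⟨c, h1, h2⟩ := hut
    exact ⟨_, hmemΓ₀ c, Prod.ext h1 h2⟩
  obtain ⟨Γ, hΓ⟩ : ∃ Γ : Subgroup (E × E'),
      Γ = closure ({((t, t') : E × E'), (u, u')} ∪ (Γ₀ : Set (E × E'))) := ⟨_, rfl⟩
  have hΓcard : Nat.card Γ ≤ Nat.card E := by
    rw [hΓ, hcard]
    exact (card_closure_le_four_mul Γ₀ _ _ ha hb haa hbb hba).trans
      (Nat.mul_le_mul_left 4 hΓ₀card)
  have haΓ : ((t, t') : E × E') ∈ Γ := by
    rw [hΓ]; exact subset_closure (Or.inl (Set.mem_insert _ _))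
  have hbΓ : ((u, u') : E × E') ∈ Γ := by
    rw [hΓ]; exact subset_closure (Or.inl (Set.mem_insert_of_mem _ rfl))
  have hΓ₀Γ : Γ₀ ≤ Γ := by
    rw [hΓ]; exact fun γ hγ => subset_closure (Or.inr hγ)
  have hmap₁ : Γ.map (MonoidHom.fst E E') = ⊤ := by
    rw [eq_top_iff, ← hgen, closure_le]
    rintro x (hx | hx)
    · rcases hx with rfl | hx
      · exact ⟨_, haΓ, rfl⟩
      · rw [Set.mem_singleton_iff] at hx
        subst hx
        exact ⟨_, hbΓ, rfl⟩
    · exact ⟨_, hΓ₀Γ (hmemΓ₀ ⟨x, hx⟩), rfl⟩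
  have hmap₂ : Γ.map (MonoidHom.snd E E') = ⊤ := by
    rw [eq_top_iff, ← hgen', closure_le]
    rintro x (hx | hx)
    · rcases hx with rfl | hx
      · exact ⟨_, haΓ, rfl⟩
      · rw [Set.mem_singleton_iff] at hx
        subst hx
        exact ⟨_, hbΓ, rfl⟩
    · refine ⟨_, hΓ₀Γ (hmemΓ₀ (β.symm ⟨x, hx⟩)), ?_⟩
      simp
  obtain ⟨e₁⟩ := nonempty_mulEquiv_of_map_eq Γ (MonoidHom.fst E E') ⊤ hmap₁
    (by rw [Subgroup.card_top]; exact hΓcard)
  obtain ⟨e₂⟩ := nonempty_mulEquiv_of_map_eq Γ (MonoidHom.snd E E') ⊤ hmap₂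
    (by rw [Subgroup.card_top, hcard']; exact hΓcard)
  exact ⟨Subgroup.topEquiv.symm.trans (e₁.symm.trans (e₂.trans Subgroup.topEquiv))⟩

end Ext

section ES2

variable {E : Type*} [Group E]

/-- The nontrivial central element. -/
theorem es2_exists_z (h2 : Nat.card (center E) = 2) :
    ∃ z : E, z ∈ center E ∧ z ≠ 1 ∧ z * z = 1 ∧ ∀ c ∈ center E, c = 1 ∨ c = z := by
  obtain ⟨y, hy1, -⟩ := (Nat.card_eq_two_iff' (1 : center E)).mp h2
  refine ⟨y, y.2, fun h => hy1 (Subtype.ext h), congrArg Subtype.val (center_mul_self h2 y), ?_⟩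
  intro c hc
  rcases center_cases h2 hy1 ⟨c, hc⟩ with h | h
  · exact Or.inl (congrArg Subtype.val h)
  · exact Or.inr (congrArg Subtype.val h)

theorem es2_comm_or (hc : ∀ x y : E, x * y * x⁻¹ * y⁻¹ ∈ center E) {z : E} (hz : z ∈ center E)
    (hzall : ∀ c ∈ center E, c = 1 ∨ c = z) (x y : E) : x * y = y * x ∨ x * y = y * x * z := by
  rcases hzall _ (hc x y) with h | h
  · left
    calc x * y = (x * y * x⁻¹ * y⁻¹) * (y * x) := by group
      _ = y * x := by rw [h, one_mul]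
  · right
    calc x * y = (x * y * x⁻¹ * y⁻¹) * (y * x) := by group
      _ = z * (y * x) := by rw [h]
      _ = y * x * z := (Subgroup.mem_center_iff.mp hz (y * x)).symm

theorem es2_sq_or (hc : ∀ x y : E, x * y * x⁻¹ * y⁻¹ ∈ center E) (h2 : Nat.card (center E) = 2)
    {z : E} (hzall : ∀ c ∈ center E, c = 1 ∨ c = z) (x : E) : x * x = 1 ∨ x * x = z := by
  have := hzall _ (sq_mem_center hc h2 x)
  rwa [pow_two] at this

/-- `C_E(t) ∩ C_E(u)`. -/
def cent2 (t u : E) : Subgroup E := centralizer {t} ⊓ centralizer {u}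

theorem mem_cent2_iff {t u g : E} : g ∈ cent2 t u ↔ g * t = t * g ∧ g * u = u * g := by
  unfold cent2
  rw [Subgroup.mem_inf, mem_centralizer_singleton_iff, mem_centralizer_singleton_iff]

theorem center_le_cent2 (t u : E) : center E ≤ cent2 t u := by
  intro c hc
  rw [mem_cent2_iff]
  exact ⟨(Subgroup.mem_center_iff.mp hc t).symm, (Subgroup.mem_center_iff.mp hc u).symm⟩

theorem closure_cent2_eq_top (hc : ∀ x y : E, x * y * x⁻¹ * y⁻¹ ∈ center E)
    (h2 : Nat.card (center E) = 2) (t u : E) (htu : t * u ≠ u * t) :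
    closure ({t, u} ∪ (cent2 t u : Set E)) = ⊤ := by
  rw [eq_top_iff]
  intro g _
  have hctu : commHom hc t u ≠ 1 := fun h => htu ((commHom_eq_one_iff hc t u).mp h).symm
  have hcut : commHom hc u t ≠ 1 := fun h => htu ((commHom_eq_one_iff hc u t).mp h)
  have hctt : commHom hc t t = 1 := (commHom_eq_one_iff hc t t).mpr rfl
  have hcuu : commHom hc u u = 1 := (commHom_eq_one_iff hc u u).mpr rfl
  have htm : t ∈ closure ({t, u} ∪ (cent2 t u : Set E)) :=
    subset_closure (Or.inl (Set.mem_insert _ _))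
  have hum : u ∈ closure ({t, u} ∪ (cent2 t u : Set E)) :=
    subset_closure (Or.inl (Set.mem_insert_of_mem _ rfl))
  have hCm : ∀ c, c ∈ cent2 t u → c ∈ closure ({t, u} ∪ (cent2 t u : Set E)) :=
    fun c hcm => subset_closure (Or.inr hcm)
  have hmem : ∀ g' : E, commHom hc t g' = 1 → commHom hc u g' = 1 → g' ∈ cent2 t u := by
    intro g' h1 h2'
    rw [mem_cent2_iff]
    exact ⟨(commHom_eq_one_iff hc t g').mp h1, (commHom_eq_one_iff hc u g').mp h2'⟩
  rcases center_cases h2 hctu (commHom hc t g) with h1 | h1 <;>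
    rcases center_cases h2 hcut (commHom hc u g) with h3 | h3
  · exact hCm g (hmem g h1 h3)
  · have : g = t * (t⁻¹ * g) := by group
    rw [this]
    refine mul_mem htm (hCm _ (hmem _ ?_ ?_))
    · rw [map_mul, map_inv, hctt, h1, inv_one, one_mul]
    · rw [map_mul, map_inv, h3, inv_mul_cancel]
  · have : g = u * (u⁻¹ * g) := by group
    rw [this]
    refine mul_mem hum (hCm _ (hmem _ ?_ ?_))
    · rw [map_mul, map_inv, h1, inv_mul_cancel]
    · rw [map_mul, map_inv, hcuu, h3, inv_one, one_mul]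
  · have : g = t * u * ((t * u)⁻¹ * g) := by group
    rw [this]
    refine mul_mem (mul_mem htm hum) (hCm _ (hmem _ ?_ ?_))
    · rw [map_mul, map_inv, map_mul, hctt, one_mul, h1, inv_mul_cancel]
    · rw [map_mul, map_inv, map_mul, hcuu, mul_one, h3, inv_mul_cancel]

theorem card_eq_four_mul_card_cent2 (hc : ∀ x y : E, x * y * x⁻¹ * y⁻¹ ∈ center E)
    (h2 : Nat.card (center E) = 2) [Finite E] (t u : E) (htu : t * u ≠ u * t) :
    Nat.card E = 4 * Nat.card (cent2 t u) := by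
  obtain ⟨f, hf⟩ : ∃ f : E →* center E × center E,
      ∀ g, f g = (commHom hc t g, commHom hc u g) :=
    ⟨(commHom hc t).prod (commHom hc u), fun g => rfl⟩
  have hctu : commHom hc t u ≠ 1 := fun h => htu ((commHom_eq_one_iff hc t u).mp h).symm
  have hcut : commHom hc u t ≠ 1 := fun h => htu ((commHom_eq_one_iff hc u t).mp h)
  have hctt : commHom hc t t = 1 := (commHom_eq_one_iff hc t t).mpr rfl
  have hcuu : commHom hc u u = 1 := (commHom_eq_one_iff hc u u).mpr rfl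
  have hker : f.ker = cent2 t u := by
    ext g
    rw [MonoidHom.mem_ker, hf, Prod.ext_iff, mem_cent2_iff]
    exact and_congr (commHom_eq_one_iff hc t g) (commHom_eq_one_iff hc u g)
  have hsurj : Function.Surjective f := by
    rintro ⟨c₁, c₂⟩
    rcases center_cases h2 hctu c₁ with h1 | h1 <;> rcases center_cases h2 hcut c₂ with h3 | h3
    · exact ⟨1, by rw [map_one, h1, h3]; rfl⟩
    · exact ⟨t, by rw [hf, hctt, h1, h3]⟩
    · exact ⟨u, by rw [hf, hcuu, h1, h3]⟩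
    · exact ⟨t * u, by rw [hf, map_mul, map_mul, hctt, hcuu, one_mul, mul_one, h1, h3]⟩
  have h1 : Nat.card f.ker * f.ker.index = Nat.card E := Subgroup.card_mul_index _
  rw [Subgroup.index_ker, MonoidHom.range_eq_top.mpr hsurj, Subgroup.card_top, Nat.card_prod, h2,
    hker] at h1
  omega

theorem cent2_comm_mem_center (hc : ∀ x y : E, x * y * x⁻¹ * y⁻¹ ∈ center E) (t u : E)
    (x y : cent2 t u) : x * y * x⁻¹ * y⁻¹ ∈ center (cent2 t u) := by
  rw [Subgroup.mem_center_iff]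
  intro g
  apply Subtype.ext
  exact Subgroup.mem_center_iff.mp (hc (x : E) (y : E)) (g : E)

/-- A central element of `C_E(t) ∩ C_E(u)` is central in `E`. -/
theorem coe_mem_center_of_mem_center_cent2 (hc : ∀ x y : E, x * y * x⁻¹ * y⁻¹ ∈ center E)
    (h2 : Nat.card (center E) = 2) (t u : E) (htu : t * u ≠ u * t) (c : cent2 t u)
    (hcc : c ∈ center (cent2 t u)) : (c : E) ∈ center E := by
  have hle : closure ({t, u} ∪ (cent2 t u : Set E)) ≤ centralizer {(c : E)} := by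
    rw [closure_le]
    have hc' := mem_cent2_iff.mp c.2
    rintro x (hx | hx)
    · rcases hx with rfl | hx
      · exact mem_centralizer_singleton_iff.mpr hc'.1.symm
      · rw [Set.mem_singleton_iff] at hx
        subst hx
        exact mem_centralizer_singleton_iff.mpr hc'.2.symm
    · have := Subgroup.mem_center_iff.mp hcc ⟨x, hx⟩
      exact mem_centralizer_singleton_iff.mpr (congrArg Subtype.val this)
  rw [closure_cent2_eq_top hc h2 t u htu] at hle
  rw [Subgroup.mem_center_iff]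
  intro g
  exact mem_centralizer_singleton_iff.mp (hle (Subgroup.mem_top g))

theorem card_center_cent2 (hc : ∀ x y : E, x * y * x⁻¹ * y⁻¹ ∈ center E)
    (h2 : Nat.card (center E) = 2) (t u : E) (htu : t * u ≠ u * t) :
    Nat.card (center (cent2 t u)) = 2 := by
  rw [← h2]
  refine Nat.card_congr
    { toFun := fun c => ⟨((c : cent2 t u) : E),
        coe_mem_center_of_mem_center_cent2 hc h2 t u htu c c.2⟩
      invFun := fun ζ => ⟨⟨(ζ : E), center_le_cent2 t u ζ.2⟩, by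
        rw [Subgroup.mem_center_iff]
        intro g
        apply Subtype.ext
        exact Subgroup.mem_center_iff.mp ζ.2 (g : E)⟩
      left_inv := fun c => rfl
      right_inv := fun ζ => rfl }

theorem card_cent2 (hc : ∀ x y : E, x * y * x⁻¹ * y⁻¹ ∈ center E)
    (h2 : Nat.card (center E) = 2) [Finite E] (t u : E) (htu : t * u ≠ u * t) (m : ℕ)
    (hcard : Nat.card E = 2 ^ (2 * (m + 1) + 1)) : Nat.card (cent2 t u) = 2 ^ (2 * m + 1) := by
  have h := card_eq_four_mul_card_cent2 hc h2 t u htu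
  rw [hcard] at h
  have : 2 ^ (2 * (m + 1) + 1) = 4 * 2 ^ (2 * m + 1) := by ring
  omega

end ES2

end Cfsg.Agent.Helper48
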