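import Mathlib
import Cfsg.Agent.Helper48.Extraspecial2
import Cfsg.Agent.Helper24.Coprime

/-!
# Extraspecial `p`-groups for general `p`: duality count and maximal complements of the centre
(helper48)
-/

set_option autoImplicit false

namespace Cfsg.Agent.Helper48

open Subgroup
open scoped Classical commutatorElement

section ExtraP

variable {E : Type*} [Group E] {p : ℕ}

/-- A faithful complex character of a centre of prime order. -/
theorem exists_center_char [Fact p.Prime] (hp : Nat.card (center E) = p) :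
    ∃ φ : center E →* ℂ, ∀ z : center E, z ≠ 1 → φ z ≠ 1 := by
  have hcyc : IsCyclic (center E) := isCyclic_of_prime_card hp
  have : NeZero (Nat.card (center E)) := ⟨by rw [hp]; exact (Fact.out : p.Prime).ne_zero⟩
  refine ⟨(ZMod.stdAddChar (N := Nat.card (center E))).toMonoidHom.comp
    (zmodCyclicMulEquiv hcyc).symm.toMonoidHom, ?_⟩
  intro z hz h1
  apply hz
  have h2 : (ZMod.stdAddChar (N := Nat.card (center E)))
      (Multiplicative.toAdd ((zmodCyclicMulEquiv hcyc).symm z)) = 1 := h1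
  have h3 : Multiplicative.toAdd ((zmodCyclicMulEquiv hcyc).symm z) = 0 := by
    apply ZMod.injective_stdAddChar
    rw [h2, AddChar.map_zero_eq_one]
  have h4 : (zmodCyclicMulEquiv hcyc).symm z = 1 := h3
  simpa using h4

theorem sum_char_hom_of_trivial (φ : center E →* ℂ) {B : Type*} [Group B] [Fintype B]
    (ψ : B →* center E) (h : ∀ b, ψ b = 1) : ∑ b : B, φ (ψ b) = (Fintype.card B : ℂ) := by
  simp [h]

theorem sum_char_hom_of_nontrivial (φ : center E →* ℂ) (hφ : ∀ z : center E, z ≠ 1 → φ z ≠ 1)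
    {B : Type*} [Group B] [Fintype B] (ψ : B →* center E) (h : ∃ b, ψ b ≠ 1) :
    ∑ b : B, φ (ψ b) = 0 := by
  obtain ⟨b₀, hb₀⟩ := h
  have h1 : ∑ b : B, φ (ψ b) = ∑ b : B, φ (ψ (b * b₀)) :=
    (Fintype.sum_equiv (Equiv.mulRight b₀) _ _ (fun b => rfl)).symm
  have h4 : ∑ b : B, φ (ψ (b * b₀)) = (∑ b : B, φ (ψ b)) * φ (ψ b₀) := by
    rw [Finset.sum_mul]
    apply Finset.sum_congr rfl
    intro b _
    rw [map_mul, map_mul]
  have h5 : (∑ b : B, φ (ψ b)) * (1 - φ (ψ b₀)) = 0 := by
    rw [mul_sub, mul_one, ← h4, ← h1, sub_self]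
  rcases mul_eq_zero.mp h5 with h6 | h6
  · exact h6
  · exact absurd (sub_eq_zero.mp h6).symm (hφ _ hb₀)

theorem commHom_swap (hc : ∀ x y : E, x * y * x⁻¹ * y⁻¹ ∈ center E) (x b : E) :
    commHom hc x b = commHom hc b⁻¹ x := by
  apply Subtype.ext
  show b * x * b⁻¹ * x⁻¹ = x * b⁻¹ * x⁻¹ * b⁻¹⁻¹
  have h := Subgroup.mem_center_iff.mp (hc b x) b
  calc b * x * b⁻¹ * x⁻¹ = b⁻¹ * (b * (b * x * b⁻¹ * x⁻¹)) := by group
    _ = b⁻¹ * ((b * x * b⁻¹ * x⁻¹) * b) := by rw [h]
    _ = x * b⁻¹ * x⁻¹ * b⁻¹⁻¹ := by group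

/-- Duality count for general `p`: `|C_E(B)| · |B| = |B ∩ Z(E)| · |E|`. -/
theorem card_centralizer_mul_card_general [Fact p.Prime]
    (hc : ∀ x y : E, x * y * x⁻¹ * y⁻¹ ∈ center E)
    (hp : Nat.card (center E) = p) [Finite E] (B : Subgroup E) :
    Nat.card (centralizer (B : Set E)) * Nat.card B =
      Nat.card {b : B // (b : E) ∈ center E} * Nat.card E := by
  have := Fintype.ofFinite E
  obtain ⟨φ, hφ⟩ := exists_center_char hp
  have key : ∑ x : E, ∑ b : B, φ (commHom hc x (b : E)) =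
      ∑ b : B, ∑ x : E, φ (commHom hc x (b : E)) := Finset.sum_comm
  have hleft : ∀ x : E, ∑ b : B, φ (commHom hc x (b : E)) =
      if x ∈ centralizer (B : Set E) then (Fintype.card B : ℂ) else 0 := by
    intro x
    split_ifs with hx
    · apply sum_char_hom_of_trivial φ ((commHom hc x).comp B.subtype)
      intro b
      exact (commHom_eq_one_iff hc x b).mpr (mem_centralizer_iff.mp hx b b.2)
    · apply sum_char_hom_of_nontrivial φ hφ ((commHom hc x).comp B.subtype)
      by_contra hall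
      push Not at hall
      apply hx
      rw [mem_centralizer_iff]
      intro b hb
      exact (commHom_eq_one_iff hc x b).mp (hall ⟨b, hb⟩)
  have hright : ∀ b : E, ∑ x : E, φ (commHom hc x b) =
      if b ∈ center E then (Fintype.card E : ℂ) else 0 := by
    intro b
    have h1 : ∑ x : E, φ (commHom hc x b) = ∑ x : E, φ (commHom hc b⁻¹ x) := by
      apply Finset.sum_congr rfl
      intro x _
      rw [commHom_swap hc x b]
    rw [h1]
    split_ifs with hb
    · apply sum_char_hom_of_trivial φ (commHom hc b⁻¹)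
      intro x
      exact (commHom_eq_one_iff hc b⁻¹ x).mpr
        (Subgroup.mem_center_iff.mp (inv_mem hb) x)
    · apply sum_char_hom_of_nontrivial φ hφ (commHom hc b⁻¹)
      by_contra hall
      push Not at hall
      apply hb
      have : b⁻¹ ∈ center E := by
        rw [Subgroup.mem_center_iff]
        intro x
        exact (commHom_eq_one_iff hc b⁻¹ x).mp (hall x)
      simpa using inv_mem this
  simp_rw [hleft, hright] at key
  have hsum : ∀ {α : Type _} [Fintype α] (q : α → Prop) [DecidablePred q] (c : ℂ),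
      ∑ x : α, (if q x then c else 0) = (Fintype.card {x // q x} : ℂ) * c := by
    intro α _ q _ c
    rw [Finset.sum_ite, Finset.sum_const, Finset.sum_const_zero, add_zero, nsmul_eq_mul,
      Fintype.card_subtype]
  rw [hsum, hsum] at key
  rw [Nat.card_eq_fintype_card (α := B), Nat.card_eq_fintype_card (α := E),
    Nat.card_eq_fintype_card, Nat.card_eq_fintype_card]
  exact_mod_cast key

/-- Duality count for a subgroup meeting the centre trivially. -/
theorem card_centralizer_mul_card_of_inf_eq_bot [Fact p.Prime]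
    (hc : ∀ x y : E, x * y * x⁻¹ * y⁻¹ ∈ center E)
    (hp : Nat.card (center E) = p) [Finite E] (B : Subgroup E) (hB : B ⊓ center E = ⊥) :
    Nat.card (centralizer (B : Set E)) * Nat.card B = Nat.card E := by
  rw [card_centralizer_mul_card_general hc hp B]
  have h1 : Nat.card {b : B // (b : E) ∈ center E} = 1 := by
    rw [Nat.card_eq_one_iff_unique]
    refine ⟨⟨?_⟩, ⟨⟨1, by simp [one_mem]⟩⟩⟩
    rintro ⟨⟨a, ha⟩, ha'⟩ ⟨⟨b, hb⟩, hb'⟩
    have ha1 : a ∈ B ⊓ center E := ⟨ha, ha'⟩
    have hb1 : b ∈ B ⊓ center E := ⟨hb, hb'⟩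
    rw [hB, Subgroup.mem_bot] at ha1 hb1
    subst ha1
    subst hb1
    rfl
  rw [h1, one_mul]

theorem pow_prime_mem_center (hc : ∀ x y : E, x * y * x⁻¹ * y⁻¹ ∈ center E)
    (hp : Nat.card (center E) = p) (x : E) : x ^ p ∈ center E := by
  rw [Subgroup.mem_center_iff]
  intro g
  have h1 : commHom hc g (x ^ p) = 1 := by
    rw [map_pow, ← hp]
    exact pow_card_eq_one'
  exact ((commHom_eq_one_iff hc g (x ^ p)).mp h1).symm

theorem mul_pow_prime_of_odd [Fact p.Prime] (hc : ∀ x y : E, x * y * x⁻¹ * y⁻¹ ∈ center E)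
    (hp : Nat.card (center E) = p) (hodd : p ≠ 2) (x y : E) :
    (x * y) ^ p = x ^ p * y ^ p := by
  have hcen : ⁅y, x⁆ ∈ center E := by
    rw [commutatorElement_def]
    exact hc y x
  have h1 := Cfsg.Agent.Helper24.mul_pow_of_commutator_commute x y
    ((Subgroup.mem_center_iff.mp hcen x).symm) ((Subgroup.mem_center_iff.mp hcen y).symm) p
  have hp' : p.Prime := Fact.out
  have h3 : 2 < p := lt_of_le_of_ne hp'.two_le (Ne.symm hodd)
  obtain ⟨m, hm⟩ := hp'.dvd_choose_self (k := 2) (by norm_num) h3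
  have h2 : ⁅y, x⁆ ^ p = 1 := by
    have : (⟨⁅y, x⁆, hcen⟩ : center E) ^ p = 1 := by
      rw [← hp]
      exact pow_card_eq_one'
    exact congrArg Subtype.val this
  rw [h1, hm, pow_mul, h2, one_pow, mul_one]

end ExtraP

end Cfsg.Agent.Helper48
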