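import Mathlib
import Cfsg.Agent.Helper79.Linear
import Cfsg.Agent.Helper79.Codegree
import Cfsg.Agent.Helper80.CharOrtho

set_option autoImplicit false
open Cfsg
open scoped commutatorElement

/-!
# CALL LM (helper21; row S4067), piece CHAR (helper48, double)

`lm_char`, verbatim from `tools/calls/LMSkel.lean.txt`: a non-abelian finite group with more than
`|G| / p` conjugacy classes (`p` the least prime divisor of `|G|`) has `|G'| = p`.
`|G| = [G : G'] + ∑ (non-linear degrees)²`, every non-linear degree is at least `p`.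
-/

namespace Cfsg.Agent.Helper48.LM

/-- CHAR: more than `|G|/p` classes forces `|G'| = p` (character degrees). -/
theorem lm_char {G : Type*} [Group G] [Finite G] (hna : ¬ IsMulCommutative G)
    (hk : Nat.card G / (Nat.card G).minFac < Nat.card (ConjClasses G)) :
    Nat.card (commutator G) = (Nat.card G).minFac := by
  classical
  let _ := Fintype.ofFinite G
  let _ := Fintype.ofFinite (IrrCharacter G)
  obtain ⟨p, hp⟩ : ∃ p, p = (Nat.card G).minFac := ⟨_, rfl⟩
  rw [← hp] at hk ⊢
  have hG1 : Nat.card G ≠ 1 := by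
    intro h1
    apply hna
    have : Subsingleton G := (Nat.card_eq_one_iff_unique.mp h1).1
    exact ⟨⟨fun a b => Subsingleton.elim _ _⟩⟩
  have hpp : p.Prime := by rw [hp]; exact Nat.minFac_prime hG1
  have hpdvd : p ∣ Nat.card G := by rw [hp]; exact Nat.minFac_dvd _
  have hcomm : commutator G ≠ ⊥ := by
    intro h
    apply hna
    refine ⟨⟨fun a b => ?_⟩⟩
    have h1 : ⁅a, b⁆ ∈ commutator G := by
      rw [commutator_def]
      exact Subgroup.commutator_mem_commutator (Subgroup.mem_top _) (Subgroup.mem_top _)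
    rw [h, Subgroup.mem_bot, commutatorElement_eq_one_iff_mul_comm] at h1
    exact h1
  have hLc : Nat.card (commutator G) * (commutator G).index = Nat.card G :=
    Subgroup.card_mul_index _
  have hc1 : Nat.card (commutator G) ≠ 1 := by
    intro h
    exact hcomm (Subgroup.card_eq_one.mp h)
  have hcpos : 0 < Nat.card (commutator G) := Nat.card_pos
  have hcp : p ≤ Nat.card (commutator G) := by
    rw [hp]
    exact Nat.minFac_le_of_dvd (by omega) (Dvd.intro _ hLc)
  have hdeg : ∀ χ : IrrCharacter G, ¬ charDegree (χ : G → ℂ) = 1 →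
      p ≤ charDegree (χ : G → ℂ) := by
    intro χ hχ
    have hd := Cfsg.Agent.Helper79.irr_charDegree_dvd_card χ
    have hpos : 0 < charDegree (χ : G → ℂ) := Nat.pos_of_dvd_of_pos hd Nat.card_pos
    rw [hp]
    exact Nat.minFac_le_of_dvd (by omega) hd
  have hsplit := Cfsg.Agent.Helper79.sum_charDegree_sq_split (G := G)
  have hkk := Cfsg.Agent.Helper80.card_irr_eq_card_conjClasses (G := G)
  have hlin := Cfsg.Agent.Helper79.card_linear_irr (G := G)
  have hcardsplit : (Finset.univ.filter
        (fun χ : IrrCharacter G => charDegree (χ : G → ℂ) = 1)).card +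
      (Finset.univ.filter (fun χ : IrrCharacter G => ¬ charDegree (χ : G → ℂ) = 1)).card =
      Fintype.card (IrrCharacter G) := by
    rw [Finset.card_filter_add_card_filter_not, Finset.card_univ]
  have hlin' : (Finset.univ.filter
      (fun χ : IrrCharacter G => charDegree (χ : G → ℂ) = 1)).card = (commutator G).index := by
    rw [← hlin, Nat.card_eq_fintype_card, Fintype.card_subtype]
  have hlow : (Finset.univ.filter
        (fun χ : IrrCharacter G => ¬ charDegree (χ : G → ℂ) = 1)).card * p ^ 2 ≤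
      ∑ χ ∈ Finset.univ.filter (fun χ : IrrCharacter G => ¬ charDegree (χ : G → ℂ) = 1),
        charDegree (χ : G → ℂ) ^ 2 := by
    rw [← smul_eq_mul]
    apply Finset.card_nsmul_le_sum
    intro χ hχ
    exact Nat.pow_le_pow_left (hdeg χ (Finset.mem_filter.mp hχ).2) 2
  refine le_antisymm ?_ hcp
  by_contra hcon
  push Not at hcon
  obtain ⟨t, ht⟩ := hpdvd
  have hgt : Nat.card G / p = t := by
    rw [ht]
    exact Nat.mul_div_cancel_left t hpp.pos
  rw [hgt, ← hkk, ← hcardsplit, hlin'] at hk
  have hg : Fintype.card G = p * t := by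
    rw [← Nat.card_eq_fintype_card, ht]
  obtain ⟨L, hL⟩ : ∃ L, L = (commutator G).index := ⟨_, rfl⟩
  obtain ⟨N, hN⟩ : ∃ N, N = (Finset.univ.filter
      (fun χ : IrrCharacter G => ¬ charDegree (χ : G → ℂ) = 1)).card := ⟨_, rfl⟩
  obtain ⟨c, hc⟩ : ∃ c, c = Nat.card (commutator G) := ⟨_, rfl⟩
  rw [← hL, ← hN] at hk
  rw [← hc] at hcon
  have n1 : c * L = p * t := by
    rw [hc, hL, hLc, ht]
  have n2 : L + N * p ^ 2 ≤ p * t := by
    rw [← hg, ← hsplit, hL, hN]
    exact Nat.add_le_add_left hlow _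
  have e1 : (c : ℤ) * L = p * t := by exact_mod_cast n1
  have e2 : (L : ℤ) + N * p ^ 2 ≤ p * t := by exact_mod_cast n2
  have e3 : (t : ℤ) + 1 ≤ L + N := by exact_mod_cast hk
  have e4 : (p : ℤ) + 1 ≤ c := by exact_mod_cast hcon
  have e5 : (2 : ℤ) ≤ p := by exact_mod_cast hpp.two_le
  have e6 : (0 : ℤ) ≤ L := Int.natCast_nonneg L
  have e7 : ((p : ℤ) + 1) * L ≤ p * t := by
    rw [← e1]
    exact mul_le_mul_of_nonneg_right e4 e6
  have e8 : ((t : ℤ) + 1 - L) * p ^ 2 ≤ N * p ^ 2 :=
    mul_le_mul_of_nonneg_right (by linarith) (sq_nonneg _)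
  have e9 : ((p : ℤ) - 1) * ((p + 1) * L) ≤ (p - 1) * (p * t) :=
    mul_le_mul_of_nonneg_left e7 (by linarith)
  nlinarith [sq_nonneg (p : ℤ)]

end Cfsg.Agent.Helper48.LM
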