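import Mathlib
import Cfsg.Agent.Helper48.M11Sign
import Cfsg.Agent.Helper88.T7920PAR
import Cfsg.Agent.Helper16.OrbitCount
import Cfsg.Agent.Helper9.OrdTools

/-!
# Involution centralisers in a simple group of order 7920 (last step)

`o7920_invol_cent`: in a simple group of order 7920 whose Sylow 3-normalisers have order 144 and
whose Sylow 3-centralisers have order 9, if no involution centraliser has order divisible by 11
and an involution centraliser of order divisible by 5 has order `20 k` with `k ≡ 1 mod 5`, then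
every involution centraliser has order 48.
-/

set_option autoImplicit false

namespace Cfsg.Agent.Helper48.M11Fin

variable {G : Type*} [Group G] [Finite G]

omit [Finite G] in
theorem m11fin_orderOf_conj (g y : G) : orderOf (g * y * g⁻¹) = orderOf y := by
  have h := MulEquiv.orderOf_eq (MulAut.conj g) y
  rwa [MulAut.conj_apply] at h

theorem o7920_invol_cent [IsSimpleGroup G] (hG : Nat.card G = 7920) (R : Sylow 3 G)
    (hN : Nat.card ↥(Subgroup.normalizer ((R : Subgroup G) : Set G)) = 144)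
    (hC3 : ∀ S : Sylow 3 G, Nat.card ↥(Subgroup.centralizer ((S : Subgroup G) : Set G)) = 9)
    (l11 : ∀ x : G, x ≠ 1 → orderOf x ≠ 11 →
      ¬ 11 ∣ Nat.card ↥(Subgroup.centralizer ({x} : Set G)))
    (l5i : ∀ x : G, x ≠ 1 → x * x = 1 → 5 ∣ Nat.card ↥(Subgroup.centralizer ({x} : Set G)) →
      ∃ k, Nat.card ↥(Subgroup.centralizer ({x} : Set G)) = 20 * k ∧ k % 5 = 1)
    (x : G) (hx : orderOf x = 2) : Nat.card ↥(Subgroup.centralizer ({x} : Set G)) = 48 := by
  classical
  have h2 : Fact (Nat.Prime 2) := ⟨Nat.prime_two⟩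
  have h3 : Fact (Nat.Prime 3) := ⟨Nat.prime_three⟩
  have hsyl : ∀ S : Sylow 3 G, Nat.card ↥(S : Subgroup G) = 3 ^ 2 := fun S =>
    Cfsg.Agent.Helper9.OrdTools.sylow_card 2 880 (by rw [hG]; norm_num) (by norm_num) S
  have hR : Nat.card ↥(R : Subgroup G) = 9 := by rw [hsyl R]; norm_num
  -- a Sylow 2-subgroup `T` of the normaliser of `R`
  obtain ⟨K, hK⟩ := Sylow.exists_subgroup_card_pow_prime
    (G := ↥(Subgroup.normalizer ((R : Subgroup G) : Set G))) 2 (n := 4) (by rw [hN]; norm_num)
  obtain ⟨T, hTdef⟩ : ∃ T : Subgroup G, T = K.map (Subgroup.subtype _) := ⟨_, rfl⟩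
  have hTN : T ≤ Subgroup.normalizer ((R : Subgroup G) : Set G) := by
    rw [hTdef]; exact Subgroup.map_subtype_le _
  have hT : Nat.card ↥T = 16 := by
    rw [hTdef, Nat.card_congr
      (Subgroup.equivMapOfInjective K _ (Subgroup.subtype_injective _)).symm.toEquiv, hK]
    norm_num
  have hfaith : ∀ t ∈ T, (∀ r ∈ (R : Subgroup G), t * r = r * t) → t = 1 := by
    intro t ht hc
    have htC : t ∈ Subgroup.centralizer ((R : Subgroup G) : Set G) := by
      rw [Subgroup.mem_centralizer_iff]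
      intro r hr
      exact (hc r hr).symm
    have h1 : orderOf t ∣ 9 := by
      have := Subgroup.orderOf_dvd_natCard _ htC
      rwa [hC3 R] at this
    have h2' : orderOf t ∣ 16 := by
      have := Subgroup.orderOf_dvd_natCard _ ht
      rwa [hT] at this
    have h3' : orderOf t ∣ Nat.gcd 9 16 := Nat.dvd_gcd h1 h2'
    have h4 : orderOf t = 1 := by
      have : Nat.gcd 9 16 = 1 := by norm_num
      rw [this] at h3'
      exact Nat.dvd_one.mp h3'
    exact orderOf_eq_one_iff.mp h4
  obtain ⟨Q, hQT, hQ, hQnorm, hQuniq, u, huT, hu2, d, hdR, hd1, hud⟩ :=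
    Cfsg.Agent.Helper48.M11Sign.sd16_sign (R : Subgroup G) T hR hT hTN hfaith
  -- the involution of `Q`
  obtain ⟨z', hz'⟩ := exists_prime_orderOf_dvd_card' (G := ↥Q) 2 (by rw [hQ]; norm_num)
  obtain ⟨z, hzdef⟩ : ∃ z : G, z = (z' : G) := ⟨_, rfl⟩
  have hzQ : z ∈ Q := hzdef ▸ z'.2
  have hz2 : orderOf z = 2 := by rw [hzdef, Subgroup.orderOf_coe]; exact hz'
  have hz1 : z ≠ 1 := by
    intro h
    rw [h, orderOf_one] at hz2
    norm_num at hz2
  have hzz : z * z = 1 := by rw [← pow_two, ← hz2, pow_orderOf_eq_one]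
  -- every involution is conjugate to `z`
  have hconj : ∀ y : G, orderOf y = 2 → ∃ g : G, g * y * g⁻¹ = z := by
    intro y hy
    by_contra hcon
    push Not at hcon
    apply Cfsg.Agent.Helper88.o7920_parity hG Q hQ y hy
    intro g hg
    apply hcon g
    exact hQuniq _ hg _ hzQ (by rw [m11fin_orderOf_conj, hy]) hz2
  have hcard : ∀ y : G, orderOf y = 2 → Nat.card ↥(Subgroup.centralizer ({y} : Set G)) =
      Nat.card ↥(Subgroup.centralizer ({z} : Set G)) := by
    intro y hy
    obtain ⟨g, hg⟩ := hconj y hy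
    rw [← hg, Cfsg.Agent.Helper16.card_centralizer_conj]
  rw [hcard x hx]
  obtain ⟨c, hc⟩ : ∃ c, c = Nat.card ↥(Subgroup.centralizer ({z} : Set G)) := ⟨_, rfl⟩
  rw [← hc]
  have h16 : 16 ∣ c := by
    have hle : T ≤ Subgroup.centralizer ({z} : Set G) := by
      intro t ht
      rw [Subgroup.mem_centralizer_iff]
      intro w hw
      rw [Set.mem_singleton_iff] at hw
      rw [hw]
      have h1 : t * z * t⁻¹ = z :=
        hQuniq _ (hQnorm t ht z hzQ) _ hzQ (by rw [m11fin_orderOf_conj, hz2]) hz2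
      calc z * t = (t * z * t⁻¹) * t := by rw [h1]
        _ = t * z := by group
    have := Subgroup.card_dvd_of_le hle
    rwa [hT, ← hc] at this
  have h3c : 3 ∣ c := by
    rw [hc, ← hcard u hu2]
    have hdC : d ∈ Subgroup.centralizer ({u} : Set G) := by
      rw [Subgroup.mem_centralizer_iff]
      intro w hw
      rw [Set.mem_singleton_iff] at hw
      rw [hw]
      exact hud
    have h1 : orderOf d ∣ Nat.card ↥(Subgroup.centralizer ({u} : Set G)) :=
      Subgroup.orderOf_dvd_natCard _ hdC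
    have h2' : orderOf d ∣ 3 ^ 2 := by
      have := Subgroup.orderOf_dvd_natCard _ hdR
      rwa [hsyl R] at this
    obtain ⟨m, hm, hmeq⟩ := (Nat.dvd_prime_pow Nat.prime_three).mp h2'
    have hm0 : m ≠ 0 := by
      intro h
      rw [h, pow_zero, orderOf_eq_one_iff] at hmeq
      exact hd1 hmeq
    rw [hmeq] at h1
    exact (dvd_pow_self 3 hm0).trans h1
  have h9 : ¬ 9 ∣ c := by
    intro h9
    obtain ⟨H', hH'⟩ := Sylow.exists_subgroup_card_pow_prime
      (G := ↥(Subgroup.centralizer ({z} : Set G))) 3 (n := 2) (by rw [← hc]; norm_num; exact h9)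
    obtain ⟨H, hHdef⟩ : ∃ H : Subgroup G, H = H'.map (Subgroup.subtype _) := ⟨_, rfl⟩
    have hHC : H ≤ Subgroup.centralizer ({z} : Set G) := by
      rw [hHdef]; exact Subgroup.map_subtype_le _
    have hH : Nat.card ↥H = 3 ^ 2 := by
      rw [hHdef, Nat.card_congr
        (Subgroup.equivMapOfInjective H' _ (Subgroup.subtype_injective _)).symm.toEquiv, hH']
    have hHp : IsPGroup 3 ↥H := IsPGroup.of_card hH
    obtain ⟨S, hS⟩ := hHp.exists_le_sylow
    have hSH : H = (S : Subgroup G) :=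
      Subgroup.eq_of_le_of_card_ge hS (by rw [hH, hsyl S])
    have hzC : z ∈ Subgroup.centralizer ((S : Subgroup G) : Set G) := by
      rw [Subgroup.mem_centralizer_iff]
      intro r hr
      have hrH : r ∈ H := by rw [hSH]; exact hr
      exact (Subgroup.mem_centralizer_iff.mp (hHC hrH) z (Set.mem_singleton z)).symm
    have := Subgroup.orderOf_dvd_natCard _ hzC
    rw [hz2, hC3 S] at this
    norm_num at this
  have h11 : ¬ 11 ∣ c := by
    rw [hc]
    exact l11 z hz1 (by rw [hz2]; norm_num)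
  have hdvd : c ∣ 7920 := by
    rw [hc, ← hG]
    exact Subgroup.card_subgroup_dvd_card _
  have h48 : 48 ∣ c := Nat.Coprime.mul_dvd_of_dvd_of_dvd (by norm_num : Nat.Coprime 16 3) h16 h3c
  obtain ⟨n, rfl⟩ := h48
  have hn165 : n ∣ 165 := by
    have : 48 * n ∣ 48 * 165 := hdvd
    exact (Nat.mul_dvd_mul_iff_left (by norm_num)).mp this
  have hn3 : ¬ 3 ∣ n := by
    intro h
    apply h9
    obtain ⟨k, rfl⟩ := h
    exact ⟨16 * k, by ring⟩
  have hn11 : ¬ 11 ∣ n := by
    intro h
    apply h11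
    exact Dvd.dvd.mul_left h 48
  have hn55 : n ∣ 55 := by
    have hcop : Nat.Coprime n 3 :=
      (Nat.Coprime.symm ((Nat.Prime.coprime_iff_not_dvd Nat.prime_three).mpr hn3))
    exact hcop.dvd_of_dvd_mul_left (by norm_num at hn165 ⊢; exact hn165)
  have hn5 : n ∣ 5 := by
    have hcop : Nat.Coprime n 11 :=
      (Nat.Coprime.symm ((Nat.Prime.coprime_iff_not_dvd (by norm_num : Nat.Prime 11)).mpr hn11))
    exact hcop.dvd_of_dvd_mul_left (by norm_num at hn55 ⊢; exact hn55)
  rcases (Nat.dvd_prime Nat.prime_five).mp hn5 with h | h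
  · rw [h]
  · exfalso
    rw [h] at hc
    obtain ⟨k, hk, hk5⟩ := l5i z hz1 hzz (by rw [← hc]; norm_num)
    rw [← hc] at hk
    omega

end Cfsg.Agent.Helper48.M11Fin
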