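import Mathlib
import Cfsg.Agent.Helper52.O7920Defs
import Cfsg.Agent.Helper52.O7920Defs2

/-!
# CALL S0434 (helper52), piece C4c (`o7920_C_star2`)
-/

set_option autoImplicit false

namespace Cfsg.Agent.Helper48

open Cfsg.Agent.Helper52

variable {G : Type*} [Group G] [Finite G]

theorem t7920_arith1 (h : ℕ) (h24 : 24 ∣ h) (hdvd : h ∣ 7920) (h9 : ¬ 9 ∣ h) (h11 : ¬ 11 ∣ h) :
    h = 24 ∨ h = 48 ∨ h = 120 ∨ h = 240 := by
  obtain ⟨m, rfl⟩ := h24
  have hm : m ∣ 330 := by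
    have h1 : 24 * m ∣ 24 * 330 := by norm_num; exact hdvd
    exact (Nat.mul_dvd_mul_iff_left (by norm_num)).mp h1
  have hm3 : ¬ 3 ∣ m := fun ⟨k, hk⟩ => h9 ⟨8 * k, by rw [hk]; ring⟩
  have hm11 : ¬ 11 ∣ m := fun ⟨k, hk⟩ => h11 ⟨24 * k, by rw [hk]; ring⟩
  have hcop : Nat.Coprime m 33 := by
    have h1 : Nat.Coprime m 3 :=
      Nat.Coprime.symm ((Nat.Prime.coprime_iff_not_dvd Nat.prime_three).mpr hm3)
    have h2 : Nat.Coprime m 11 :=
      Nat.Coprime.symm ((Nat.Prime.coprime_iff_not_dvd (by norm_num : Nat.Prime 11)).mpr hm11)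
    exact Nat.Coprime.mul_right h1 h2
  have hm10 : m ∣ 10 := Nat.Coprime.dvd_of_dvd_mul_left hcop (by norm_num; exact hm : m ∣ 33 * 10)
  have hle : m ≤ 10 := Nat.le_of_dvd (by norm_num) hm10
  have hpos : 0 < m := Nat.pos_of_dvd_of_pos hm10 (by norm_num)
  interval_cases m <;> omega

theorem t7920_arith2 (n k h : ℕ) (hnk : n * k = h) (hn : n % 3 = 1)
    (hh : h = 24 ∨ h = 48 ∨ h = 120 ∨ h = 240) (hk24 : 24 ∣ k) (hk144 : k ∣ 144)
    (hex : ¬ (h = 240 ∧ k = 24)) : n = 1 := by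
  obtain ⟨m, rfl⟩ := hk24
  have hm : m ∣ 6 := by
    have h1 : 24 * m ∣ 24 * 6 := by norm_num; exact hk144
    exact (Nat.mul_dvd_mul_iff_left (by norm_num)).mp h1
  have hle : m ≤ 6 := Nat.le_of_dvd (by norm_num) hm
  have hpos : 0 < m := Nat.pos_of_dvd_of_pos hm (by norm_num)
  interval_cases m <;> rcases hh with rfl | rfl | rfl | rfl <;> omega

/-- PIECE C4c of CALL S0434. -/
theorem o7920_C_star2 {R : Sylow 3 G} {D : Subgroup G} {j : G} (c : O7920Conf2 G R D j)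
    (h72 : Nat.card ↥(Subgroup.centralizer (D : Set G)) = 72)
    (E : Subgroup G) (hE : E ≤ Subgroup.centralizer (D : Set G)) (hE8 : Nat.card ↥E = 8)
    (b : G) (hbD : b ∈ Subgroup.centralizer (D : Set G)) (hb1 : b ≠ 1) (hbb : b * b = 1)
    (hbE : ∀ x ∈ E, b * x = x * b)
    (h9 : ¬ 9 ∣ Nat.card ↥(Subgroup.centralizer ({b} : Set G)))
    (g : G) (hg : ∀ d ∈ D, (g * d * g⁻¹) * b = b * (g * d * g⁻¹)) :
    ∀ d ∈ D, g * d * g⁻¹ ∈ D := by
  classical
  have hyp := c.conf.hyp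
  have hD3 : Nat.card ↥D = 3 := c.conf.hD
  have hl5i := c.l5i b hb1 hbb
  have hl11 := c.l11 b hb1
  obtain ⟨H, hH⟩ : ∃ H : Subgroup G, H = Subgroup.centralizer ({b} : Set G) := ⟨_, rfl⟩
  rw [← hH] at h9 hl5i hl11
  have hmemH : ∀ x : G, x ∈ H ↔ b * x = x * b := by
    intro x
    rw [hH, Subgroup.mem_centralizer_iff]
    constructor
    · intro h; exact h b (Set.mem_singleton b)
    · intro h y hy
      rw [Set.mem_singleton_iff] at hy
      rw [hy]; exact h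
  have hDH : D ≤ H := fun d hd => (hmemH d).mpr ((Subgroup.mem_centralizer_iff.mp hbD d hd).symm)
  have hEH : E ≤ H := fun x hx => (hmemH x).mpr (hbE x hx)
  have h24 : 24 ∣ Nat.card ↥H := by
    have h3 : 3 ∣ Nat.card ↥H := hD3 ▸ Subgroup.card_dvd_of_le hDH
    have h8 : 8 ∣ Nat.card ↥H := hE8 ▸ Subgroup.card_dvd_of_le hEH
    exact Nat.Coprime.mul_dvd_of_dvd_of_dvd (by norm_num : Nat.Coprime 3 8) h3 h8
  have hdvd : Nat.card ↥H ∣ 7920 := hyp.card ▸ Subgroup.card_subgroup_dvd_card H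
  have h11 : ¬ 11 ∣ Nat.card ↥H := by
    apply hl11
    intro h
    have h2 : orderOf b ∣ 2 := orderOf_dvd_of_pow_eq_one (by rw [pow_two]; exact hbb)
    rw [h] at h2
    omega
  have hHcases := t7920_arith1 _ h24 hdvd h9 h11
  -- the subgroup `K`
  obtain ⟨K, hK⟩ : ∃ K : Subgroup G, K = Subgroup.normalizer (D : Set G) ⊓ H := ⟨_, rfl⟩
  have hDK : D ≤ K := by rw [hK]; exact le_inf Subgroup.le_normalizer hDH
  have hEK : E ≤ K := by
    rw [hK]; exact le_inf (hE.trans (Subgroup.centralizer_le_normalizer _)) hEH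
  have hK24 : 24 ∣ Nat.card ↥K := by
    have h3 : 3 ∣ Nat.card ↥K := hD3 ▸ Subgroup.card_dvd_of_le hDK
    have h8 : 8 ∣ Nat.card ↥K := hE8 ▸ Subgroup.card_dvd_of_le hEK
    exact Nat.Coprime.mul_dvd_of_dvd_of_dvd (by norm_num : Nat.Coprime 3 8) h3 h8
  have hKH : K ≤ H := by rw [hK]; exact inf_le_right
  have hK144 : Nat.card ↥K ∣ 144 := by
    have h1 : Nat.card ↥K ∣ Nat.card ↥(Subgroup.normalizer (D : Set G)) :=
      Subgroup.card_dvd_of_le (by rw [hK]; exact inf_le_left)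
    rw [c.conf.nD, h72] at h1
    exact h1
  -- the Sylow 3-subgroup `D` of `H`
  have : Fact (Nat.Prime 3) := ⟨Nat.prime_three⟩
  have hDcard : Nat.card ↥(D.subgroupOf H) = 3 := by
    rw [Nat.card_congr (Subgroup.subgroupOfEquivOfLe hDH).toEquiv, hD3]
  have hD3g : IsPGroup 3 ↥(D.subgroupOf H) := IsPGroup.of_card (n := 1) (by rw [hDcard]; norm_num)
  obtain ⟨P, hP⟩ := hD3g.exists_le_sylow
  have hfac : (Nat.card ↥H).factorization 3 = 1 := by
    have hne : Nat.card ↥H ≠ 0 := Nat.card_pos.ne'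
    have h1 : 1 ≤ (Nat.card ↥H).factorization 3 :=
      (Nat.Prime.pow_dvd_iff_le_factorization Nat.prime_three hne).mp
        (by rw [pow_one]; exact (by norm_num : (3 : ℕ) ∣ 24).trans h24)
    have h2 : ¬ 2 ≤ (Nat.card ↥H).factorization 3 := by
      intro h
      exact h9 (by
        have := (Nat.Prime.pow_dvd_iff_le_factorization Nat.prime_three hne).mpr h
        norm_num at this
        exact this)
    omega
  have hPcard : Nat.card ↥(P : Subgroup ↥H) = 3 := by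
    rw [Sylow.card_eq_multiplicity, hfac]; norm_num
  have hPeq : (P : Subgroup ↥H) = D.subgroupOf H :=
    (Subgroup.eq_of_le_of_card_ge hP (by rw [hPcard, hDcard])).symm
  have hnorm : Nat.card ↥(Subgroup.normalizer ((P : Subgroup ↥H) : Set ↥H)) = Nat.card ↥K := by
    rw [hPeq, ← Subgroup.subgroupOf_normalizer_eq hDH, ← Subgroup.inf_subgroupOf_right, ← hK]
    exact Nat.card_congr (Subgroup.subgroupOfEquivOfLe hKH).toEquiv
  have hn3 : Nat.card (Sylow 3 ↥H) * Nat.card ↥K = Nat.card ↥H := by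
    rw [Sylow.card_eq_index_normalizer P, ← hnorm, mul_comm]
    exact Subgroup.card_mul_index _
  have hmod : Nat.card (Sylow 3 ↥H) % 3 = 1 := card_sylow_modEq_one 3 ↥H
  have hex : ¬ (Nat.card ↥H = 240 ∧ Nat.card ↥K = 24) := by
    rintro ⟨h1, -⟩
    obtain ⟨k, hk1, hk2⟩ := hl5i (by rw [h1]; norm_num)
    rw [h1] at hk1
    omega
  have hone : Nat.card (Sylow 3 ↥H) = 1 :=
    t7920_arith2 _ _ _ hn3 hmod hHcases hK24 hK144 hex
  have hsub : Subsingleton (Sylow 3 ↥H) := (Nat.card_eq_one_iff_unique.mp hone).1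
  intro d hd
  have hyH : g * d * g⁻¹ ∈ H := (hmemH _).mpr (hg d hd).symm
  have hd3 : d ^ 3 = 1 := by
    have h1 : (⟨d, hd⟩ : ↥D) ^ Nat.card ↥D = 1 := pow_card_eq_one'
    rw [hD3] at h1
    have h2 := congrArg Subtype.val h1
    simpa using h2
  have hy3 : (⟨g * d * g⁻¹, hyH⟩ : ↥H) ^ 3 = 1 := by
    apply Subtype.ext
    have h1 : (g * d * g⁻¹) ^ 3 = g * d ^ 3 * g⁻¹ := by
      rw [pow_succ, pow_succ, pow_one, pow_succ, pow_succ, pow_one]; group
    rw [Subgroup.coe_pow, Subgroup.coe_one]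
    show (g * d * g⁻¹) ^ 3 = 1
    rw [h1, hd3]; group
  have hzp : IsPGroup 3 ↥(Subgroup.zpowers (⟨g * d * g⁻¹, hyH⟩ : ↥H)) := by
    rintro ⟨w, hw⟩
    obtain ⟨k, hk⟩ := Subgroup.mem_zpowers_iff.mp hw
    refine ⟨1, Subtype.ext ?_⟩
    rw [Subgroup.coe_pow, Subgroup.coe_one, pow_one]
    show w ^ 3 = 1
    rw [← hk, ← zpow_natCast, ← zpow_mul, mul_comm, zpow_mul, zpow_natCast, hy3, one_zpow]
  obtain ⟨Q, hQ⟩ := hzp.exists_le_sylow
  have hQP : Q = P := Subsingleton.elim _ _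
  have hmem : (⟨g * d * g⁻¹, hyH⟩ : ↥H) ∈ (P : Subgroup ↥H) := by
    rw [← hQP]; exact hQ (Subgroup.mem_zpowers _)
  rw [hPeq, Subgroup.mem_subgroupOf] at hmem
  exact hmem

end Cfsg.Agent.Helper48
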