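import Mathlib
import Cfsg.Agent.Helper9.OrdTools

/-!
# CALL S0434 (helper52), piece C5b (`o7920_C_count`)
-/

set_option autoImplicit false

namespace Cfsg.Agent.Helper48

variable {G : Type*} [Group G] [Finite G]

/-- If all point stabilisers of a finite group action have index `n`, then `n` divides the number
of points. -/
theorem t7920_dvd_card_of_stab {H X : Type*} [Group H] [Finite H] [MulAction H X] [Finite X]
    (n : ℕ) (h : ∀ x : X, (MulAction.stabilizer H x).index = n) : n ∣ Nat.card X := by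
  classical
  have e := MulAction.selfEquivSigmaOrbitsQuotientStabilizer H X
  rw [Nat.card_congr e]
  have : Fintype (Quotient (MulAction.orbitRel H X)) := Fintype.ofFinite _
  rw [Nat.card_sigma]
  apply Finset.dvd_sum
  intro ω _
  have h1 := h ω.out
  rw [Subgroup.index] at h1
  rw [h1]

/-- A subgroup `E` of order 8 acting by conjugation on a finite set `Y` of elements, all of whose
centralisers in `E` are `{1, z}`: then `4 ∣ |Y|`. -/
theorem t7920_conj_orbit_count (E : Subgroup G) (Y : Set G)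
    (hY : ∀ b ∈ E, ∀ y ∈ Y, b * y * b⁻¹ ∈ Y) (z : G) (hzE : z ∈ E) (hz1 : z ≠ 1)
    (hE8 : Nat.card ↥E = 8)
    (hstab : ∀ y ∈ Y, ∀ b ∈ E, b * y = y * b ↔ (b = 1 ∨ b = z)) : 4 ∣ Nat.card ↥Y := by
  classical
  let _ : MulAction ↥E ↥Y :=
    { smul := fun b y => ⟨(b : G) * y * (b : G)⁻¹, hY b b.2 y y.2⟩
      one_smul := fun y => Subtype.ext (by
        show ((1 : ↥E) : G) * y * ((1 : ↥E) : G)⁻¹ = y
        simp)
      mul_smul := fun a b y => Subtype.ext (by
        show ((a * b : ↥E) : G) * y * ((a * b : ↥E) : G)⁻¹ =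
          (a : G) * ((b : G) * y * (b : G)⁻¹) * (a : G)⁻¹
        rw [Subgroup.coe_mul]; group) }
  have hsmul : ∀ (b : ↥E) (y : ↥Y), ((b • y : ↥Y) : G) = (b : G) * y * (b : G)⁻¹ :=
    fun b y => rfl
  apply t7920_dvd_card_of_stab (H := ↥E) (X := ↥Y) 4
  intro y
  have hmem : ∀ b : ↥E, b ∈ MulAction.stabilizer ↥E y ↔ (b = 1 ∨ b = ⟨z, hzE⟩) := by
    intro b
    rw [MulAction.mem_stabilizer_iff]
    constructor
    · intro hb
      have h1 : (b : G) * y * (b : G)⁻¹ = y := by rw [← hsmul, hb]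
      have h2 : (b : G) * y = y * b := by
        calc (b : G) * y = ((b : G) * y * (b : G)⁻¹) * b := by group
          _ = y * b := by rw [h1]
      rcases (hstab y y.2 b b.2).mp h2 with h3 | h3
      · left; exact Subtype.ext h3
      · right; exact Subtype.ext h3
    · intro hb
      have h2 : (b : G) * y = y * b := by
        apply (hstab y y.2 b b.2).mpr
        rcases hb with h3 | h3
        · left; rw [h3]; rfl
        · right; rw [h3]
      apply Subtype.ext
      rw [hsmul, h2]; group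
  have hcard : Nat.card ↥(MulAction.stabilizer ↥E y) = 2 := by
    rw [Nat.card_eq_two_iff]
    refine ⟨⟨1, (hmem 1).mpr (Or.inl rfl)⟩, ⟨⟨z, hzE⟩, (hmem _).mpr (Or.inr rfl)⟩, ?_, ?_⟩
    · intro h
      have h1 : (1 : ↥E) = ⟨z, hzE⟩ := congrArg Subtype.val h
      exact hz1 (congrArg Subtype.val h1).symm
    · ext b
      simp only [Set.mem_insert_iff, Set.mem_singleton_iff, Set.mem_univ, iff_true]
      rcases (hmem b.1).mp b.2 with h | h
      · left; exact Subtype.ext h
      · right; exact Subtype.ext h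
  have hmul := (MulAction.stabilizer ↥E y).card_mul_index
  rw [hcard, hE8] at hmul
  omega

/-- PIECE C5b of CALL S0434. -/
theorem o7920_C_count (hG : Nat.card G = 7920) (D E : Subgroup G)
    (hE : E ≤ Subgroup.centralizer (D : Set G)) (hE8 : Nat.card ↥E = 8)
    (z : G) (hz : orderOf z = 2) (hzE : z ∈ E)
    (hzu : ∀ g : G, g * z * g⁻¹ ∈ Subgroup.centralizer (D : Set G) → g * z * g⁻¹ = z)
    (hcent : ∀ g : G, g * z * g⁻¹ ≠ z → z * (g * z * g⁻¹) = (g * z * g⁻¹) * z →
      ∀ b ∈ E, b * (g * z * g⁻¹) = (g * z * g⁻¹) * b → b = 1 ∨ b = z)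
    (hpar : ∀ T : Subgroup G, Nat.card ↥T = 16 →
      Nat.card {y : G // IsConj z y ∧ y ∈ T} % 4 = 3) : False := by
  classical
  have hz1 : z ≠ 1 := by
    rintro rfl
    rw [orderOf_one] at hz
    omega
  have : Fact (Nat.Prime 2) := ⟨Nat.prime_two⟩
  have hE2 : IsPGroup 2 ↥E := IsPGroup.of_card (n := 3) (by rw [hE8]; norm_num)
  obtain ⟨P, hEP⟩ := hE2.exists_le_sylow
  have hP16 : Nat.card ↥(P : Subgroup G) = 16 := by
    have h1 := Cfsg.Agent.Helper9.OrdTools.sylow_card (p := 2) 4 495 (by rw [hG]; norm_num) (by norm_num) P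
    rw [h1]; norm_num
  obtain ⟨T, hT⟩ : ∃ T : Subgroup G, T = (P : Subgroup G) := ⟨_, rfl⟩
  rw [← hT] at hEP hP16
  have hTN : T ≤ Subgroup.normalizer (E : Set G) :=
    Cfsg.Agent.Helper9.OrdTools.le_normalizer_of_card_two_mul hEP (by rw [hP16, hE8])
  -- `T` centralises `z`
  have hTz : ∀ t ∈ T, t * z = z * t := by
    intro t ht
    have h1 : t * z * t⁻¹ ∈ E := (Subgroup.mem_normalizer_iff.mp (hTN ht) z).mp hzE
    have h2 := hzu t (hE h1)
    calc t * z = (t * z * t⁻¹) * t := by group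
      _ = z * t := by rw [h2]
  have hzT : z ∈ T := hEP hzE
  obtain ⟨Y, hYdef⟩ : ∃ Y : Set G, Y = {y | IsConj z y ∧ y ∈ T ∧ y ≠ z} := ⟨_, rfl⟩
  have hYconj : ∀ b ∈ E, ∀ y ∈ Y, b * y * b⁻¹ ∈ Y := by
    intro b hb y hy
    rw [hYdef] at hy ⊢
    obtain ⟨hy1, hy2, hy3⟩ := hy
    refine ⟨?_, T.mul_mem (T.mul_mem (hEP hb) hy2) (T.inv_mem (hEP hb)), ?_⟩
    · exact hy1.trans (isConj_iff.mpr ⟨b, rfl⟩)
    · intro h
      apply hy3
      have h1 : b * z = z * b := hTz b (hEP hb)
      calc y = b⁻¹ * (b * y * b⁻¹) * b := by group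
        _ = b⁻¹ * z * b := by rw [h]
        _ = b⁻¹ * (z * b) := by group
        _ = b⁻¹ * (b * z) := by rw [h1]
        _ = z := by group
  have hstab : ∀ y ∈ Y, ∀ b ∈ E, b * y = y * b ↔ (b = 1 ∨ b = z) := by
    intro y hy b hb
    rw [hYdef] at hy
    obtain ⟨hy1, hy2, hy3⟩ := hy
    obtain ⟨g, hg⟩ := isConj_iff.mp hy1
    have hzy : z * y = y * z := (hTz y hy2).symm
    constructor
    · intro hby
      rw [← hg] at hy3 hzy hby
      exact hcent g hy3 hzy b hb hby
    · rintro (rfl | rfl)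
      · simp
      · exact hzy
  have h4 : 4 ∣ Nat.card ↥Y := t7920_conj_orbit_count E Y hYconj z hzE hz1 hE8 hstab
  have hW : Nat.card {y : G // IsConj z y ∧ y ∈ T} = Nat.card ↥Y + 1 := by
    have h1 : {y : G | IsConj z y ∧ y ∈ T} = insert z Y := by
      ext y
      rw [hYdef]
      simp only [Set.mem_ofPred_eq, Set.mem_insert_iff]
      constructor
      · rintro ⟨h1, h2⟩
        by_cases hyz : y = z
        · left; exact hyz
        · right; exact ⟨h1, h2, hyz⟩
      · rintro (rfl | ⟨h1, h2, -⟩)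
        · exact ⟨IsConj.refl _, hzT⟩
        · exact ⟨h1, h2⟩
    have h2 : z ∉ Y := by
      rw [hYdef]
      intro h
      exact h.2.2 rfl
    have h3 : Nat.card {y : G // IsConj z y ∧ y ∈ T} =
        Set.ncard {y : G | IsConj z y ∧ y ∈ T} := Nat.card_coe_set_eq _
    rw [h3, h1, Set.ncard_insert_of_notMem h2 (Set.toFinite Y), Nat.card_coe_set_eq]
  have h5 := hpar T hP16
  rw [hW] at h5
  omega

end Cfsg.Agent.Helper48
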