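import Mathlib
import Cfsg.Agent.Helper52.O7920Defs
import Cfsg.Agent.Helper52.O7920Defs2

/-!
# CALL S0434 (helper52), piece CSQ (`o7920_C_square`)
-/

set_option autoImplicit false

namespace Cfsg.Agent.Helper48

open Cfsg.Agent.Helper52

variable {G : Type*} [Group G] [Finite G]

/-- A subgroup `R` of order 9 acting by conjugation on a set `S` with exactly the two fixed points
`1`, `z`: then `|S| ≡ 2 (mod 3)`. -/
theorem t7920_card_mod3 (R : Subgroup G) (hR9 : Nat.card ↥R = 9) (S : Set G)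
    (hconj : ∀ r ∈ R, ∀ x ∈ S, r * x * r⁻¹ ∈ S)
    (z : G) (hz1 : z ≠ 1) (h1S : (1 : G) ∈ S) (hzS : z ∈ S)
    (hfix : ∀ x ∈ S, (∀ r ∈ R, r * x * r⁻¹ = x) ↔ (x = 1 ∨ x = z)) :
    Nat.card ↥S % 3 = 2 := by
  classical
  let _ : MulAction ↥R ↥S :=
    { smul := fun r x => ⟨(r : G) * x * (r : G)⁻¹, hconj r r.2 x x.2⟩
      one_smul := fun y => Subtype.ext (by
        show ((1 : ↥R) : G) * y * ((1 : ↥R) : G)⁻¹ = y
        simp)
      mul_smul := fun a b y => Subtype.ext (by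
        show ((a * b : ↥R) : G) * y * ((a * b : ↥R) : G)⁻¹ =
          (a : G) * ((b : G) * y * (b : G)⁻¹) * (a : G)⁻¹
        rw [Subgroup.coe_mul]; group) }
  have hsmul : ∀ (r : ↥R) (x : ↥S), ((r • x : ↥S) : G) = (r : G) * x * (r : G)⁻¹ :=
    fun _ _ => rfl
  have : Fact (Nat.Prime 3) := ⟨Nat.prime_three⟩
  have hp : IsPGroup 3 ↥R := IsPGroup.of_card (n := 2) (by rw [hR9]; norm_num)
  have h := hp.card_modEq_card_fixedPoints ↥S
  have hmem : ∀ x : ↥S, x ∈ MulAction.fixedPoints ↥R ↥S ↔ ((x : G) = 1 ∨ (x : G) = z) := by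
    intro x
    rw [MulAction.mem_fixedPoints, ← hfix x x.2]
    constructor
    · intro hx r hr
      have h1 := congrArg Subtype.val (hx ⟨r, hr⟩)
      rw [hsmul] at h1
      exact h1
    · intro hx r
      exact Subtype.ext (by rw [hsmul]; exact hx r r.2)
  have hfp : Nat.card ↥(MulAction.fixedPoints ↥R ↥S) = 2 := by
    rw [Nat.card_eq_two_iff]
    refine ⟨⟨⟨1, h1S⟩, (hmem _).mpr (Or.inl rfl)⟩, ⟨⟨z, hzS⟩, (hmem _).mpr (Or.inr rfl)⟩, ?_, ?_⟩
    · intro h0
      have h1 : (1 : G) = z :=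
        congrArg (fun w : ↥(MulAction.fixedPoints ↥R ↥S) => ((w : ↥S) : G)) h0
      exact hz1 h1.symm
    · ext w
      simp only [Set.mem_insert_iff, Set.mem_singleton_iff, Set.mem_univ, iff_true]
      rcases (hmem w.1).mp w.2 with h0 | h0
      · left; exact Subtype.ext (Subtype.ext h0)
      · right; exact Subtype.ext (Subtype.ext h0)
  rw [hfp] at h
  exact h

/-- For an inverse-closed finite set `S` of group elements, `|S|` and the number of its elements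
of square one have the same parity. -/
theorem t7920_card_mod2 (S : Set G) (hinv : ∀ x ∈ S, x⁻¹ ∈ S) :
    Nat.card ↥S % 2 = Nat.card ↥({x | x ∈ S ∧ x * x = 1} : Set G) % 2 := by
  classical
  have : Fintype ↥S := Fintype.ofFinite _
  obtain ⟨f, hf⟩ : ∃ f : Function.End ↥S, ∀ x : ↥S, ((f x : ↥S) : G) = (x : G)⁻¹ :=
    ⟨fun x => ⟨(x : G)⁻¹, hinv x x.2⟩, fun _ => rfl⟩
  have hf2 : f ^ 2 ^ 1 = 1 := by
    rw [pow_one, pow_two]
    funext x
    apply Subtype.ext
    show ((f (f x) : ↥S) : G) = x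
    rw [hf, hf, inv_inv]
  have : Fact (Nat.Prime 2) := ⟨Nat.prime_two⟩
  have h := Equiv.Perm.card_fixedPoints_modEq (p := 2) (n := 1) hf2
  have e : ↥(Function.fixedPoints f) ≃ ↥({x | x ∈ S ∧ x * x = 1} : Set G) :=
    { toFun := fun w => ⟨((w : ↥S) : G), ⟨(w : ↥S).2, by
        have h1 : f (w : ↥S) = (w : ↥S) := w.2
        have h2 : ((w : ↥S) : G)⁻¹ = ((w : ↥S) : G) := by rw [← hf, h1]
        exact mul_eq_one_iff_eq_inv.mpr h2.symm⟩⟩
      invFun := fun y => ⟨⟨(y : G), y.2.1⟩, by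
        show f ⟨(y : G), y.2.1⟩ = ⟨(y : G), y.2.1⟩
        apply Subtype.ext
        rw [hf]
        exact (mul_eq_one_iff_eq_inv.mp y.2.2).symm⟩
      left_inv := fun w => rfl
      right_inv := fun y => rfl }
  rw [Fintype.card_eq_nat_card, Fintype.card_eq_nat_card, Nat.card_congr e] at h
  exact h

/-- PIECE CSQ of CALL S0434. -/
theorem o7920_C_square {R : Sylow 3 G} {D : Subgroup G} {j : G} (c : O7920Conf2 G R D j)
    (E : Subgroup G) (hE : E ≤ Subgroup.centralizer (D : Set G)) (hE8 : Nat.card ↥E = 8)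
    (hEn : ∀ g ∈ Subgroup.normalizer (D : Set G), ∀ x ∈ E, g * x * g⁻¹ ∈ E)
    (z : G) (hz : orderOf z = 2) (hzE : z ∈ E)
    (hzR : z ∈ Subgroup.centralizer ((R : Subgroup G) : Set G))
    (hu : ∀ x ∈ Subgroup.centralizer ((R : Subgroup G) : Set G), x ^ 16 = 1 → x = 1 ∨ x = z)
    (hzc : ∀ x ∈ E, z * x = x * z)
    (b : G) (hb : b ∈ E) (hb1 : b ≠ 1) (hbz : b ≠ z) :
    (b * b = 1 ∧ ∀ x ∈ E, b * x = x * b) ∨ b * b = z := by
  classical
  have hz1 : z ≠ 1 := by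
    rintro rfl
    rw [orderOf_one] at hz
    omega
  have hzz : z * z = 1 := by
    have h1 := pow_orderOf_eq_one z
    rw [hz, pow_two] at h1
    exact h1
  have hR9 : Nat.card ↥(R : Subgroup G) = 9 := (c.syl3 R).1
  have hRab := (c.syl3 R).2
  have hRN : ∀ r ∈ (R : Subgroup G), r ∈ Subgroup.normalizer (D : Set G) := by
    intro r hr
    apply Subgroup.centralizer_le_normalizer
    rw [Subgroup.mem_centralizer_iff]
    intro d hd
    exact hRab d (c.conf.hDR hd) r hr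
  have hE8pow : ∀ x ∈ E, x ^ 8 = 1 := by
    intro x hx
    have h1 : (⟨x, hx⟩ : ↥E) ^ Nat.card ↥E = 1 := pow_card_eq_one'
    rw [hE8] at h1
    have h2 := congrArg Subtype.val h1
    simpa using h2
  -- fixed points of `R` on `E`
  have hfixE : ∀ x ∈ E, (∀ r ∈ (R : Subgroup G), r * x * r⁻¹ = x) ↔ (x = 1 ∨ x = z) := by
    intro x hx
    constructor
    · intro h
      apply hu x
      · rw [Subgroup.mem_centralizer_iff]
        intro r hr
        have h1 := h r hr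
        calc r * x = (r * x * r⁻¹) * r := by group
          _ = x * r := by rw [h1]
      · have h1 := hE8pow x hx
        have h2 : x ^ 16 = (x ^ 8) ^ 2 := by rw [← pow_mul]
        rw [h2, h1, one_pow]
    · rintro (rfl | rfl) r hr
      · group
      · have h1 := (Subgroup.mem_centralizer_iff.mp hzR) r hr
        rw [h1]; group
  obtain ⟨S2, hS2⟩ : ∃ S2 : Set G, S2 = {x | x ∈ (E : Set G) ∧ x * x = 1} := ⟨_, rfl⟩
  obtain ⟨S4, hS4⟩ : ∃ S4 : Set G, S4 = {x | x ∈ E ∧ x ^ 4 = 1} := ⟨_, rfl⟩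
  have hmemS2 : ∀ x, x ∈ S2 ↔ (x ∈ E ∧ x * x = 1) := by
    intro x; rw [hS2]; exact Iff.rfl
  have hmemS4 : ∀ x, x ∈ S4 ↔ (x ∈ E ∧ x ^ 4 = 1) := by
    intro x; rw [hS4]; exact Iff.rfl
  have hS2E : S2 ⊆ (E : Set G) := fun x hx => ((hmemS2 x).mp hx).1
  have hS4E : S4 ⊆ (E : Set G) := fun x hx => ((hmemS4 x).mp hx).1
  have hcardE : Nat.card ↥(E : Set G) = 8 := hE8
  -- mod 3
  have hS2mod3 : Nat.card ↥S2 % 3 = 2 := by
    apply t7920_card_mod3 (R : Subgroup G) hR9 S2 _ z hz1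
      ((hmemS2 1).mpr ⟨E.one_mem, by group⟩) ((hmemS2 z).mpr ⟨hzE, hzz⟩)
      (fun x hx => hfixE x ((hmemS2 x).mp hx).1)
    intro r hr x hx
    obtain ⟨hxE, hxx⟩ := (hmemS2 x).mp hx
    refine (hmemS2 _).mpr ⟨hEn r (hRN r hr) x hxE, ?_⟩
    calc r * x * r⁻¹ * (r * x * r⁻¹) = r * (x * x) * r⁻¹ := by group
      _ = 1 := by rw [hxx]; group
  have hS4mod3 : Nat.card ↥S4 % 3 = 2 := by
    apply t7920_card_mod3 (R : Subgroup G) hR9 S4 _ z hz1
      ((hmemS4 1).mpr ⟨E.one_mem, one_pow 4⟩)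
      ((hmemS4 z).mpr ⟨hzE, by
        rw [show (4 : ℕ) = 2 * 2 from rfl, pow_mul, pow_two z, hzz, one_pow]⟩)
      (fun x hx => hfixE x ((hmemS4 x).mp hx).1)
    intro r hr x hx
    obtain ⟨hxE, hxx⟩ := (hmemS4 x).mp hx
    refine (hmemS4 _).mpr ⟨hEn r (hRN r hr) x hxE, ?_⟩
    rw [conj_pow, hxx]; group
  -- mod 2
  have hS2mod2 : Nat.card ↥S2 % 2 = 0 := by
    have h1 := t7920_card_mod2 (E : Set G) (fun x hx => E.inv_mem hx)
    rw [hcardE, ← hS2] at h1
    omega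
  have hS4mod2 : Nat.card ↥S4 % 2 = 0 := by
    have h1 := t7920_card_mod2 S4 (fun x hx => by
      obtain ⟨hxE, hxx⟩ := (hmemS4 x).mp hx
      exact (hmemS4 _).mpr ⟨E.inv_mem hxE, by rw [inv_pow, hxx, inv_one]⟩)
    have h2 : ({x | x ∈ S4 ∧ x * x = 1} : Set G) = S2 := by
      ext x
      rw [hmemS2]
      constructor
      · rintro ⟨h3, h4⟩
        exact ⟨((hmemS4 x).mp h3).1, h4⟩
      · rintro ⟨h3, h4⟩
        refine ⟨(hmemS4 x).mpr ⟨h3, ?_⟩, h4⟩
        rw [show (4 : ℕ) = 2 * 2 from rfl, pow_mul, pow_two x, h4, one_pow]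
    rw [h2] at h1
    omega
  have hS2le : Nat.card ↥S2 ≤ 8 := hcardE ▸ Nat.card_mono (Set.toFinite _) hS2E
  have hS4le : Nat.card ↥S4 ≤ 8 := hcardE ▸ Nat.card_mono (Set.toFinite _) hS4E
  have hS2cases : Nat.card ↥S2 = 2 ∨ Nat.card ↥S2 = 8 := by omega
  have hS4cases : Nat.card ↥S4 = 2 ∨ Nat.card ↥S4 = 8 := by omega
  -- a set of card 2 containing 1 and z is {1, z}
  have hpair : ∀ S : Set G, (1 : G) ∈ S → z ∈ S → Nat.card ↥S = 2 → ∀ x ∈ S, x = 1 ∨ x = z := by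
    intro S h1S hzS hc x hx
    have hsub : ({1, z} : Set G) ⊆ S := by
      intro y hy
      rcases hy with rfl | rfl
      · exact h1S
      · exact hzS
    have hn : S.ncard ≤ ({1, z} : Set G).ncard := by
      rw [Set.ncard_pair (Ne.symm hz1), ← Nat.card_coe_set_eq, hc]
    have heq := Set.eq_of_subset_of_ncard_le hsub hn (Set.toFinite S)
    rw [← heq] at hx
    rcases hx with rfl | rfl
    · left; rfl
    · right; rfl
  -- a subset of E of card 8 is E
  have hfull : ∀ S : Set G, S ⊆ (E : Set G) → Nat.card ↥S = 8 → ∀ x ∈ E, x ∈ S := by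
    intro S hSE hc x hx
    have hn : (E : Set G).ncard ≤ S.ncard := by
      rw [← Nat.card_coe_set_eq, ← Nat.card_coe_set_eq, hc, hcardE]
    have heq := Set.eq_of_subset_of_ncard_le hSE hn (Set.toFinite _)
    rw [heq]; exact hx
  have h1S2 : (1 : G) ∈ S2 := (hmemS2 1).mpr ⟨E.one_mem, by group⟩
  have hzS2 : z ∈ S2 := (hmemS2 z).mpr ⟨hzE, hzz⟩
  have h1S4 : (1 : G) ∈ S4 := (hmemS4 1).mpr ⟨E.one_mem, one_pow 4⟩
  have hzS4 : z ∈ S4 := (hmemS4 z).mpr ⟨hzE, by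
    rw [show (4 : ℕ) = 2 * 2 from rfl, pow_mul, pow_two z, hzz, one_pow]⟩
  rcases hS2cases with h2 | h8
  · -- S2 = {1, z}
    right
    have hbb1 : b * b ≠ 1 := by
      intro h
      rcases hpair S2 h1S2 hzS2 h2 b ((hmemS2 b).mpr ⟨hb, h⟩) with h3 | h3
      · exact hb1 h3
      · exact hbz h3
    have hbbE : b * b ∈ E := E.mul_mem hb hb
    rcases hS4cases with h42 | h48
    · have h3 : b * b ∈ S4 := by
        refine (hmemS4 _).mpr ⟨hbbE, ?_⟩
        have h4 : (b * b) ^ 4 = b ^ 8 := by rw [← pow_two, ← pow_mul]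
        rw [h4, hE8pow b hb]
      rcases hpair S4 h1S4 hzS4 h42 _ h3 with h4 | h4
      · exact absurd h4 hbb1
      · exact h4
    · have h3 : b ∈ S4 := hfull S4 hS4E h48 b hb
      have h4 : b ^ 4 = 1 := ((hmemS4 b).mp h3).2
      have h5 : (b * b) * (b * b) = 1 := by
        have h6 : (b * b) * (b * b) = b ^ 4 := by
          rw [show (4 : ℕ) = 2 * 2 from rfl, pow_mul, pow_two, pow_two]
        rw [h6, h4]
      rcases hpair S2 h1S2 hzS2 h2 _ ((hmemS2 _).mpr ⟨hbbE, h5⟩) with h6 | h6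
      · exact absurd h6 hbb1
      · exact h6
  · -- all elements of E have square one
    left
    have hsq : ∀ x ∈ E, x * x = 1 := fun x hx => ((hmemS2 x).mp (hfull S2 hS2E h8 x hx)).2
    refine ⟨hsq b hb, fun x hx => ?_⟩
    have hbb := hsq b hb
    have hxx := hsq x hx
    have h1 := hsq (b * x) (E.mul_mem hb hx)
    symm
    calc x * b = x * b * (b * x * (b * x)) := by rw [h1, mul_one]
      _ = x * (b * b) * x * (b * x) := by group
      _ = (x * x) * (b * x) := by rw [hbb]; group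
      _ = b * x := by rw [hxx, one_mul]

end Cfsg.Agent.Helper48
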