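import Mathlib
import Cfsg.Agent.Helper9.OrdTools
import Cfsg.Agent.Helper31.T7920L11
import Cfsg.Agent.Helper52.T7920Main

/-!
# Centraliser lemmas in a simple group of order 7920, without the hypothesis on Sylow 3

`M11Base G`: `G` has order 7920, self-centralising Sylow 11-subgroups, Sylow 5-normalisers of
order 20 and Sylow 5-centralisers of order dividing 10.  The three lemmas are the pieces
L11, L5, L5i of CALL S0434 (helper31), restated for `M11Base` (their proofs never used the
hypothesis on the Sylow 3-normalisers).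
-/

set_option autoImplicit false

namespace Cfsg.Agent.Helper48.M11L

open Cfsg.Agent.Helper31 Cfsg.Agent.Helper9.OrdTools

/-- the facts about the primes 11 and 5 in a simple group of order 7920 -/
structure M11Base (G : Type*) [Group G] : Prop where
  card : Nat.card G = 7920
  c11 : ∀ P : Sylow 11 G, Nat.card ↥(Subgroup.centralizer ((P : Subgroup G) : Set G)) = 11
  n5 : ∀ Q : Sylow 5 G, Nat.card ↥(Subgroup.normalizer ((Q : Subgroup G) : Set G)) = 20
  c5 : ∀ Q : Sylow 5 G, Nat.card ↥(Subgroup.centralizer ((Q : Subgroup G) : Set G)) ∣ 10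

variable {G : Type*} [Group G] [Finite G]

/-- copy of piece L11 of CALL S0434 for `M11Base` -/
theorem m11_cent_not11 (h : M11Base G) (x : G) (hx : x ≠ 1) (hx11 : orderOf x ≠ 11) :
    ¬ 11 ∣ Nat.card ↥(Subgroup.centralizer ({x} : Set G)) := by
  intro hdvd
  have h11 : Fact (Nat.Prime 11) := ⟨by norm_num⟩
  have hS : ∀ P : Sylow 11 G, Nat.card (P : Subgroup G) = 11 := by
    intro P
    have h' := sylow_card (p := 11) 1 720 (by rw [h.card]; norm_num) (by norm_num) P
    rw [pow_one] at h'
    exact h'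
  obtain ⟨y, hy⟩ := exists_prime_orderOf_dvd_card' 11 hdvd
  have hy' : orderOf (y : G) = 11 := by
    rw [Subgroup.orderOf_coe]
    exact hy
  obtain ⟨P, hP⟩ := exists_sylow_of_orderOf hS hy'
  have hxC : x ∈ Subgroup.centralizer ((P : Subgroup G) : Set G) := by
    rw [← centralizer_singleton_eq hP]
    exact t7920_mem_centralizer_of_mem y
  have hPC : (P : Subgroup G) = Subgroup.centralizer ((P : Subgroup G) : Set G) := by
    apply Subgroup.eq_of_le_of_card_ge (le_centralizer_of_prime P (hS P))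
    rw [h.c11 P, hS P]
  have hxP : x ∈ (P : Subgroup G) := by
    rw [hPC]
    exact hxC
  apply hx11
  have hdiv : orderOf x ∣ 11 := by
    have h' := Subgroup.orderOf_dvd_natCard _ hxP
    rwa [hS P] at h'
  rcases (Nat.dvd_prime (by norm_num : Nat.Prime 11)).1 hdiv with h1 | h1
  · exact absurd (orderOf_eq_one_iff.1 h1) hx
  · exact h1

/-- copy of piece L5 of CALL S0434 for `M11Base` -/
theorem m11_cent_not5 (h : M11Base G) (x : G) (hx : x * x ≠ 1) (hx5 : ¬ 5 ∣ orderOf x) :
    ¬ 5 ∣ Nat.card ↥(Subgroup.centralizer ({x} : Set G)) := by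
  intro hdvd
  have h5 : Fact (Nat.Prime 5) := ⟨by norm_num⟩
  have hS : ∀ P : Sylow 5 G, Nat.card (P : Subgroup G) = 5 := by
    intro P
    have h' := sylow_card (p := 5) 1 1584 (by rw [h.card]; norm_num) (by norm_num) P
    rw [pow_one] at h'
    exact h'
  obtain ⟨y, hy⟩ := exists_prime_orderOf_dvd_card' 5 hdvd
  have hy' : orderOf (y : G) = 5 := by
    rw [Subgroup.orderOf_coe]
    exact hy
  obtain ⟨Q, hQ⟩ := exists_sylow_of_orderOf hS hy'
  have hxC : x ∈ Subgroup.centralizer ((Q : Subgroup G) : Set G) := by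
    rw [← centralizer_singleton_eq hQ]
    exact t7920_mem_centralizer_of_mem y
  have hdiv : orderOf x ∣ 10 := (Subgroup.orderOf_dvd_natCard _ hxC).trans (h.c5 Q)
  apply hx
  have h2 : orderOf x ∣ 2 := by
    have hcop : Nat.Coprime (orderOf x) 5 :=
      Nat.Coprime.symm ((Nat.Prime.coprime_iff_not_dvd (by norm_num)).2 hx5)
    exact hcop.dvd_of_dvd_mul_right (by norm_num; exact hdiv)
  have h3 := orderOf_dvd_iff_pow_eq_one.1 h2
  rw [pow_two] at h3
  exact h3


/-- copy of piece L5i of CALL S0434 for `M11Base` -/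
theorem m11_cent_invol5 (h : M11Base G) (x : G) (hx : x ≠ 1) (hx2 : x * x = 1)
    (h5 : 5 ∣ Nat.card ↥(Subgroup.centralizer ({x} : Set G))) :
    ∃ k, Nat.card ↥(Subgroup.centralizer ({x} : Set G)) = 20 * k ∧ k % 5 = 1 := by
  classical
  have h5F : Fact (Nat.Prime 5) := ⟨by norm_num⟩
  have hS : ∀ P : Sylow 5 G, Nat.card (P : Subgroup G) = 5 := by
    intro P
    have h' := sylow_card (p := 5) 1 1584 (by rw [h.card]; norm_num) (by norm_num) P
    rw [pow_one] at h'
    exact h'
  obtain ⟨y, hyH, hy'⟩ : ∃ y : G, y ∈ Subgroup.centralizer ({x} : Set G) ∧ orderOf y = 5 := by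
    obtain ⟨y, hy⟩ := exists_prime_orderOf_dvd_card' 5 h5
    exact ⟨y, y.2, by rw [Subgroup.orderOf_coe]; exact hy⟩
  obtain ⟨Q, hQ⟩ := exists_sylow_of_orderOf hS hy'
  have hxC : x ∈ Subgroup.centralizer ((Q : Subgroup G) : Set G) := by
    rw [← centralizer_singleton_eq hQ]
    exact t7920_mem_centralizer_of_mem ⟨y, hyH⟩
  have hxQ : ∀ q ∈ (Q : Subgroup G), q * x = x * q :=
    fun q hq => (Subgroup.mem_centralizer_iff.1 hxC) q hq
  have hQH : (Q : Subgroup G) ≤ Subgroup.centralizer ({x} : Set G) := by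
    rw [← hQ]
    exact Subgroup.zpowers_le.2 hyH
  have hQ2 : ∀ q ∈ (Q : Subgroup G), q * q = 1 → q = 1 := by
    intro q hq hqq
    have h5q : q ^ 5 = 1 := by
      have h' := Subgroup.orderOf_dvd_natCard _ hq
      rw [hS Q] at h'
      exact orderOf_dvd_iff_pow_eq_one.1 h'
    calc q = q ^ 5 * (q * q)⁻¹ * (q * q)⁻¹ := by group
      _ = 1 := by rw [h5q, hqq]; simp
  have hxnQ : ∀ z : G, z ≠ 1 → z * z = 1 → z ∉ (Q : Subgroup G) :=
    fun z hz hzz hzQ => hz (hQ2 z hzQ hzz)
  have hQC : (Q : Subgroup G) ≤ Subgroup.centralizer ((Q : Subgroup G) : Set G) :=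
    le_centralizer_of_prime Q (hS Q)
  have hC10 : Nat.card ↥(Subgroup.centralizer ((Q : Subgroup G) : Set G)) = 10 := by
    have hd := h.c5 Q
    have h5d : 5 ∣ Nat.card ↥(Subgroup.centralizer ((Q : Subgroup G) : Set G)) := by
      have h' := Subgroup.card_dvd_of_le hQC
      rwa [hS Q] at h'
    have h2d : 2 ∣ Nat.card ↥(Subgroup.centralizer ((Q : Subgroup G) : Set G)) := by
      have h2F : Fact (Nat.Prime 2) := ⟨Nat.prime_two⟩
      have ho : orderOf x = 2 := orderOf_eq_prime (by rw [pow_two]; exact hx2) hx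
      have h' := Subgroup.orderOf_dvd_natCard _ hxC
      rwa [ho] at h'
    have hle := Nat.le_of_dvd (by norm_num) hd
    have hpos : 0 < Nat.card ↥(Subgroup.centralizer ((Q : Subgroup G) : Set G)) := Nat.card_pos
    omega
  have hinv : ∀ z : G, z ∈ Subgroup.centralizer ((Q : Subgroup G) : Set G) → z ≠ 1 →
      z * z = 1 → z = x := by
    intro z hzC hz1 hzz
    have hidx : ((Q : Subgroup G).subgroupOf
        (Subgroup.centralizer ((Q : Subgroup G) : Set G))).index = 2 := by
      have h1 := ((Q : Subgroup G).subgroupOf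
        (Subgroup.centralizer ((Q : Subgroup G) : Set G))).card_mul_index
      rw [Nat.card_congr (Subgroup.subgroupOfEquivOfLe hQC).toEquiv, hS Q, hC10] at h1
      omega
    have hmem := Subgroup.mul_mem_iff_of_index_two hidx
      (a := (⟨z, hzC⟩ : ↥(Subgroup.centralizer ((Q : Subgroup G) : Set G))))
      (b := (⟨x, hxC⟩ : ↥(Subgroup.centralizer ((Q : Subgroup G) : Set G))))
    have hzx : z * x ∈ (Q : Subgroup G) := by
      have h1 : (⟨z, hzC⟩ : ↥(Subgroup.centralizer ((Q : Subgroup G) : Set G))) * ⟨x, hxC⟩ ∈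
          (Q : Subgroup G).subgroupOf (Subgroup.centralizer ((Q : Subgroup G) : Set G)) := by
        rw [hmem]
        constructor
        · intro h'
          exact absurd (Subgroup.mem_subgroupOf.1 h') (hxnQ z hz1 hzz)
        · intro h'
          exact absurd (Subgroup.mem_subgroupOf.1 h') (hxnQ x hx hx2)
      exact Subgroup.mem_subgroupOf.1 h1
    have hq1 : z * x = 1 := by
      apply hQ2 _ hzx
      have hc := hxQ (z * x) hzx
      have hz : z = x * (z * x) := by
        rw [← hc, mul_assoc, hx2, mul_one]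
      calc z * x * (z * x) = z * (x * (z * x)) := by group
        _ = z * z := by rw [← hz]
        _ = 1 := hzz
    calc z = z * (x * x) := by rw [hx2, mul_one]
      _ = (z * x) * x := by group
      _ = x := by rw [hq1, one_mul]
  have hNH : Subgroup.normalizer ((Q : Subgroup G) : Set G) ≤
      Subgroup.centralizer ({x} : Set G) := by
    intro n hn
    have hnxC : n * x * n⁻¹ ∈ Subgroup.centralizer ((Q : Subgroup G) : Set G) := by
      rw [Subgroup.mem_centralizer_iff]
      intro q hq
      have hq' : n⁻¹ * q * n ∈ (Q : Subgroup G) := by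
        have h' := (Subgroup.mem_normalizer_iff.1 (Subgroup.inv_mem _ hn) q).1 hq
        rw [inv_inv] at h'
        exact h'
      have hc := hxQ _ hq'
      calc q * (n * x * n⁻¹) = n * (n⁻¹ * q * n * x) * n⁻¹ := by group
        _ = n * (x * (n⁻¹ * q * n)) * n⁻¹ := by rw [hc]
        _ = n * x * n⁻¹ * q := by group
    have hne : n * x * n⁻¹ ≠ 1 := by
      intro h'
      apply hx
      calc x = n⁻¹ * (n * x * n⁻¹) * n := by group
        _ = 1 := by rw [h']; group
    have hsq : (n * x * n⁻¹) * (n * x * n⁻¹) = 1 := by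
      calc (n * x * n⁻¹) * (n * x * n⁻¹) = n * (x * x) * n⁻¹ := by group
        _ = 1 := by rw [hx2]; group
    have heq := hinv _ hnxC hne hsq
    rw [Subgroup.mem_centralizer_iff]
    intro z hz
    rw [Set.mem_singleton_iff] at hz
    subst hz
    calc z * n = (n * z * n⁻¹) * n := by rw [heq]
      _ = n * z := by group
  have hnorm : Nat.card ↥(Subgroup.normalizer
      (((Q.subtype hQH : Sylow 5 ↥(Subgroup.centralizer ({x} : Set G))) :
        Subgroup ↥(Subgroup.centralizer ({x} : Set G))) :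
        Set ↥(Subgroup.centralizer ({x} : Set G)))) = 20 := by
    rw [Sylow.coe_subtype, ← Subgroup.subgroupOf_normalizer_eq hQH,
      Nat.card_congr (Subgroup.subgroupOfEquivOfLe hNH).toEquiv]
    exact h.n5 Q
  have hidx := Sylow.card_eq_index_normalizer (Q.subtype hQH)
  have hmod := card_sylow_modEq_one (p := 5) (G := ↥(Subgroup.centralizer ({x} : Set G)))
  have hmul := Subgroup.card_mul_index (Subgroup.normalizer
      (((Q.subtype hQH : Sylow 5 ↥(Subgroup.centralizer ({x} : Set G))) :
        Subgroup ↥(Subgroup.centralizer ({x} : Set G))) :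
        Set ↥(Subgroup.centralizer ({x} : Set G))))
  rw [hnorm] at hmul
  refine ⟨Nat.card (Sylow 5 ↥(Subgroup.centralizer ({x} : Set G))), ?_, hmod⟩
  rw [hidx]
  exact hmul.symm


/-- a simple group of order 7920 satisfies `M11Base` -/
theorem m11Base_of_simple [IsSimpleGroup G] (hG : Nat.card G = 7920) : M11Base G where
  card := hG
  c11 := fun P => (Cfsg.Agent.Helper52.o7920_syl11 hG P).1
  n5 := fun Q => (Cfsg.Agent.Helper52.o7920_syl5 hG
    (fun P => (Cfsg.Agent.Helper52.o7920_syl11 hG P).1)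
    (fun P => (Cfsg.Agent.Helper52.o7920_syl11 hG P).2) Q).1
  c5 := fun Q => (Cfsg.Agent.Helper52.o7920_syl5 hG
    (fun P => (Cfsg.Agent.Helper52.o7920_syl11 hG P).1)
    (fun P => (Cfsg.Agent.Helper52.o7920_syl11 hG P).2) Q).2

end Cfsg.Agent.Helper48.M11L
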