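import Mathlib
import Cfsg.Agent.Helper48.M11Fin
import Cfsg.Agent.Helper48.M11L
import Cfsg.Agent.Helper52.T7920Main

/-!
# Involution centralisers in a simple group of order 7920: reduction to `C(R) = R`

`m11_invol_of_c3`: in a simple group of order 7920, if the Sylow 3-subgroups are
self-centralising, then every involution centraliser has order 48.
-/

set_option autoImplicit false

namespace Cfsg.Agent.Helper48.M11Core

variable {G : Type*} [Group G] [Finite G]

theorem m11_invol_of_c3 [IsSimpleGroup G] (hG : Nat.card G = 7920)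
    (hC3 : ∀ S : Sylow 3 G, Nat.card ↥(Subgroup.centralizer ((S : Subgroup G) : Set G)) = 9)
    (x : G) (hx : orderOf x = 2) : Nat.card ↥(Subgroup.centralizer ({x} : Set G)) = 48 := by
  have h3 : Fact (Nat.Prime 3) := ⟨Nat.prime_three⟩
  obtain ⟨R⟩ : Nonempty (Sylow 3 G) := inferInstance
  have hB := Cfsg.Agent.Helper48.M11L.m11Base_of_simple hG
  exact Cfsg.Agent.Helper48.M11Fin.o7920_invol_cent hG R (Cfsg.Agent.Helper52.o7920_main hG R) hC3
    (fun y hy hy11 => Cfsg.Agent.Helper48.M11L.m11_cent_not11 hB y hy hy11)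
    (fun y hy hyy h5 => Cfsg.Agent.Helper48.M11L.m11_cent_invol5 hB y hy hyy h5) x hx

end Cfsg.Agent.Helper48.M11Core
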