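import Mathlib
import Cfsg.Agent.Helper48.M11UGeo

/-!
# CALL S0420, piece ACT: the action on the eleven stars
-/

set_option autoImplicit false
set_option linter.unusedSectionVars false
set_option linter.unusedVariables false
open scoped Pointwise

namespace Cfsg.Agent.Helper48

open Cfsg.Agent.Helper48.M11U

universe u
variable {G : Type u} [Group G] [Finite G]

/-- the type of stars -/
def StarPt (G : Type u) [Group G] : Type u :=
  {C : Set (Sylow 3 G) // ∃ R S : Sylow 3 G, Adj R S ∧ C = star R S}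

theorem starPt_smul_aux (g : G) (C : Set (Sylow 3 G))
    (hC : ∃ R S : Sylow 3 G, Adj R S ∧ C = star R S) :
    ∃ R S : Sylow 3 G, Adj R S ∧ {P : Sylow 3 G | g⁻¹ • P ∈ C} = star R S := by
  obtain ⟨R, S, hRS, rfl⟩ := hC
  refine ⟨g • R, g • S, adj_smul hRS g, ?_⟩
  ext P
  have h := star_smul g R S (g⁻¹ • P)
  rw [smul_inv_smul] at h
  exact h.symm

instance starPtMulAction : MulAction G (StarPt G) where
  smul g C := ⟨{P : Sylow 3 G | g⁻¹ • P ∈ C.1}, starPt_smul_aux g C.1 C.2⟩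
  one_smul C := by
    apply Subtype.ext
    show {P : Sylow 3 G | (1 : G)⁻¹ • P ∈ C.1} = C.1
    ext P
    simp
  mul_smul g h C := by
    apply Subtype.ext
    show {P : Sylow 3 G | (g * h)⁻¹ • P ∈ C.1} = {P : Sylow 3 G | h⁻¹ • g⁻¹ • P ∈ C.1}
    ext P
    simp [mul_inv_rev, mul_smul]

theorem starPt_smul_val (g : G) (C : StarPt G) :
    (g • C).1 = {P : Sylow 3 G | g⁻¹ • P ∈ C.1} := rfl

theorem starPt_fix {g : G} {C : StarPt G} (h : g • C = C) (P : Sylow 3 G) :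
    g • P ∈ C.1 ↔ P ∈ C.1 := by
  have h1 : (g • C).1 = C.1 := by rw [h]
  rw [starPt_smul_val] at h1
  have h2 : g • P ∈ {P : Sylow 3 G | g⁻¹ • P ∈ C.1} ↔ g • P ∈ C.1 := by rw [h1]
  rw [← h2]
  show g⁻¹ • g • P ∈ C.1 ↔ P ∈ C.1
  rw [inv_smul_smul]

theorem m11u_geo_act (h : M11Gr G)
    (hcount : Nat.card {C : Set (Sylow 3 G) // ∃ R S : Sylow 3 G, Adj R S ∧ C = star R S} = 11)
    (hbase : ∃ (R S T : Sylow 3 G) (r : G), Adj R S ∧ Adj R T ∧ Adj S T ∧ Adj (r • S) (r • T) ∧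
      star R S ≠ star R T ∧ star R S ≠ star S T ∧ star R T ≠ star S T ∧
      star (r • S) (r • T) ≠ star R S ∧ star (r • S) (r • T) ≠ star R T ∧
      star (r • S) (r • T) ≠ star S T ∧
      ∀ g : G, (∀ P, g • P ∈ star R S ↔ P ∈ star R S) → (∀ P, g • P ∈ star R T ↔ P ∈ star R T) →
        (∀ P, g • P ∈ star S T ↔ P ∈ star S T) →
        (∀ P, g • P ∈ star (r • S) (r • T) ↔ P ∈ star (r • S) (r • T)) → g = 1) :
    ∃ (Ω : Type u) (_ : Fintype Ω) (_ : MulAction G Ω), Fintype.card Ω = 11 ∧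
      ∃ x₀ : Fin 4 ↪ Ω, ∀ g : G, (∀ i, g • x₀ i = x₀ i) → g = 1 := by
  classical
  have hfin : Finite (StarPt G) := by
    unfold StarPt
    infer_instance
  obtain ⟨R, S, T, r, hRS, hRT, hST, hrST, n12, n13, n23, n41, n42, n43, hg⟩ := hbase
  obtain ⟨c1, hc1⟩ : ∃ c : StarPt G, c.1 = star R S := ⟨⟨star R S, R, S, hRS, rfl⟩, rfl⟩
  obtain ⟨c2, hc2⟩ : ∃ c : StarPt G, c.1 = star R T := ⟨⟨star R T, R, T, hRT, rfl⟩, rfl⟩
  obtain ⟨c3, hc3⟩ : ∃ c : StarPt G, c.1 = star S T := ⟨⟨star S T, S, T, hST, rfl⟩, rfl⟩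
  obtain ⟨c4, hc4⟩ : ∃ c : StarPt G, c.1 = star (r • S) (r • T) :=
    ⟨⟨star (r • S) (r • T), r • S, r • T, hrST, rfl⟩, rfl⟩
  have d12 : c1 ≠ c2 := fun e => n12 (by rw [← hc1, ← hc2, e])
  have d13 : c1 ≠ c3 := fun e => n13 (by rw [← hc1, ← hc3, e])
  have d14 : c1 ≠ c4 := fun e => n41 (by rw [← hc1, ← hc4, e])
  have d23 : c2 ≠ c3 := fun e => n23 (by rw [← hc2, ← hc3, e])
  have d24 : c2 ≠ c4 := fun e => n42 (by rw [← hc2, ← hc4, e])
  have d34 : c3 ≠ c4 := fun e => n43 (by rw [← hc3, ← hc4, e])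
  have hinj : Function.Injective ![c1, c2, c3, c4] := by
    intro i j hij
    fin_cases i <;> fin_cases j <;> simp_all
  refine ⟨StarPt G, Fintype.ofFinite _, starPtMulAction, ?_, ⟨![c1, c2, c3, c4], hinj⟩, ?_⟩
  · rw [Fintype.card_eq_nat_card]
    exact hcount
  · intro g hfix
    have f1 : g • c1 = c1 := hfix 0
    have f2 : g • c2 = c2 := hfix 1
    have f3 : g • c3 = c3 := hfix 2
    have f4 : g • c4 = c4 := hfix 3
    apply hg g
    · intro P; rw [← hc1]; exact starPt_fix f1 P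
    · intro P; rw [← hc2]; exact starPt_fix f2 P
    · intro P; rw [← hc3]; exact starPt_fix f3 P
    · intro P; rw [← hc4]; exact starPt_fix f4 P

end Cfsg.Agent.Helper48
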