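import Mathlib
import Cfsg.Agent.Helper48.M11UGeo
import Cfsg.Agent.Helper48.M11UTri

/-!
# CALL S0420, piece BAS: four stars with trivial joint stabiliser
-/

set_option autoImplicit false
set_option linter.unusedSectionVars false
set_option linter.unusedVariables false
open scoped Pointwise

namespace Cfsg.Agent.Helper48

open Cfsg.Agent.Helper48.M11U

universe u
variable {G : Type u} [Group G] [Finite G]

theorem m11u_base (h : M11Gr G)
    (heq : ∀ R S P P' : Sylow 3 G, Adj R S → P ∈ star R S → P' ∈ star R S → P ≠ P' →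
      star P P' = star R S) :
    ∃ (R S T : Sylow 3 G) (r : G), Adj R S ∧ Adj R T ∧ Adj S T ∧ Adj (r • S) (r • T) ∧
      star R S ≠ star R T ∧ star R S ≠ star S T ∧ star R T ≠ star S T ∧
      star (r • S) (r • T) ≠ star R S ∧ star (r • S) (r • T) ≠ star R T ∧
      star (r • S) (r • T) ≠ star S T ∧
      ∀ g : G, (∀ P, g • P ∈ star R S ↔ P ∈ star R S) → (∀ P, g • P ∈ star R T ↔ P ∈ star R T) →
        (∀ P, g • P ∈ star S T ↔ P ∈ star S T) →
        (∀ P, g • P ∈ star (r • S) (r • T) ↔ P ∈ star (r • S) (r • T)) → g = 1 := by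
  have h3 : Fact (Nat.Prime 3) := ⟨Nat.prime_three⟩
  have hl1 := h.geo.l1
  have hraw := hl1.raw
  obtain ⟨R⟩ : Nonempty (Sylow 3 G) := inferInstance
  obtain ⟨z, S, T, hz, hR, hS, hT, hRS, hRT, hST, hall⟩ := tri_exists' hl1 R
  obtain ⟨r, hr, hr1⟩ := exists_ne_one hraw R
  have aRS : Adj R S := adj_of_tri hz hR hS hRS
  have aRT : Adj R T := adj_of_tri hz hR hT hRT
  have aST : Adj S T := adj_of_tri hz hS hT hST
  have arST : Adj (r • S) (r • T) := adj_smul aST r
  have hT_notin : T ∉ star R S := by
    rintro (e | ⟨r', hr', e⟩)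
    · exact hRT e.symm
    · have := h.orbdisj z R S T hz hR hS hT hRS hRT hST r' hr' 1 (one_mem _)
      rw [one_smul] at this
      exact this e.symm
  have hS_notin : S ∉ star R T := by
    rintro (e | ⟨r', hr', e⟩)
    · exact hRS e.symm
    · have := h.orbdisj z R S T hz hR hS hT hRS hRT hST 1 (one_mem _) r' hr'
      rw [one_smul] at this
      exact this e
  have hrT_notin : r • T ∉ star R S := by
    rintro (e | ⟨r', hr', e⟩)
    · have : T = R := by
        have h1 : r • T = r • R := by rw [e, smul_self_of_mem hr]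
        exact smul_left_cancel r h1
      exact hRT this.symm
    · exact h.orbdisj z R S T hz hR hS hT hRS hRT hST r' hr' r hr e.symm
  have hrS_notin : r • S ∉ star R T := by
    rintro (e | ⟨r', hr', e⟩)
    · have : S = R := by
        have h1 : r • S = r • R := by rw [e, smul_self_of_mem hr]
        exact smul_left_cancel r h1
      exact hRS this.symm
    · exact h.orbdisj z R S T hz hR hS hT hRS hRT hST r hr r' hr' e
  have hrS_ne : r • S ≠ S := by
    intro e
    exact hr1 (hl1.semireg R S r hr e (fun e' => hRS e'.symm))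
  have n12 : star R S ≠ star R T := fun e => hT_notin (by rw [e]; exact snd_mem_star R T)
  have n13 : star R S ≠ star S T := fun e => hT_notin (by rw [e]; exact snd_mem_star S T)
  have n23 : star R T ≠ star S T := fun e => hS_notin (by rw [e]; exact self_mem_star S T)
  have n41 : star (r • S) (r • T) ≠ star R S :=
    fun e => hrT_notin (by rw [← e]; exact snd_mem_star _ _)
  have n42 : star (r • S) (r • T) ≠ star R T :=
    fun e => hrS_notin (by rw [← e]; exact self_mem_star _ _)
  have n43 : star (r • S) (r • T) ≠ star S T := by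
    intro e
    have m1 : S ∈ star R S := snd_mem_star R S
    have m2 : r • S ∈ star R S := smul_mem_star hr
    have m3 : S ∈ star S T := self_mem_star S T
    have m4 : r • S ∈ star S T := by rw [← e]; exact self_mem_star _ _
    have e1 := heq R S S (r • S) aRS m1 m2 (fun e' => hrS_ne e'.symm)
    have e2 := heq S T S (r • S) aST m3 m4 (fun e' => hrS_ne e'.symm)
    exact n13 (e1.symm.trans e2)
  refine ⟨R, S, T, r, aRS, aRT, aST, arST, n12, n13, n23, n41, n42, n43, ?_⟩
  intro g f1 f2 f3 f4
  have gR : g • R = R := by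
    by_contra hne
    have m1 : g • R ∈ star R S := (f1 R).mpr (self_mem_star R S)
    have m2 : g • R ∈ star R T := (f2 R).mpr (self_mem_star R T)
    have e1 := heq R S R (g • R) aRS (self_mem_star R S) m1 (fun e' => hne e'.symm)
    have e2 := heq R T R (g • R) aRT (self_mem_star R T) m2 (fun e' => hne e'.symm)
    exact n12 (e1.symm.trans e2)
  have gS : g • S = S := by
    by_contra hne
    have m1 : g • S ∈ star R S := (f1 S).mpr (snd_mem_star R S)
    have m2 : g • S ∈ star S T := (f3 S).mpr (self_mem_star S T)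
    have e1 := heq R S S (g • S) aRS (snd_mem_star R S) m1 (fun e' => hne e'.symm)
    have e2 := heq S T S (g • S) aST (self_mem_star S T) m2 (fun e' => hne e'.symm)
    exact n13 (e1.symm.trans e2)
  have grS : g • (r • S) = r • S := by
    by_contra hne
    have m1 : g • (r • S) ∈ star R S := (f1 _).mpr (smul_mem_star hr)
    have m2 : g • (r • S) ∈ star (r • S) (r • T) := (f4 _).mpr (self_mem_star _ _)
    have e1 := heq R S (r • S) (g • (r • S)) aRS (smul_mem_star hr) m1 (fun e' => hne e'.symm)
    have e2 := heq (r • S) (r • T) (r • S) (g • (r • S)) arST (self_mem_star _ _) m2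
      (fun e' => hne e'.symm)
    exact n41 (e2.symm.trans e1)
  have hg_norm : g ∈ Subgroup.normalizer ((R : Subgroup G) : Set G) := (smul_eq_iff g R).mp gR
  have hc : g * r * g⁻¹ ∈ (R : Subgroup G) := (Subgroup.mem_normalizer_iff.mp hg_norm r).mp hr
  have hel : r⁻¹ * (g * r * g⁻¹) ∈ (R : Subgroup G) := mul_mem (inv_mem hr) hc
  have hfixS : (r⁻¹ * (g * r * g⁻¹)) • S = S := by
    have e1 : g⁻¹ • S = S := by rw [inv_smul_eq_iff, gS]
    have e2 : (r⁻¹ * (g * r * g⁻¹)) • S = r⁻¹ • g • r • g⁻¹ • S := by
      rw [← mul_smul, ← mul_smul, ← mul_smul]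
      congr 1
      group
    rw [e2, e1, grS, inv_smul_smul]
  have h1 := hl1.semireg R S _ hel hfixS (fun e => hRS e.symm)
  have hcomm : g * r = r * g := by
    have e3 : g * r * g⁻¹ = r := by
      calc g * r * g⁻¹ = r * (r⁻¹ * (g * r * g⁻¹)) := by group
        _ = r := by rw [h1, mul_one]
    calc g * r = (g * r * g⁻¹) * g := by group
      _ = r * g := by rw [e3]
  exact h.geo.free R S aRS g gR gS r hr hr1 hcomm

end Cfsg.Agent.Helper48
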