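import Mathlib

/-!
# Shared definitions for the uniqueness of the simple group of order 7920 (row S0420)

`Sharp4 H`: the permutation group `H` is sharply 4-transitive, in elementary form.
-/

set_option autoImplicit false

namespace Cfsg.Agent.Helper48.M11U

/-- `H` is sharply 4-transitive on `α`: any injective 4-tuple is mapped to any other by an
element of `H`, and only the identity of `H` fixes an injective 4-tuple pointwise. -/
def Sharp4 {α : Type*} (H : Subgroup (Equiv.Perm α)) : Prop :=
  (∀ x y : Fin 4 ↪ α, ∃ h ∈ H, ∀ i, h (x i) = y i) ∧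
  ∀ h ∈ H, ∀ x : Fin 4 ↪ α, (∀ i, h (x i) = x i) → h = 1

end Cfsg.Agent.Helper48.M11U
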