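import Mathlib
import Cfsg.Agent.Helper9.OrdTools2
import Cfsg.Agent.Helper52.U7920Defs

/-! helper48: CALL S0435 (helper52), piece P2d1. -/

set_option autoImplicit false

namespace Cfsg.Agent.Helper48

open Cfsg.Agent.Helper52

variable {G : Type*} [Group G] [Finite G]

-- PIECE P2d1
theorem u7920_inverts (h : U7920Hyp G)
    (hTI : ∀ S S' : Sylow 3 G, S ≠ S' → (S : Subgroup G) ⊓ (S' : Subgroup G) = ⊥)
    (R : Sylow 3 G) (z : G) (hz : orderOf z = 2)
    (hzC : Subgroup.centralizer ({z} : Set G) = Subgroup.normalizer ((R : Subgroup G) : Set G))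
    (S : Sylow 3 G) (hS : z ∈ Subgroup.normalizer ((S : Subgroup G) : Set G)) (hSR : S ≠ R) :
    ∀ s ∈ (S : Subgroup G), z * s * z⁻¹ = s⁻¹ := by
  intro s hs
  have h3 : Fact (Nat.Prime 3) := ⟨Nat.prime_three⟩
  have hzz : z * z = 1 := by rw [← pow_two, ← hz, pow_orderOf_eq_one]
  have hs' : z * s * z⁻¹ ∈ (S : Subgroup G) := (Subgroup.mem_normalizer_iff.mp hS s).mp hs
  have hcomm : s * (z * s * z⁻¹) = (z * s * z⁻¹) * s := (h.syl3 S).2 s hs _ hs'
  obtain ⟨t, htdef⟩ : ∃ t : G, t = s * (z * s * z⁻¹) := ⟨_, rfl⟩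
  have htS : t ∈ (S : Subgroup G) := by rw [htdef]; exact mul_mem hs hs'
  have hfix : z * t * z⁻¹ = t := by
    rw [htdef]
    calc z * (s * (z * s * z⁻¹)) * z⁻¹ = (z * s * z⁻¹) * ((z * z) * s * (z * z)⁻¹) := by group
      _ = (z * s * z⁻¹) * s := by rw [hzz]; group
      _ = s * (z * s * z⁻¹) := hcomm.symm
  have htC : t ∈ Subgroup.centralizer ({z} : Set G) := by
    rw [Subgroup.mem_centralizer_iff]
    intro w hw
    rw [Set.mem_singleton_iff] at hw
    rw [hw]
    calc z * t = (z * t * z⁻¹) * z := by group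
      _ = t * z := by rw [hfix]
  rw [hzC] at htC
  have hzp : IsPGroup 3 ↥(Subgroup.zpowers t) := by
    have hSp : IsPGroup 3 ↥(S : Subgroup G) := S.isPGroup'
    exact hSp.to_le (Subgroup.zpowers_le.mpr htS)
  have htR : t ∈ (R : Subgroup G) :=
    Cfsg.Agent.Helper9.OrdTools.mem_sylow_of_mem_normalizer R hzp
      (Subgroup.zpowers_le.mpr htC) (Subgroup.mem_zpowers t)
  have ht1 : t = 1 := by
    have hmem : t ∈ (S : Subgroup G) ⊓ (R : Subgroup G) := ⟨htS, htR⟩
    rw [hTI S R hSR, Subgroup.mem_bot] at hmem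
    exact hmem
  rw [htdef] at ht1
  exact eq_inv_of_mul_eq_one_right ht1

end Cfsg.Agent.Helper48
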