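import Mathlib
import Cfsg.Agent.Helper52.T7920Syl

/-! helper48: CALL S0435 (helper52), piece TI5. -/

set_option autoImplicit false
set_option linter.unusedSectionVars false

namespace Cfsg.Agent.Helper48

open Cfsg.Agent.Helper52

variable {G : Type*} [Group G] [Finite G]

-- PIECE TI5
theorem u7920_F_conj (g d : G) :
    Nat.card {S : Sylow 3 G // g * d * g⁻¹ ∈ (S : Subgroup G)} =
      Nat.card {S : Sylow 3 G // d ∈ (S : Subgroup G)} := by
  refine Nat.card_congr (Equiv.subtypeEquiv (MulAction.toPerm g⁻¹) ?_)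
  intro S
  rw [MulAction.toPerm_apply, o7920_mem_smul, inv_inv]

end Cfsg.Agent.Helper48
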