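import Mathlib
import Cfsg.Agent.Helper48.M11UGeo
import Cfsg.Agent.Helper48.M11Fin
import Cfsg.Agent.Helper48.M11Sign
import Cfsg.Agent.Helper52.U7920Main

/-!
# CALL S0420, piece RAW: the level-0 facts about a simple group of order 7920
-/

set_option autoImplicit false
open scoped Pointwise

namespace Cfsg.Agent.Helper48

open Cfsg.Agent.Helper48.M11U

universe u
variable {G : Type u} [Group G] [Finite G]

theorem m11u_raw [IsSimpleGroup G] (hG : Nat.card G = 7920) : M11Raw G := by
  classical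
  have h2 : Fact (Nat.Prime 2) := ⟨Nat.prime_two⟩
  have h3 : Fact (Nat.Prime 3) := ⟨Nat.prime_three⟩
  have h := Cfsg.Agent.Helper52.u7920_hyp hG
  have hC3 : ∀ S : Sylow 3 G, Nat.card ↥(Subgroup.centralizer ((S : Subgroup G) : Set G)) = 9 :=
    fun S => Cfsg.Agent.Helper52.u7920_cent_R h S
  have hcent : ∀ R : Sylow 3 G, ∀ g : G, (∀ r ∈ (R : Subgroup G), g * r = r * g) →
      g ∈ (R : Subgroup G) := by
    intro R g hg
    have hle : (R : Subgroup G) ≤ Subgroup.centralizer ((R : Subgroup G) : Set G) := by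
      intro x hx
      rw [Subgroup.mem_centralizer_iff]
      intro y hy
      exact (h.syl3 R).2 y hy x hx
    have heq : (R : Subgroup G) = Subgroup.centralizer ((R : Subgroup G) : Set G) :=
      Subgroup.eq_of_le_of_card_ge hle (by rw [hC3 R, (h.syl3 R).1])
    rw [heq, Subgroup.mem_centralizer_iff]
    intro r hr
    exact (hg r hr).symm
  -- all involutions are conjugate
  have hconj2 : ∀ z w : G, orderOf z = 2 → orderOf w = 2 → ∃ g : G, g * z * g⁻¹ = w := by
    obtain ⟨R⟩ : Nonempty (Sylow 3 G) := inferInstance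
    have hN := h.n3 R
    have hR : Nat.card ↥(R : Subgroup G) = 9 := (h.syl3 R).1
    obtain ⟨K, hK⟩ := Sylow.exists_subgroup_card_pow_prime
      (G := ↥(Subgroup.normalizer ((R : Subgroup G) : Set G))) 2 (n := 4) (by rw [hN]; norm_num)
    obtain ⟨T, hTdef⟩ : ∃ T : Subgroup G, T = K.map (Subgroup.subtype _) := ⟨_, rfl⟩
    have hTN : T ≤ Subgroup.normalizer ((R : Subgroup G) : Set G) := by
      rw [hTdef]; exact Subgroup.map_subtype_le _
    have hT : Nat.card ↥T = 16 := by
      rw [hTdef, Nat.card_congr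
        (Subgroup.equivMapOfInjective K _ (Subgroup.subtype_injective _)).symm.toEquiv, hK]
      norm_num
    have hfaith : ∀ t ∈ T, (∀ r ∈ (R : Subgroup G), t * r = r * t) → t = 1 := by
      intro t ht hc
      have htC : t ∈ Subgroup.centralizer ((R : Subgroup G) : Set G) := by
        rw [Subgroup.mem_centralizer_iff]
        intro r hr
        exact (hc r hr).symm
      have h1 : orderOf t ∣ 9 := by
        have := Subgroup.orderOf_dvd_natCard _ htC
        rwa [hC3 R] at this
      have h2' : orderOf t ∣ 16 := by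
        have := Subgroup.orderOf_dvd_natCard _ ht
        rwa [hT] at this
      have h3' : orderOf t ∣ Nat.gcd 9 16 := Nat.dvd_gcd h1 h2'
      have h4 : orderOf t = 1 := by
        have : Nat.gcd 9 16 = 1 := by norm_num
        rw [this] at h3'
        exact Nat.dvd_one.mp h3'
      exact orderOf_eq_one_iff.mp h4
    obtain ⟨Q, hQT, hQ, hQnorm, hQuniq, u, huT, hu2, d, hdR, hd1, hud⟩ :=
      Cfsg.Agent.Helper48.M11Sign.sd16_sign (R : Subgroup G) T hR hT hTN hfaith
    obtain ⟨z', hz'⟩ := exists_prime_orderOf_dvd_card' (G := ↥Q) 2 (by rw [hQ]; norm_num)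
    obtain ⟨z₀, hzdef⟩ : ∃ z : G, z = (z' : G) := ⟨_, rfl⟩
    have hzQ : z₀ ∈ Q := hzdef ▸ z'.2
    have hz2 : orderOf z₀ = 2 := by rw [hzdef, Subgroup.orderOf_coe]; exact hz'
    have hconj : ∀ y : G, orderOf y = 2 → ∃ g : G, g * y * g⁻¹ = z₀ := by
      intro y hy
      by_contra hcon
      push Not at hcon
      apply Cfsg.Agent.Helper88.o7920_parity hG Q hQ y hy
      intro g hg
      apply hcon g
      exact hQuniq _ hg _ hzQ (by rw [Cfsg.Agent.Helper48.M11Fin.m11fin_orderOf_conj, hy]) hz2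
    intro z w hz hw
    obtain ⟨g1, hg1⟩ := hconj z hz
    obtain ⟨g2, hg2⟩ := hconj w hw
    refine ⟨g2⁻¹ * g1, ?_⟩
    calc g2⁻¹ * g1 * z * (g2⁻¹ * g1)⁻¹ = g2⁻¹ * (g1 * z * g1⁻¹) * g2 := by group
      _ = g2⁻¹ * (g2 * w * g2⁻¹) * g2 := by rw [hg1, hg2]
      _ = w := by group
  exact
    { card := hG
      num3 := h.num3
      n3 := h.n3
      card3 := fun R => (h.syl3 R).1
      comm3 := fun R => (h.syl3 R).2
      ti := by
        intro R S x hxR hxS hx1
        by_contra hne
        have := Cfsg.Agent.Helper52.u7920_TI h R S hne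
        have hx : x ∈ (R : Subgroup G) ⊓ (S : Subgroup G) := ⟨hxR, hxS⟩
        rw [this, Subgroup.mem_bot] at hx
        exact hx1 hx
      cent := hcent
      invc := fun z hz => Cfsg.Agent.Helper52.u7920_result hG z hz
      conj2 := hconj2 }

end Cfsg.Agent.Helper48
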