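import Mathlib
import Cfsg.Statements.S0420
import Cfsg.Agent.Helper48.M11UDefs
import Cfsg.Agent.Helper48.M11UGeo
import Cfsg.Agent.Helper14.M11UN19
import Cfsg.Agent.Helper14.M11UNMU
import Cfsg.Agent.Helper14.M11UNN3
import Cfsg.Agent.Helper14.M11UNNL
import Cfsg.Agent.Helper14.M11USRG
import Cfsg.Agent.Helper20.M11UDCA
import Cfsg.Agent.Helper20.M11UNAB2
import Cfsg.Agent.Helper20.M11UTAD
import Cfsg.Agent.Helper22.M11UCOP
import Cfsg.Agent.Helper22.M11UEXI
import Cfsg.Agent.Helper22.M11UN0J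
import Cfsg.Agent.Helper22.M11UN0R
import Cfsg.Agent.Helper23.M11USCA
import Cfsg.Agent.Helper23.M11USCL
import Cfsg.Agent.Helper23.M11USEQ
import Cfsg.Agent.Helper23.M11USSY
import Cfsg.Agent.Helper23.M11USTW
import Cfsg.Agent.Helper23.M11UWRS
import Cfsg.Agent.Helper27.M11UC3C
import Cfsg.Agent.Helper27.M11UCZS
import Cfsg.Agent.Helper27.M11UFRE
import Cfsg.Agent.Helper27.M11UICN
import Cfsg.Agent.Helper27.M11UN0P
import Cfsg.Agent.Helper27.M11UORB
import Cfsg.Agent.Helper27.M11URAX
import Cfsg.Agent.Helper27.M11USEM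
import Cfsg.Agent.Helper27.M11USWP
import Cfsg.Agent.Helper27.M11UTRI
import Cfsg.Agent.Helper27.M11UUNI
import Cfsg.Agent.Helper27.M11UVAL
import Cfsg.Agent.Helper37.M11USCT
import Cfsg.Agent.Helper41.M11UN0I
import Cfsg.Agent.Helper46.M11UI165
import Cfsg.Agent.Helper48.M11UACT
import Cfsg.Agent.Helper48.M11UBAS
import Cfsg.Agent.Helper48.M11URAW
import Cfsg.Agent.Helper67.M11UNBR
import Cfsg.Agent.Helper84.M11USHP
import Cfsg.Agent.Helper92.M11UNAB1
import Cfsg.Agent.Helper92.M11UNON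
import Cfsg.Agent.Helper92.M11UNR4
import Cfsg.Agent.Helper93.M11UABC
import Cfsg.Agent.Helper93.M11UDIA
import Cfsg.Agent.Helper93.M11UDIB
import Cfsg.Agent.Helper93.M11UNRN
import Cfsg.Agent.Helper99.M11UN0E
import Cfsg.Agent.Helper99.M11UODJ
import Cfsg.Agent.Helper99.M11UTR1

/-!
# Row S0420, PART I: a simple group of order 7920 is a sharply 4-transitive group of degree 11

Assembly of the pieces of CALL S0420 (see the imports; every piece was contributed by a seat of
the team).  Plan: the 55 Sylow 3-subgroups with adjacency "common inverting involution" form the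
triangular graph T(11); its 11 maximal cliques of size 10 ("stars") are permuted by `G`, and four
suitable stars have trivial joint stabiliser.
-/

set_option autoImplicit false
set_option linter.unusedSectionVars false
set_option linter.unusedVariables false
open scoped Pointwise
open Cfsg

namespace Cfsg.Agent.Helper48.M11U

universe u
variable {G : Type u} [Group G] [Finite G]

/-- assembly of level 1 -/

theorem m11u_l1 [IsSimpleGroup G] (hG : Nat.card G = 7920) : M11L1 G := by
  have h := Cfsg.Agent.Helper48.m11u_raw hG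
  have hcop := Cfsg.Agent.Helper22.m11u_coprime h
  have hex := Cfsg.Agent.Helper22.m11u_exinv hG h hcop
  have horb := Cfsg.Agent.Helper27.m11u_orbI h
  have hcnt := Cfsg.Agent.Helper27.m11u_invcount h hex horb
  exact
    { raw := h
      exinv := hex
      semireg := Cfsg.Agent.Helper27.m11u_semireg h
      uniq := Cfsg.Agent.Helper27.m11u_uniq h
      orbI := horb
      invcount := hcnt
      tri := Cfsg.Agent.Helper27.m11u_tri h (Cfsg.Agent.Helper46.m11u_invol165 h) hcnt
      c3cyc := Cfsg.Agent.Helper27.m11u_c3cyc h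
      coprime := hcop
      reflaxis := Cfsg.Agent.Helper27.m11u_reflaxis h }

/-- assembly of level 2 -/

theorem m11u_geo (h : M11L1 G) : M11Geo G := by
  have hP := Cfsg.Agent.Helper27.m11u_n0_pgroup h
  have hn0 := Cfsg.Agent.Helper41.m11u_n0inv h (fun z hz J hJ => Cfsg.Agent.Helper22.m11u_n0_J_le h z hz (hP z hz) J hJ)
    (fun z hz J hJ => Cfsg.Agent.Helper22.m11u_n0_three h z hz J hJ) (fun z hz J hJ => Cfsg.Agent.Helper99.m11u_n0_even z hz J hJ)
  have hcz := Cfsg.Agent.Helper27.m11u_czstab h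
  have hfree := Cfsg.Agent.Helper27.m11u_free h hn0
  have hd := Cfsg.Agent.Helper20.m11u_dcard h hfree hcz
  exact
    { l1 := h
      n0inv := hn0
      czstab := hcz
      free := hfree
      dcard := hd
      trans1 := Cfsg.Agent.Helper99.m11u_trans1 h hfree hd
      swap := Cfsg.Agent.Helper27.m11u_swap h hd hcz }

/-- assembly of level 3 -/

theorem m11u_gr (h : M11Geo G) : M11Gr G :=
  { geo := h
    nbr := Cfsg.Agent.Helper67.m11u_nbr h
    orbdisj := Cfsg.Agent.Helper99.m11u_orbdisj h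
    valency := Cfsg.Agent.Helper27.m11u_valency h
    transadj := Cfsg.Agent.Helper20.m11u_transadj h }

/-- assembly of level 4: the good case -/

theorem m11u_good (h : M11Gr G) : PropA G ∧ PropB' G := by
  have hsymm : ∀ a b : Sylow 3 G, Adj a b → Adj b a := fun a b hab => adj_symm hab
  have hirr : ∀ a : Sylow 3 G, ¬ Adj a a := fun a ha => ha.1 rfl
  have hval : ∀ a : Sylow 3 G, Nat.card {b : Sylow 3 G // Adj a b} = 18 := h.valency
  have hcard : Nat.card (Sylow 3 G) = 55 := h.geo.l1.raw.num3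
  rcases Cfsg.Agent.Helper93.m11u_dichA h with hA | hA <;> rcases Cfsg.Agent.Helper93.m11u_dichB h with hB | hB
  · exact (Cfsg.Agent.Helper14.m11u_no19 Adj hsymm hirr hcard hval
      (fun a b c hab hac hcb => Cfsg.Agent.Helper93.m11u_ab_closed h hA hB a b c hab hac hcb)).elim
  · exact ⟨hA, hB⟩
  · obtain ⟨R, S, T, U, hRS, hRT, hTS, hU, hRU, hUT⟩ := Cfsg.Agent.Helper92.m11u_nab_conf h hA hB
    exact (Cfsg.Agent.Helper20.m11u_nab_false h R S T U hRS hRT hTS hU hRU hUT).elim
  · have hthird := Cfsg.Agent.Helper14.m11u_nn_third h hA hB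
    have hr4 := Cfsg.Agent.Helper92.m11u_nn_refl4 h hthird
    have hrn : ∀ z : G, orderOf z = 2 → ∀ P : Sylow 3 G, ¬ Inv z P →
        (∀ Q : Sylow 3 G, Inv z Q → ¬ Adj P Q) → z • P = P :=
      fun z hz P hP hPQ => Cfsg.Agent.Helper93.m11u_nn_refl_norm h z hz (hr4 z hz) P hP hPQ
    have hone := Cfsg.Agent.Helper92.m11u_nn_one h hr4 hrn
    exact (Cfsg.Agent.Helper14.m11u_srg55 Adj hsymm hirr hcard hval (Cfsg.Agent.Helper14.m11u_nn_lambda h hthird)
      (Cfsg.Agent.Helper14.m11u_nn_mu h hthird hrn hone)).elim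

theorem m11u_part1 (hG : Cfsg.IsM11 G) :
    ∃ H : Subgroup (Equiv.Perm (Fin 11)), Sharp4 H ∧ Nonempty (G ≃* H) := by
  have hs : IsSimpleGroup G := hG.1
  have hc : Nat.card G = 7920 := hG.2
  have h := m11u_gr (m11u_geo (m11u_l1 hc))
  obtain ⟨hA, hB⟩ := m11u_good h
  have hw := fun z R S T U hz h1 h2 h3 hRS hRT hST =>
    Cfsg.Agent.Helper23.m11u_w h hA hB z R S T U hz h1 h2 h3 hRS hRT hST
  have hcl := Cfsg.Agent.Helper23.m11u_star_clique h hA
  have hsym := Cfsg.Agent.Helper23.m11u_star_symm h hw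
  have heq := Cfsg.Agent.Helper23.m11u_star_eq h hcl hsym
  have hcard := Cfsg.Agent.Helper23.m11u_star_card h
  have htwo := Cfsg.Agent.Helper23.m11u_star_two h hcl heq hcard
  have hcount := Cfsg.Agent.Helper37.m11u_star_count h hcard htwo
  have hbase := Cfsg.Agent.Helper48.m11u_base h heq
  obtain ⟨Ω, hF, hM, hΩ, x₀, hx₀⟩ := Cfsg.Agent.Helper48.m11u_geo_act h hcount hbase
  exact Cfsg.Agent.Helper84.m11u_act_sharp hc hΩ x₀ hx₀

end Cfsg.Agent.Helper48.M11U
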