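import Cfsg.Agent.Helper64.MRDefs

/-!
# CALL MR (helper64), piece OPC1 (helper48): `op_c1`, statement verbatim from
tools/calls/MRSkel.lean.txt.
-/

set_option autoImplicit false

namespace Cfsg.Agent.Helper48.MROPC1

open Cfsg Cfsg.Lie Cfsg.Agent.Helper36 Cfsg.Agent.Helper64.UC Cfsg.Agent.Helper64.UC2
open Cfsg.Agent.Helper64.MR

/-- PIECE OPC1: `[e_r, e_s] = C e_k`, `e_r e_k = 0`, `e_s e_k = 0` when the commutator formula of
`(r, s)` is the single term `(k, C, 1, 1)`. -/
theorem op_c1 {R : SRep} {D : ChevalleyDatum} (h : R.Ok D) (K : Type*) [Field K] {r s : ℕ}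
    (hr : r < D.nroots) (hs : s < D.nroots) (h1 : s ≠ r) (h2 : s ≠ D.neg r) {k : ℕ} {C : ℤ}
    (hc : D.commTerms r s = [(k, C, 1, 1)]) :
    R.op K r * R.op K s - R.op K s * R.op K r = (C : K) • R.op K k ∧
      R.op K r * R.op K k = 0 ∧ R.op K s * R.op K k = 0 := by
  refine ⟨?_, ?_, ?_⟩
  · apply LinearMap.ext
    intro f
    funext ν
    rw [LinearMap.sub_apply, Module.End.mul_apply, Module.End.mul_apply, LinearMap.smul_apply,
      Pi.sub_apply, Pi.smul_apply, SRep.op_op_apply, SRep.op_op_apply, SRep.op_apply, smul_eq_mul]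
    by_cases hν : ν < R.N
    · obtain ⟨hb, -, -⟩ := h.c1 r hr s hs h1 h2 k C hc ν hν
      rcases hb with ⟨e1, e2, e3⟩ | ⟨μ, a, b, e1, e2, e3, e4⟩ | ⟨μ, a, b, e1, e2, e3, e4⟩
      · rw [e1, e2, e3, rowVal_none]
        ring
      · rw [e1, e2, e3, rowVal_some, rowVal_none, rowVal_some, e4]
        push_cast
        ring
      · rw [e1, e2, e3, rowVal_none, rowVal_some, rowVal_some]
        have e5 : (a : K) = -((C : K) * (b : K)) := by
          have e6 := congrArg (fun z : ℤ => (z : K)) e4
          push_cast at e6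
          linear_combination -e6
        show 0 - (a : K) * f μ = (C : K) * ((b : K) * f μ)
        rw [e5]
        ring
    · rw [R.term2_none_of_le r s (not_lt.mp hν), R.term2_none_of_le s r (not_lt.mp hν),
        R.term1_none_of_le k (not_lt.mp hν), rowVal_none]
      ring
  · apply LinearMap.ext
    intro f
    funext ν
    rw [Module.End.mul_apply, SRep.op_op_apply, LinearMap.zero_apply, Pi.zero_apply]
    by_cases hν : ν < R.N
    · rw [(h.c1 r hr s hs h1 h2 k C hc ν hν).2.1, rowVal_none]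
    · rw [R.term2_none_of_le r k (not_lt.mp hν), rowVal_none]
  · apply LinearMap.ext
    intro f
    funext ν
    rw [Module.End.mul_apply, SRep.op_op_apply, LinearMap.zero_apply, Pi.zero_apply]
    by_cases hν : ν < R.N
    · rw [(h.c1 r hr s hs h1 h2 k C hc ν hν).2.2, rowVal_none]
    · rw [R.term2_none_of_le s k (not_lt.mp hν), rowVal_none]

end Cfsg.Agent.Helper48.MROPC1
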