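/-
CALL NP (helper13; row S5989), piece BADX (helper48, double): `np_bad_x`, statement verbatim from
tools/calls/NPSkel.lean.txt.  Mirror of `Cfsg.Agent.Helper88.OH5992.o_bad` for the plus form.
-/
import Mathlib
import Cfsg.Prelude.Def_GeometricClasses
import Cfsg.Prelude.Def_Classical
import Cfsg.Agent.Helper43.PrimeOrdO2
import Cfsg.Agent.Helper43.OTFIXLE

set_option autoImplicit false

namespace Cfsg.Agent.Helper48.NP5989

open Module Polynomial Cfsg Cfsg.Geo
open scoped MatrixGroups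

section stages

variable {F : Type*} [Field F] [Fintype F]

/-- an element of order `r` of `O⁺_{2d}(q)` with prescribed characteristic polynomial -/
theorem npbx_key (p : ℕ) [Fact p.Prime] [CharP F p] (d : ℕ) (hd : 1 ≤ d) (r : ℕ) [Fact r.Prime]
    (hr2 : 2 < r) (hrp : r ≠ p) (c₀ : ℕ) (cfun : F[X] → ℕ)
    (hsym : ∀ P ∈ Cfsg.Agent.Helper43.CycFactors.cycJ F r,
      cfun (Cfsg.Agent.Helper43.SpReal.star P) = cfun P)
    (hnz : ∃ P ∈ Cfsg.Agent.Helper43.CycFactors.cycJ F r, cfun P ≠ 0)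
    (hdeg : c₀ + orderOf ((Fintype.card F : ℕ) : ZMod r) *
      ∑ P ∈ Cfsg.Agent.Helper43.CycFactors.cycJ F r, cfun P = 2 * d)
    (hcond : Odd (orderOf ((Fintype.card F : ℕ) : ZMod r)) ∨ 0 < c₀ ∨
      Even (∑ P ∈ Cfsg.Agent.Helper43.CycFactors.cycJ F r, cfun P)) :
    ∃ g : GL (Fin d ⊕ Fin d) F, g ∈ Cfsg.isometryGroup F (Cfsg.quadFormPlus d F) ∧
      orderOf g = r ∧
      finrank F (LinearMap.ker (Matrix.toLin'
        (g : Matrix (Fin d ⊕ Fin d) (Fin d ⊕ Fin d) F) - 1)) ≤ c₀ := by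
  have hr : r.Prime := Fact.out
  obtain ⟨g, hg, hch⟩ := Cfsg.Agent.Helper43.PrimeOrdO.oexists_plus (p := p)
    (rfl : Fintype.card F = Fintype.card F) hd hr (by omega) hrp c₀ cfun hsym hnz hdeg hcond
  refine ⟨(g : GL (Fin d ⊕ Fin d) F), g.2, ?_, ?_⟩
  · rw [Subgroup.orderOf_coe]
    exact hg
  · exact Cfsg.Agent.Helper43.OT5972.ot_fix_le p hr hrp _ c₀ cfun hch

/-- BADX -/
theorem np_bad_x (p : ℕ) [Fact p.Prime] [CharP F p] (d : ℕ) (hd : 1 ≤ d) (r : ℕ) [Fact r.Prime]
    (hr2 : 2 < r) (hrp : r ≠ p) (i c : ℕ) (hi : i = orderOf ((Fintype.card F : ℕ) : ZMod r))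
    (hc : c = if Even i then i else 2 * i) (hcn : c ≤ 2 * d)
    (hcond : Odd i ∨ 0 < (2 * d) % c ∨ Even ((2 * d) / c)) :
    ∃ g : GL (Fin d ⊕ Fin d) F, g ∈ Cfsg.isometryGroup F (Cfsg.quadFormPlus d F) ∧
      orderOf g = r ∧
      finrank F (LinearMap.ker (Matrix.toLin'
        (g : Matrix (Fin d ⊕ Fin d) (Fin d ⊕ Fin d) F) - 1)) ≤ (2 * d) % c := by
  classical
  have hr : r.Prime := Fact.out
  have hrF : (r : F) ≠ 0 := Cfsg.Agent.Helper43.CycFactors.natCast_ne_zero_of_ne (p := p) hr hrp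
  have hi0 : 0 < i := by
    rw [hi]
    exact Cfsg.Agent.Helper43.CycFactors.orderOf_pos_of_card (p := p)
      (rfl : Fintype.card F = Fintype.card F) hr hrp
  have hc0 : 0 < c := by
    rw [hc]
    split_ifs <;> omega
  have hρ : 1 ≤ (2 * d) / c := Nat.div_pos hcn hc0
  have hdiv : (2 * d) % c + c * ((2 * d) / c) = 2 * d := Nat.mod_add_div (2 * d) c
  have hcard := Cfsg.Agent.Helper43.CycFactors.cycJ_card_mul (p := p)
    (rfl : Fintype.card F = Fintype.card F) hr hrp
  have hne : (Cfsg.Agent.Helper43.CycFactors.cycJ F r).Nonempty := by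
    rw [Finset.nonempty_iff_ne_empty]
    intro h
    rw [h, Finset.card_empty, zero_mul] at hcard
    have := hr.two_le
    omega
  obtain ⟨P₀, hP₀⟩ := hne
  obtain ⟨u, hu⟩ : ∃ u, u = (2 * d) / c := ⟨_, rfl⟩
  rw [← hu] at hρ hdiv hcond
  by_cases hev : Even i
  · rw [if_pos hev] at hc
    subst hc
    refine npbx_key p d hd r hr2 hrp ((2 * d) % c) (fun P => if P = P₀ then u else 0) ?_
      ⟨P₀, hP₀, ?_⟩ ?_ ?_
    · intro P hP
      show (if Cfsg.Agent.Helper43.SpReal.star P = P₀ then u else 0) = if P = P₀ then u else 0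
      rw [Cfsg.Agent.Helper43.StarPoly.star_eq_self_of_even (p := p)
        (rfl : Fintype.card F = Fintype.card F) hr hrp (hi ▸ hev) hP]
    · show (if P₀ = P₀ then u else 0) ≠ 0
      rw [if_pos rfl]
      omega
    · rw [Finset.sum_ite_eq', if_pos hP₀, ← hi]
      exact hdiv
    · rw [Finset.sum_ite_eq', if_pos hP₀, ← hi]
      exact hcond
  · rw [if_neg hev] at hc
    subst hc
    have hio : Odd i := Nat.not_even_iff_odd.mp hev
    have hP₀' := Cfsg.Agent.Helper43.CycFactors.mem_cycJ.mp hP₀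
    have hsP₀ : Cfsg.Agent.Helper43.SpReal.star P₀ ∈ Cfsg.Agent.Helper43.CycFactors.cycJ F r :=
      Cfsg.Agent.Helper43.StarPoly.star_mem_cycJ hr hrF hP₀
    have hss₀ : Cfsg.Agent.Helper43.SpReal.star (Cfsg.Agent.Helper43.SpReal.star P₀) = P₀ :=
      Cfsg.Agent.Helper43.StarPoly.star_star hP₀'.1
        (Cfsg.Agent.Helper43.StarPoly.coeff_zero_ne_of_mem hr hP₀)
    refine npbx_key p d hd r hr2 hrp ((2 * d) % (2 * i))
      (fun P => (if P = P₀ then u else 0) +
        (if P = Cfsg.Agent.Helper43.SpReal.star P₀ then u else 0)) ?_ ⟨P₀, hP₀, ?_⟩ ?_ ?_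
    · intro P hP
      have hP' := Cfsg.Agent.Helper43.CycFactors.mem_cycJ.mp hP
      have hss : Cfsg.Agent.Helper43.SpReal.star (Cfsg.Agent.Helper43.SpReal.star P) = P :=
        Cfsg.Agent.Helper43.StarPoly.star_star hP'.1
          (Cfsg.Agent.Helper43.StarPoly.coeff_zero_ne_of_mem hr hP)
      have e1 : Cfsg.Agent.Helper43.SpReal.star P = P₀ ↔
          P = Cfsg.Agent.Helper43.SpReal.star P₀ := by
        constructor
        · intro h
          rw [← h, hss]
        · intro h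
          rw [h, hss₀]
      have e2 : Cfsg.Agent.Helper43.SpReal.star P = Cfsg.Agent.Helper43.SpReal.star P₀ ↔
          P = P₀ := by
        constructor
        · intro h
          rw [← hss, h, hss₀]
        · intro h
          rw [h]
      show (if Cfsg.Agent.Helper43.SpReal.star P = P₀ then u else 0) +
        (if Cfsg.Agent.Helper43.SpReal.star P = Cfsg.Agent.Helper43.SpReal.star P₀ then u
          else 0) = (if P = P₀ then u else 0) +
        (if P = Cfsg.Agent.Helper43.SpReal.star P₀ then u else 0)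
      rw [if_congr e1 rfl rfl, if_congr e2 rfl rfl, add_comm]
    · show (if P₀ = P₀ then u else 0) +
        (if P₀ = Cfsg.Agent.Helper43.SpReal.star P₀ then u else 0) ≠ 0
      rw [if_pos rfl]
      omega
    · rw [Finset.sum_add_distrib, Finset.sum_ite_eq', Finset.sum_ite_eq', if_pos hP₀,
        if_pos hsP₀, ← hi]
      have h3 : i * (u + u) = 2 * i * u := by ring
      omega
    · left
      rw [← hi]
      exact hio

end stages

end Cfsg.Agent.Helper48.NP5989
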