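/-
CALL NP (helper13; row S5989), stage BADDIR (helper48, double): `np_bad`, statement verbatim from
tools/calls/NPSkel.lean.txt.  Uses BADX (Helper48.NPBADX) and NDSUBCARD (Helper70.NPNDSUBCARD).
-/
import Mathlib
import Cfsg.Prelude.Def_GeometricClasses
import Cfsg.Prelude.Def_Classical
import Cfsg.Agent.Helper13.NPDefs
import Cfsg.Agent.Helper96.OHDefs
import Cfsg.Agent.Helper31.OHOFIX
import Cfsg.Agent.Helper37.OHOFIXCONGR
import Cfsg.Agent.Helper96.OHCDVD
import Cfsg.Agent.Helper73.OHOBADDIR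
import Cfsg.Agent.Helper35.TSSTDP
import Cfsg.Agent.Helper35.TBXODD
import Cfsg.Agent.Helper80.TSNONSCAL
import Cfsg.Agent.Helper70.NPNDSUBCARD
import Cfsg.Agent.Helper48.NPBADX

set_option autoImplicit false
set_option linter.unusedSectionVars false
set_option linter.unusedVariables false

namespace Cfsg.Agent.Helper48.NP5989

open Module Cfsg Cfsg.Geo Cfsg.Agent.Helper13.NP Cfsg.Agent.Helper96.OH
open scoped MatrixGroups
open Cfsg.Agent.Helper70.NP5989 (np_nd_sub_card)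

section gen

variable {ι : Type} [Fintype ι] [DecidableEq ι] {F : Type*} [Field F] (Q : (ι → F) → F)

/-- an injective isometry maps the orbit of `W₀` to itself -/
theorem npbd_map_pres (T : Module.End F (ι → F)) (hT : OPres Q T) (hinj : Function.Injective T)
    (W₀ : Submodule F (ι → F)) (m : ℕ) (W : Submodule F (ι → F)) (hW : NPX Q W₀ m W) :
    NPX Q W₀ m (W.map T) := by
  obtain ⟨hW1, hW2, e, he⟩ := hW
  have hT' : ∀ v, Q (T v) = Q v := hT
  have hpol : ∀ u v, QuadraticMap.polar Q (T u) (T v) = QuadraticMap.polar Q u v := by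
    intro u v
    unfold QuadraticMap.polar
    rw [← map_add, hT', hT', hT']
  have hfr : ∀ U : Submodule F (ι → F), finrank F (U.map T) = finrank F U := fun U =>
    (Submodule.equivMapOfInjective T hinj U).symm.finrank_eq
  refine ⟨?_, ?_, ?_⟩
  · rw [hfr, hW1]
  · rintro _ ⟨u₀, hu₀, rfl⟩ hne
    have hu0 : u₀ ≠ 0 := by
      rintro rfl
      exact hne (map_zero _)
    obtain ⟨⟨x, hx, hx1⟩, ⟨x', hx', hx1'⟩⟩ := hW2 u₀ hu₀ hu0
    refine ⟨⟨T x, Submodule.mem_map_of_mem hx, ?_⟩, ⟨T x', Submodule.mem_map_of_mem hx', ?_⟩⟩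
    · rw [hpol]
      exact hx1
    · rw [hpol]
      exact hx1'
  · refine ⟨(Submodule.equivMapOfInjective T hinj W).symm.trans e, fun w => ?_⟩
    rw [LinearEquiv.trans_apply, he]
    have h1 : T (((Submodule.equivMapOfInjective T hinj W).symm w : W) : ι → F) = (w : ι → F) := by
      rw [← Submodule.coe_equivMapOfInjective_apply T hinj W, LinearEquiv.apply_symm_apply]
    rw [← h1, hT']

end gen

section stages

variable {F : Type*} [Field F] [Fintype F]

theorem npbd_card (d : ℕ) : Fintype.card (Fin d ⊕ Fin d) = 2 * d := by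
  rw [Fintype.card_sum, Fintype.card_fin]
  omega

/-- BADDIR [L, level 3] = stage BAD. -/
theorem np_bad (p : ℕ) [Fact p.Prime] [CharP F p] (q : ℕ) (hq : Fintype.card F = q)
    (hodd : Odd q) (d m : ℕ) (hd : 4 ≤ d) (hm : Odd m) (hmd : m < d)
    (W₀ : Submodule F (Fin d ⊕ Fin d → F))
    (hW₀ : Module.finrank F ↥W₀ = m ∧
      IsNondegenerateOn (QuadraticMap.polar (Cfsg.quadFormPlus d F)) W₀)
    (r : ℕ) [Fact r.Prime] (hr2 : 2 < r) (hrp : r ≠ p)
    (hrΩ : r ∣ Nat.card {W : Submodule F (Fin d ⊕ Fin d → F) //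
      NPX (Cfsg.quadFormPlus d F) W₀ m W})
    (i c : ℕ) (hi : i = orderOf ((q : ℕ) : ZMod r)) (hc : c = if Even i then i else 2 * i)
    (hL : ∀ x : GL (Fin d ⊕ Fin d) F, x ∈ Cfsg.Geo.omegaGL (Cfsg.quadFormPlus d F) →
      (∃ z : F, ((x ^ r : GL (Fin d ⊕ Fin d) F) : Matrix (Fin d ⊕ Fin d) (Fin d ⊕ Fin d) F) =
        z • (1 : Matrix (Fin d ⊕ Fin d) (Fin d ⊕ Fin d) F)) →
      (∀ z : F, (x : Matrix (Fin d ⊕ Fin d) (Fin d ⊕ Fin d) F) ≠
        z • (1 : Matrix (Fin d ⊕ Fin d) (Fin d ⊕ Fin d) F)) →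
      NPFix (Cfsg.quadFormPlus d F) W₀ m (x : Matrix (Fin d ⊕ Fin d) (Fin d ⊕ Fin d) F)) :
    (Odd i ∧ c ≤ m ∧ 0 < m % c ∧ m % c < (2 * d) % c) ∨
      (Even i ∧ (((2 * d) % c = 0 ∧ Odd ((2 * d) / i)) ∨
        (i ≤ m ∧ 0 < m % c ∧ m % c < (2 * d) % c))) := by
  classical
  subst hq
  have hrpr : r.Prime := Fact.out
  have hr0 : 0 < r := hrpr.pos
  have hrodd : Odd r := hrpr.odd_of_ne_two (by omega)
  have h2 : (2 : F) ≠ 0 := by
    intro h
    have hp2 : p = 2 := by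
      have h3 : ((2 : ℕ) : F) = 0 := by exact_mod_cast h
      rw [CharP.cast_eq_zero_iff F p] at h3
      exact (Nat.prime_dvd_prime_iff_eq Fact.out Nat.prime_two).mp h3
    obtain ⟨n, -, hn⟩ := FiniteField.card F p
    rw [hn, hp2] at hodd
    exact (Nat.not_odd_iff_even.mpr (Nat.even_pow.mpr ⟨even_two, n.pos.ne'⟩)) hodd
  obtain ⟨hrF, -⟩ := Cfsg.Agent.Helper13.TIsp.ti_char_facts (F := F) p r hrp
  have hQ : IsNondegenerateQuadraticForm (Cfsg.quadFormPlus d F) :=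
    (Cfsg.Agent.Helper35.TS5973.ts_std_plus d).1
  obtain ⟨Q, hQdef⟩ : ∃ Q : (Fin d ⊕ Fin d → F) → F, Q = Cfsg.quadFormPlus d F := ⟨_, rfl⟩
  rw [← hQdef] at hW₀ hrΩ hL hQ
  have hi0 : 0 < i := by
    rw [hi]
    exact Cfsg.Agent.Helper13.TIsp.ti_ord_pos_of_ne r hrF
  have hc0 : 0 < c := by
    rw [hc]
    split_ifs <;> omega
  have h2c : 2 ∣ c := by
    rw [hc]
    split_ifs with hie
    · exact even_iff_two_dvd.mp hie
    · exact dvd_mul_right 2 i
  have hn' : finrank F (⊤ : Submodule F (Fin d ⊕ Fin d → F)) = 2 * d := by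
    rw [finrank_top, Module.finrank_fintype_fun_eq_card, npbd_card]
  have hW₀X : NPX Q W₀ m W₀ := ⟨hW₀.1, hW₀.2, ⟨LinearEquiv.refl F W₀, fun w => rfl⟩⟩
  have hklt : (2 * d) % c < c := Nat.mod_lt _ hc0
  -- (1) `c ≤ 2 d`
  have hcn : c ≤ 2 * d := by
    by_contra hlt
    push Not at hlt
    have h3 := np_nd_sub_card Q hQ h2 r hr2 hrF i c hi hc m ⊤ (ond_top Q hQ)
      (by rw [hn']; exact hlt) W₀ W₀ ⟨hW₀X, le_top⟩
    apply h3
    have h4 : Nat.card {W : Submodule F (Fin d ⊕ Fin d → F) // NPX Q W₀ m W ∧ W ≤ ⊤} =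
        Nat.card {W : Submodule F (Fin d ⊕ Fin d → F) // NPX Q W₀ m W} := by
      apply Nat.card_congr
      apply Equiv.subtypeEquivRight
      intro W
      exact and_iff_left le_top
    rw [h4]
    exact hrΩ
  -- (2)
  by_cases hcase : Even i ∧ (2 * d) % c = 0 ∧ Odd ((2 * d) / i)
  · exact Or.inr ⟨hcase.1, Or.inl ⟨hcase.2.1, hcase.2.2⟩⟩
  -- (3)
  have hcond : Odd i ∨ 0 < (2 * d) % c ∨ Even ((2 * d) / c) := by
    by_cases hio : Odd i
    · exact Or.inl hio
    · have hie : Even i := Nat.not_odd_iff_even.mp hio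
      have hci : c = i := by rw [hc, if_pos hie]
      by_cases he : 0 < (2 * d) % c
      · exact Or.inr (Or.inl he)
      · right
        right
        rw [hci]
        by_contra hne
        exact hcase ⟨hie, by omega, Nat.not_even_iff_odd.mp hne⟩
  obtain ⟨g, hg, hgr, hgfix⟩ := np_bad_x (F := F) p d (by omega) r hr2 hrp i c hi hc hcn hcond
  rw [← hQdef] at hg
  obtain ⟨T, hTdef⟩ : ∃ T : Module.End F (Fin d ⊕ Fin d → F),
      T = Matrix.toLin' (g : Matrix (Fin d ⊕ Fin d) (Fin d ⊕ Fin d) F) := ⟨_, rfl⟩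
  rw [← hTdef] at hgfix
  have hT : OPres Q T := by
    rw [hTdef]
    exact Cfsg.Agent.Helper73.OH5992.obd_opres Q g hg
  have hTr : T ^ r = 1 := by
    rw [hTdef]
    exact Cfsg.Agent.Helper73.OH5992.obd_pow_one g r hgr
  have hg1 : g ^ r = 1 := by
    rw [← hgr]
    exact pow_orderOf_eq_one g
  have hgne : g ≠ 1 := by
    intro h
    rw [h, orderOf_one] at hgr
    exact hrpr.one_lt.ne hgr
  have hgΩ : g ∈ Cfsg.Geo.omegaGL Q :=
    Cfsg.Agent.Helper35.TB.tb_xodd Q hQ (by rw [npbd_card]; omega) g hg r hrodd hg1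
  have hns := Cfsg.Agent.Helper80.TS5973.ts_nonscalar Q hQ r hrodd g hg hg1 hgne
  obtain ⟨W, hWX, hWT⟩ := hL g hgΩ ⟨1, by rw [hg1, one_smul]; rfl⟩ hns
  rw [← hTdef] at hWT
  have hana : ∀ W : Submodule F (Fin d ⊕ Fin d → F), NPX Q W₀ m W → W.map T ≤ W →
      c ∣ m - finrank F (W ⊓ LinearMap.ker (T - 1) : Submodule F (Fin d ⊕ Fin d → F)) := by
    intro W hW hW3
    have h3 := Cfsg.Agent.Helper96.OH5992.o_cdvd Q hQ h2 T hT r hr2 hrF hTr i c hi hc W hW3 hW.2.1
    rwa [hW.1] at h3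
  have hKnd : ONd Q (LinearMap.ker (T - 1)) := by
    have h := (Cfsg.Agent.Helper31.OH5992.o_fix Q hQ T hT r hr0 hrF hTr ⊤ le_top (ond_top Q hQ)).1
    rwa [top_inf_eq] at h
  have hinjT : Function.Injective T := by
    have hinv : ∀ v, (T ^ (r - 1)) (T v) = v := by
      intro v
      have h : T ^ (r - 1) * T = 1 := by
        rw [← pow_succ, Nat.sub_add_cancel hr0, hTr]
      have h3 := congrArg (fun S : Module.End F (Fin d ⊕ Fin d → F) => S v) h
      simpa using h3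
    intro u v huv
    rw [← hinv u, ← hinv v, huv]
  -- `c ≤ m`
  have hcm : c ≤ m := by
    by_contra hlt
    push Not at hlt
    have hinK : ∀ W : Submodule F (Fin d ⊕ Fin d → F), NPX Q W₀ m W →
        W.map T ≤ W → W ≤ LinearMap.ker (T - 1) := by
      intro W hW hW3
      have h4 := hana W hW hW3
      have h5 : finrank F (W ⊓ LinearMap.ker (T - 1) : Submodule F (Fin d ⊕ Fin d → F)) ≤
          finrank F W := Submodule.finrank_mono inf_le_left
      have h6 := Nat.eq_zero_of_dvd_of_lt h4 (by omega)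
      have h7 : W ⊓ LinearMap.ker (T - 1) = W :=
        Submodule.eq_of_le_of_finrank_eq inf_le_left (by rw [hW.1]; rw [hW.1] at h5; omega)
      rw [← h7]
      exact inf_le_right
    have h1 := Cfsg.Agent.Helper37.OH5992.o_fix_congr T r hTr (fun W => NPX Q W₀ m W)
      (fun W hW => npbd_map_pres Q T hT hinjT W₀ m W hW)
    have h2' := (h1.dvd_iff (dvd_refl r)).mp hrΩ
    have h3 : Nat.card {W : Submodule F (Fin d ⊕ Fin d → F) // NPX Q W₀ m W ∧ W.map T ≤ W} =
        Nat.card {W : Submodule F (Fin d ⊕ Fin d → F) //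
          NPX Q W₀ m W ∧ W ≤ LinearMap.ker (T - 1)} := by
      apply Nat.card_congr
      apply Equiv.subtypeEquivRight
      intro W
      constructor
      · rintro ⟨hW1, hW3⟩
        exact ⟨hW1, hinK W hW1 hW3⟩
      · rintro ⟨hW1, hW3⟩
        refine ⟨hW1, ?_⟩
        rintro _ ⟨w, hw, rfl⟩
        rw [(Cfsg.Agent.Helper90.BG.mem_ker_sub_one T w).mp (hW3 hw)]
        exact hw
    rw [h3] at h2'
    exact np_nd_sub_card Q hQ h2 r hr2 hrF i c hi hc m (LinearMap.ker (T - 1)) hKnd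
      (by omega) W₀ W ⟨hWX, hinK W hWX hWT⟩ h2'
  -- the residues
  have h4 := hana W hWX hWT
  have h5 : finrank F (W ⊓ LinearMap.ker (T - 1) : Submodule F (Fin d ⊕ Fin d → F)) ≤
      finrank F W := Submodule.finrank_mono inf_le_left
  have h6 : finrank F (W ⊓ LinearMap.ker (T - 1) : Submodule F (Fin d ⊕ Fin d → F)) ≤
      finrank F (LinearMap.ker (T - 1)) := Submodule.finrank_mono inf_le_right
  rw [hWX.1] at h5
  obtain ⟨j, hj⟩ := h4
  have h7 : m = finrank F (W ⊓ LinearMap.ker (T - 1) : Submodule F (Fin d ⊕ Fin d → F)) +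
      c * j := by omega
  have h8 : m % c = finrank F (W ⊓ LinearMap.ker (T - 1) : Submodule F (Fin d ⊕ Fin d → F)) := by
    conv_lhs => rw [h7]
    rw [Nat.add_mul_mod_self_left]
    exact Nat.mod_eq_of_lt (by omega)
  have hpar1 : m % c % 2 = m % 2 := Nat.mod_mod_of_dvd m h2c
  have hpar2 : (2 * d) % c % 2 = (2 * d) % 2 := Nat.mod_mod_of_dvd (2 * d) h2c
  have hm2' : m % 2 = 1 := Nat.odd_iff.mp hm
  have hpos : 0 < m % c := by omega
  have hlt : m % c < (2 * d) % c := by omega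
  by_cases hio : Odd i
  · exact Or.inl ⟨hio, hcm, hpos, hlt⟩
  · have hie : Even i := Nat.not_odd_iff_even.mp hio
    have hci : c = i := by rw [hc, if_pos hie]
    exact Or.inr ⟨hie, Or.inr ⟨by omega, hpos, hlt⟩⟩

end stages

end Cfsg.Agent.Helper48.NP5989
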