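/-
helper48: `p`-minimal groups (`Cfsg.IsPMinimal`): a proper overgroup of a Sylow `p`-subgroup `S`
lies in the unique maximal subgroup `M ⊇ S`; normal subgroups contain `O^p(P)` or lie in
`core(M)`; subnormal subgroups inside `M` meet `S` inside `O_p(P)`; `O^p(P)` `p`-closed forces
at most two prime divisors.
-/
import Cfsg.Agent.Helper47.Basic
import Cfsg.Agent.Helper52.Subnormal
import Cfsg.Agent.Helper22.Fitting
import Cfsg.Agent.Helper48.CoprimeGen2
import Cfsg.Agent.Helper48.PGroupLemmas
import Cfsg.Prelude.Def_LocalEven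

set_option autoImplicit false

namespace Cfsg.Agent.Helper48

open Cfsg

section

variable {P : Type*} [Group P] [Finite P] {p : ℕ} [Fact p.Prime]

omit [Fact p.Prime] in
/-- In a `p`-minimal group, a proper subgroup containing the Sylow `p`-subgroup `S` lies in the
maximal subgroup `M ⊇ S`. -/
theorem pMinimal_le_of_sylow_le (hP : IsPMinimal p P) (S : Sylow p P) {M : Subgroup P}
    (hM : IsCoatom M) (hSM : (S : Subgroup P) ≤ M) {X : Subgroup P}
    (hSX : (S : Subgroup P) ≤ X) (hX : X ≠ ⊤) : X ≤ M := by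
  obtain ⟨M', hM', hXM'⟩ := (eq_top_or_exists_le_coatom X).resolve_left hX
  obtain ⟨-, M₀, -, huniq⟩ := hP S
  have h1 := huniq M' ⟨hM', hSX.trans hXM'⟩
  have h2 := huniq M ⟨hM, hSM⟩
  rw [h2, ← h1]; exact hXM'

omit [Finite P] [Fact p.Prime] in
/-- A normal `p`-subgroup lies in every Sylow `p`-subgroup. -/
theorem pCore_le_sylow (S : Sylow p P) : pCore p P ≤ (S : Subgroup P) := by
  have h1 : IsPGroup p ↥(pCore p P ⊔ (S : Subgroup P)) :=
    IsPGroup.to_sup_of_normal_left (Cfsg.Agent.Helper22.pCore_isPGroup p P) S.isPGroup'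
  have h2 := S.is_maximal' h1 le_sup_right
  rw [← h2]; exact le_sup_left

/-- In a `p`-minimal group every normal subgroup contains `O^p(P)` or lies in the core of the
maximal subgroup containing `S`. -/
theorem pMinimal_pResidual_le_or_le_normalCore (hP : IsPMinimal p P) (S : Sylow p P)
    {M : Subgroup P} (hM : IsCoatom M) (hSM : (S : Subgroup P) ≤ M) (N : Subgroup P)
    (hN : N.Normal) : pResidual p P ≤ N ∨ N ≤ M.normalCore := by
  by_cases h : N ⊔ (S : Subgroup P) = ⊤
  · left
    apply Cfsg.Agent.Helper47.pResidual_le_of_quotient_isPGroup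
    intro q
    obtain ⟨g, rfl⟩ := QuotientGroup.mk_surjective q
    have hg : g ∈ ((N ⊔ (S : Subgroup P) : Subgroup P) : Set P) := by rw [h]; trivial
    rw [Subgroup.normal_mul] at hg
    obtain ⟨n, hn, s, hs, rfl⟩ := Set.mem_mul.mp hg
    obtain ⟨k, hk⟩ := S.isPGroup' ⟨s, hs⟩
    have hk' : s ^ p ^ k = 1 := congrArg Subtype.val hk
    refine ⟨k, ?_⟩
    have h1 : ((n * s : P) : P ⧸ N) = (s : P ⧸ N) := by
      rw [QuotientGroup.mk_mul, (QuotientGroup.eq_one_iff n).mpr hn, one_mul]
    rw [h1, ← QuotientGroup.mk_pow, hk', QuotientGroup.mk_one]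
  · right
    have hle := pMinimal_le_of_sylow_le hP S hM hSM le_sup_right h
    exact Subgroup.normal_le_normalCore.mpr (le_sup_left.trans hle)

/-- `core(M) < O^p(P) core(M)` in a `p`-minimal group. -/
theorem pMinimal_normalCore_lt (S : Sylow p P)
    {M : Subgroup P} (hM : IsCoatom M) (hSM : (S : Subgroup P) ≤ M) :
    M.normalCore < pResidual p P ⊔ M.normalCore := by
  apply lt_of_le_of_ne le_sup_right
  intro h
  have h1 : pResidual p P ≤ M := by
    have : pResidual p P ≤ M.normalCore := by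
      rw [h]; exact le_sup_left
    exact this.trans (Subgroup.normalCore_le M)
  have h2 := Cfsg.Agent.Helper47.pResidual_sup_sylow S
  have h3 : (⊤ : Subgroup P) ≤ M := by
    rw [← h2]; exact sup_le h1 hSM
  exact hM.1 (top_le_iff.mp h3)

/-- In a `p`-minimal group, a subnormal subgroup contained in the maximal subgroup `M ⊇ S`
meets `S` inside `O_p(P)`. -/
theorem pMinimal_subnormal_inf_le_pCore (hP : IsPMinimal p P) (S : Sylow p P)
    {M : Subgroup P} (hM : IsCoatom M) (hSM : (S : Subgroup P) ≤ M) (N : Subgroup P)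
    (hN : N.IsSubnormal) (hNM : N ≤ M) : N ⊓ (S : Subgroup P) ≤ pCore p P := by
  obtain ⟨W, hW⟩ : ∃ W : Subgroup P, W = sSup {N' : Subgroup P | N'.IsSubnormal ∧ N' ≤ M} :=
    ⟨_, rfl⟩
  have hWsub : W.IsSubnormal := by
    rw [hW]; exact Cfsg.Agent.Helper52.subnormal_sSup _ (fun U hU => hU.1)
  have hWM : W ≤ M := by
    rw [hW]; exact sSup_le (fun U hU => hU.2)
  have hconj : ∀ m ∈ M, ∀ w ∈ W, m * w * m⁻¹ ∈ W := by
    intro m hm
    have hle : W ≤ W.comap (MulAut.conj m).toMonoidHom := by
      conv_lhs => rw [hW]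
      apply sSup_le
      intro U hU
      rw [← Subgroup.map_le_iff_le_comap, hW]
      apply le_sSup
      refine ⟨hU.1.map (MulAut.conj m).surjective, ?_⟩
      rintro _ ⟨u, hu, rfl⟩
      exact M.mul_mem (M.mul_mem hm (hU.2 hu)) (M.inv_mem hm)
    intro w hw
    exact hle hw
  have hMW : M ≤ Subgroup.normalizer (W : Set P) := by
    intro m hm
    rw [Subgroup.mem_normalizer_iff]
    intro w
    constructor
    · exact hconj m hm w
    · intro h
      have := hconj m⁻¹ (M.inv_mem hm) _ h
      have h2 : m⁻¹ * (m * w * m⁻¹) * m⁻¹⁻¹ = w := by group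
      rw [h2] at this; exact this
  have hWn : W.Normal := by
    rcases Subgroup.IsSubnormal.iff_eq_top_or_exists.mp hWsub with h | ⟨W₁, hlt, hW₁, hnorm⟩
    · rw [h] at hWM
      exact absurd (top_le_iff.mp hWM) hM.1
    · have hW₁M : ¬ W₁ ≤ M := by
        intro h
        have : W₁ ≤ W := by rw [hW]; exact le_sSup ⟨hW₁, h⟩
        exact absurd this (not_le_of_gt hlt)
      have htop : W₁ ⊔ (S : Subgroup P) = ⊤ := by
        by_contra h
        exact hW₁M (le_sup_left.trans (pMinimal_le_of_sylow_le hP S hM hSM le_sup_right h))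
      have hW₁N : W₁ ≤ Subgroup.normalizer (W : Set P) :=
        (Subgroup.normal_subgroupOf_iff_le_normalizer hlt.le).mp hnorm
      have hNtop : Subgroup.normalizer (W : Set P) = ⊤ := by
        rw [eq_top_iff, ← htop]
        exact sup_le hW₁N (hSM.trans hMW)
      exact Subgroup.normalizer_eq_top_iff.mp hNtop
  have hWF : W ≤ M.normalCore := Subgroup.normal_le_normalCore.mpr hWM
  have hFS : M.normalCore ⊓ (S : Subgroup P) ≤ pCore p P := by
    have hfr := Sylow.normalizer_sup_eq_top (Cfsg.Agent.Helper47.sylowInfNormal S M.normalCore)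
    rw [Cfsg.Agent.Helper47.sylowInfNormal_map] at hfr
    have hSN : (S : Subgroup P) ≤
        Subgroup.normalizer (((S : Subgroup P) ⊓ M.normalCore : Subgroup P) : Set P) := by
      intro s hs
      rw [Subgroup.mem_normalizer_iff]
      intro x
      constructor
      · intro hx
        exact ⟨(S : Subgroup P).mul_mem ((S : Subgroup P).mul_mem hs hx.1)
          ((S : Subgroup P).inv_mem hs), (M.normalCore_normal).conj_mem x hx.2 s⟩
      · intro hx
        have h1 : s⁻¹ * (s * x * s⁻¹) * s⁻¹⁻¹ = x := by group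
        rw [← h1]
        exact ⟨(S : Subgroup P).mul_mem ((S : Subgroup P).mul_mem ((S : Subgroup P).inv_mem hs)
          hx.1) ((S : Subgroup P).inv_mem ((S : Subgroup P).inv_mem hs)),
          (M.normalCore_normal).conj_mem _ hx.2 s⁻¹⟩
    have hNtop : Subgroup.normalizer (((S : Subgroup P) ⊓ M.normalCore : Subgroup P) : Set P)
        = ⊤ := by
      by_contra h
      have h1 := pMinimal_le_of_sylow_le hP S hM hSM hSN h
      have h2 : (⊤ : Subgroup P) ≤ M := by
        rw [← hfr]; exact sup_le h1 (Subgroup.normalCore_le M)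
      exact hM.1 (top_le_iff.mp h2)
    have hnormal : ((S : Subgroup P) ⊓ M.normalCore).Normal :=
      Subgroup.normalizer_eq_top_iff.mp hNtop
    rw [inf_comm]
    exact le_sSup ⟨hnormal, S.isPGroup'.to_le inf_le_left⟩
  have hNW : N ≤ W := by rw [hW]; exact le_sSup ⟨hN, hNM⟩
  exact (inf_le_inf_right _ (hNW.trans hWF)).trans hFS

omit [Fact p.Prime] in
/-- A subgroup containing one Sylow subgroup for every prime is the whole group. -/
theorem eq_top_of_forall_exists_sylow_le (T : Subgroup P)
    (h : ∀ (t : ℕ) [Fact t.Prime], ∃ D : Sylow t P, (D : Subgroup P) ≤ T) : T = ⊤ := by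
  rw [← Subgroup.index_eq_one, Nat.eq_one_iff_not_exists_prime_dvd]
  intro t ht hdvd
  have : Fact t.Prime := ⟨ht⟩
  obtain ⟨D, hD⟩ := h t
  exact D.not_dvd_index (hdvd.trans (Subgroup.index_dvd_of_le hD))

/-- If `O^p(P)` has a normal Sylow `p`-subgroup in the `p`-minimal group `P`, then at most two
primes divide the order of `P`. -/
theorem pMinimal_card_primeFactors_le_two (hP : IsPMinimal p P) (S : Sylow p P) {M : Subgroup P}
    (hM : IsCoatom M) (hSM : (S : Subgroup P) ≤ M)
    (hT : ∀ T : Sylow p ↥(pResidual p P), (T : Subgroup ↥(pResidual p P)).Normal) :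
    (Nat.card P).primeFactors.card ≤ 2 := by
  have hp : p.Prime := Fact.out
  obtain ⟨T⟩ : Nonempty (Sylow p ↥(pResidual p P)) := inferInstance
  have hTn := hT T
  have hTall : ∀ x : P, x ∈ pResidual p P → ∀ k : ℕ, x ^ p ^ k = 1 → x ∈ pCore p P := by
    intro x hx k hk
    have hT₀ : (T : Subgroup ↥(pResidual p P)).map (pResidual p P).subtype ≤ pCore p P :=
      Cfsg.Agent.Helper22.le_pCore_of_isSubnormal p
        (hTn.isSubnormal.trans' (Cfsg.Agent.Helper47.pResidual_normal).isSubnormal)
        (T.isPGroup'.map _)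
    apply hT₀
    have hz : IsPGroup p ↥(Subgroup.zpowers (⟨x, hx⟩ : ↥(pResidual p P))) := by
      have h1 : orderOf (⟨x, hx⟩ : ↥(pResidual p P)) ∣ p ^ k := by
        rw [Subgroup.orderOf_mk]; exact orderOf_dvd_of_pow_eq_one hk
      obtain ⟨j, -, hj⟩ := (Nat.dvd_prime_pow hp).mp h1
      exact IsPGroup.of_card (n := j) (by rw [Nat.card_zpowers, hj])
    obtain ⟨T', hT'⟩ := hz.exists_le_sylow
    obtain ⟨g, hg⟩ := MulAction.exists_smul_eq ↥(pResidual p P) T T'
    have hTT' : T' = T := by rw [← hg]; exact Sylow.smul_eq_of_normal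
    exact ⟨⟨x, hx⟩, hTT' ▸ hT' (Subgroup.mem_zpowers _), rfl⟩
  obtain ⟨π, hπdef⟩ : ∃ π : P →* P ⧸ pCore p P, π = QuotientGroup.mk' (pCore p P) := ⟨_, rfl⟩
  have hπ : Function.Surjective π := by rw [hπdef]; exact QuotientGroup.mk'_surjective _
  have hker : π.ker = pCore p P := by rw [hπdef]; exact QuotientGroup.ker_mk' _
  have hπ1 : ∀ x : P, π x = 1 ↔ x ∈ pCore p P := by
    intro x
    constructor
    · intro h
      have h1 : x ∈ π.ker := MonoidHom.mem_ker.mpr h
      rwa [hker] at h1
    · intro h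
      have h1 : x ∈ π.ker := by rw [hker]; exact h
      exact MonoidHom.mem_ker.mp h1
  have hRn : ((pResidual p P).map π).Normal :=
    Subgroup.Normal.map (Cfsg.Agent.Helper47.pResidual_normal) π hπ
  have hRelt : ∀ y ∈ (pResidual p P).map π, (orderOf y).Coprime p := by
    rintro _ ⟨x, hx, rfl⟩
    obtain ⟨a, m, hm, hxm⟩ := Nat.exists_eq_pow_mul_and_not_dvd (orderOf_pos x).ne' p hp.ne_one
    have h1 : (x ^ m) ^ p ^ a = 1 := by
      rw [← pow_mul, mul_comm, ← hxm]; exact pow_orderOf_eq_one x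
    have h2 : x ^ m ∈ pCore p P := hTall (x ^ m) (Subgroup.pow_mem _ hx m) a h1
    have h3 : (π x) ^ m = 1 := by rw [← map_pow]; exact (hπ1 _).mpr h2
    have h4 : orderOf (π x) ∣ m := orderOf_dvd_of_pow_eq_one h3
    exact Nat.Coprime.coprime_dvd_left h4 ((Nat.Prime.coprime_iff_not_dvd hp).mpr hm).symm
  have hRc : ¬ p ∣ Nat.card ↥((pResidual p P).map π) := by
    intro hdvd
    obtain ⟨y, hy⟩ := exists_prime_orderOf_dvd_card' p hdvd
    have h1 := hRelt y y.2
    rw [Subgroup.orderOf_coe, hy, Nat.coprime_self] at h1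
    exact hp.one_lt.ne' h1
  have hSp : IsPGroup p ↥((S : Subgroup P).map π) := S.isPGroup'.map π
  have hQM : pCore p P ≤ M := (pCore_le_sylow S).trans hSM
  have hcomapM : (M.map π).comap π = M := by
    rw [Subgroup.comap_map_eq, hker, sup_eq_left]; exact hQM
  by_cases hcase : ∃ t : ℕ, t.Prime ∧ ∀ y ∈ (pResidual p P).map π, ∃ k : ℕ, y ^ t ^ k = 1
  · obtain ⟨t, ht, hty⟩ := hcase
    have hsub : (Nat.card P).primeFactors ⊆ {p, t} := by
      intro r hr
      rw [Nat.mem_primeFactors] at hr
      obtain ⟨hrp, hrdvd, -⟩ := hr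
      rw [Finset.mem_insert, Finset.mem_singleton]
      by_contra hcon
      push Not at hcon
      obtain ⟨hrp', hrt⟩ := hcon
      have : Fact r.Prime := ⟨hrp⟩
      obtain ⟨x, hx⟩ := exists_prime_orderOf_dvd_card' r hrdvd
      have hxR : x ∈ pResidual p P :=
        Cfsg.Agent.Helper47.mem_pResidual_of_coprime
          (by rw [hx]; exact (Nat.coprime_primes hrp hp).mpr hrp')
      obtain ⟨k, hk⟩ := hty (π x) ⟨x, hxR, rfl⟩
      have h1 : (π x) ^ r = 1 := by rw [← map_pow, ← hx, pow_orderOf_eq_one, map_one]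
      have h2 : π x = 1 := by
        have hd1 : orderOf (π x) ∣ r := orderOf_dvd_of_pow_eq_one h1
        have hd2 : orderOf (π x) ∣ t ^ k := orderOf_dvd_of_pow_eq_one hk
        have hc : Nat.Coprime r (t ^ k) :=
          Nat.Coprime.pow_right k ((Nat.coprime_primes hrp ht).mpr hrt)
        exact orderOf_eq_one_iff.mp (Nat.eq_one_of_dvd_coprimes hc hd1 hd2)
      have h3 : x ∈ pCore p P := (hπ1 x).mp h2
      obtain ⟨j, hj⟩ := (Cfsg.Agent.Helper22.pCore_isPGroup p P) ⟨x, h3⟩
      have hj' : x ^ p ^ j = 1 := congrArg Subtype.val hj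
      have hd3 : orderOf x ∣ p ^ j := orderOf_dvd_of_pow_eq_one hj'
      rw [hx] at hd3
      exact hrp' ((Nat.prime_dvd_prime_iff_eq hrp hp).mp (hrp.dvd_of_dvd_pow hd3))
    calc (Nat.card P).primeFactors.card ≤ ({p, t} : Finset ℕ).card := Finset.card_le_card hsub
      _ ≤ 2 := Finset.card_le_two
  · exfalso
    push Not at hcase
    have hall : ∀ (t : ℕ) [Fact t.Prime], ∃ D : Sylow t ↥((pResidual p P).map π),
        (D : Subgroup ↥((pResidual p P).map π)) ≤
          (M.map π).subgroupOf ((pResidual p P).map π) := by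
      intro t _
      obtain ⟨D, hD⟩ := exists_invariant_sylow ((pResidual p P).map π) hRc
        ((S : Subgroup P).map π) hSp t
      refine ⟨D, ?_⟩
      obtain ⟨D', hD'⟩ : ∃ D' : Subgroup (P ⧸ pCore p P), D' =
          (D : Subgroup ↥((pResidual p P).map π)).map ((pResidual p P).map π).subtype := ⟨_, rfl⟩
      have hSnorm : (S : Subgroup P).map π ≤ Subgroup.normalizer (D' : Set (P ⧸ pCore p P)) := by
        intro a ha
        rw [hD']; exact hD a ha
      have hSX : (S : Subgroup P) ≤ (D' ⊔ (S : Subgroup P).map π).comap π := by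
        intro s hs
        exact Subgroup.mem_comap.mpr (Subgroup.mem_sup_right (Subgroup.mem_map_of_mem π hs))
      have hXne : (D' ⊔ (S : Subgroup P).map π).comap π ≠ ⊤ := by
        intro htop
        have h1 : D' ⊔ (S : Subgroup P).map π = ⊤ := by
          have := Subgroup.map_comap_eq_self_of_surjective hπ (D' ⊔ (S : Subgroup P).map π)
          rw [htop, Subgroup.map_top_of_surjective π hπ] at this
          exact this.symm
        obtain ⟨y, hy, hyk⟩ := hcase t Fact.out
        have hy' : y ∈ ((D' ⊔ (S : Subgroup P).map π : Subgroup (P ⧸ pCore p P)) :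
            Set (P ⧸ pCore p P)) := by rw [h1]; trivial
        rw [Subgroup.coe_mul_of_right_le_normalizer_left D' _ hSnorm] at hy'
        obtain ⟨d, hd, s, hs, hds⟩ := Set.mem_mul.mp hy'
        rw [SetLike.mem_coe, hD'] at hd
        obtain ⟨d₀, hd₀, hd₀d⟩ := hd
        have hdR : d ∈ (pResidual p P).map π := by
          rw [← hd₀d]; exact d₀.2
        have hsR : s ∈ (pResidual p P).map π := by
          have := Subgroup.mul_mem _ (Subgroup.inv_mem _ hdR) hy
          rw [← hds] at this
          simpa using this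
        have hs1 : s = 1 := eq_one_of_mem_isPGroup_of_mem_coprime hSp
          ((Nat.Prime.coprime_iff_not_dvd hp).mpr hRc).symm hs hsR
        have hyd : y = d := by rw [← hds, hs1, mul_one]
        obtain ⟨k, hk⟩ := D.isPGroup' ⟨d₀, hd₀⟩
        apply hyk k
        rw [hyd, ← hd₀d]
        have hk' : d₀ ^ t ^ k = 1 := congrArg Subtype.val hk
        have hk'' := congrArg Subtype.val hk'
        simpa using hk''
      have hXM := pMinimal_le_of_sylow_le hP S hM hSM hSX hXne
      intro d hd
      rw [Subgroup.mem_subgroupOf]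
      obtain ⟨x, hx⟩ := hπ (d : P ⧸ pCore p P)
      have hxX : x ∈ (D' ⊔ (S : Subgroup P).map π).comap π := by
        rw [Subgroup.mem_comap, hx, hD']
        exact Subgroup.mem_sup_left ⟨d, hd, rfl⟩
      rw [← hx]
      exact Subgroup.mem_map_of_mem π (hXM hxX)
    have htop := eq_top_of_forall_exists_sylow_le _ hall
    have hRM : pResidual p P ≤ M := by
      intro x hx
      have h1 : (⟨π x, ⟨x, hx, rfl⟩⟩ : ↥((pResidual p P).map π)) ∈
          (M.map π).subgroupOf ((pResidual p P).map π) := by rw [htop]; trivial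
      rw [Subgroup.mem_subgroupOf] at h1
      have h2 : x ∈ (M.map π).comap π := h1
      rw [hcomapM] at h2
      exact h2
    have h2 := Cfsg.Agent.Helper47.pResidual_sup_sylow S
    have h3 : (⊤ : Subgroup P) ≤ M := by
      rw [← h2]; exact sup_le hRM hSM
    exact hM.1 (top_le_iff.mp h3)

end

end Cfsg.Agent.Helper48
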