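/-
helper48: `p`-minimal groups with `O_p(P) = 1` and a component `K`:
`O^p(P) = F*(P) = E(P) = ⟨K^S⟩`, and `K N_S(K)` is again `p`-minimal.
-/
import Cfsg.Agent.Helper48.PMinimal
import Cfsg.Agent.Helper48.CoprimeGen
import Cfsg.Agent.Helper34.PCons2
import Cfsg.Agent.S0542
import Mathlib.GroupTheory.Frattini

set_option autoImplicit false

namespace Cfsg.Agent.Helper48

open Cfsg

section

variable {P : Type*} [Group P] [Finite P] {p : ℕ} [Fact p.Prime]

omit [Fact p.Prime] in
/-- In a `p`-minimal group, a subnormal subgroup contained in the maximal subgroup `M ⊇ S`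
lies in the core of `M`. -/
theorem pMinimal_subnormal_le_normalCore (hP : IsPMinimal p P) (S : Sylow p P)
    {M : Subgroup P} (hM : IsCoatom M) (hSM : (S : Subgroup P) ≤ M) (N : Subgroup P)
    (hN : N.IsSubnormal) (hNM : N ≤ M) : N ≤ M.normalCore := by
  obtain ⟨W, hW⟩ : ∃ W : Subgroup P, W = sSup {N' : Subgroup P | N'.IsSubnormal ∧ N' ≤ M} :=
    ⟨_, rfl⟩
  have hWsub : W.IsSubnormal := by
    rw [hW]; exact Cfsg.Agent.Helper52.subnormal_sSup _ (fun U hU => hU.1)
  have hWM : W ≤ M := by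
    rw [hW]; exact sSup_le (fun U hU => hU.2)
  have hconj : ∀ m ∈ M, ∀ w ∈ W, m * w * m⁻¹ ∈ W := by
    intro m hm
    have hle : W ≤ W.comap (MulAut.conj m).toMonoidHom := by
      conv_lhs => rw [hW]
      apply sSup_le
      intro U hU
      rw [← Subgroup.map_le_iff_le_comap, hW]
      apply le_sSup
      refine ⟨hU.1.map (MulAut.conj m).surjective, ?_⟩
      rintro _ ⟨u, hu, rfl⟩
      exact M.mul_mem (M.mul_mem hm (hU.2 hu)) (M.inv_mem hm)
    intro w hw
    exact hle hw
  have hMW : M ≤ Subgroup.normalizer (W : Set P) := by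
    intro m hm
    rw [Subgroup.mem_normalizer_iff]
    intro w
    constructor
    · exact hconj m hm w
    · intro h
      have := hconj m⁻¹ (M.inv_mem hm) _ h
      have h2 : m⁻¹ * (m * w * m⁻¹) * m⁻¹⁻¹ = w := by group
      rw [h2] at this; exact this
  have hWn : W.Normal := by
    rcases Subgroup.IsSubnormal.iff_eq_top_or_exists.mp hWsub with h | ⟨W₁, hlt, hW₁, hnorm⟩
    · rw [h] at hWM
      exact absurd (top_le_iff.mp hWM) hM.1
    · have hW₁M : ¬ W₁ ≤ M := by
        intro h
        have : W₁ ≤ W := by rw [hW]; exact le_sSup ⟨hW₁, h⟩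
        exact absurd this (not_le_of_gt hlt)
      have htop : W₁ ⊔ (S : Subgroup P) = ⊤ := by
        by_contra h
        exact hW₁M (le_sup_left.trans (pMinimal_le_of_sylow_le hP S hM hSM le_sup_right h))
      have hW₁N : W₁ ≤ Subgroup.normalizer (W : Set P) :=
        (Subgroup.normal_subgroupOf_iff_le_normalizer hlt.le).mp hnorm
      have hNtop : Subgroup.normalizer (W : Set P) = ⊤ := by
        rw [eq_top_iff, ← htop]
        exact sup_le hW₁N (hSM.trans hMW)
      exact Subgroup.normalizer_eq_top_iff.mp hNtop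
  have hWF : W ≤ M.normalCore := Subgroup.normal_le_normalCore.mpr hWM
  have hNW : N ≤ W := by rw [hW]; exact le_sSup ⟨hN, hNM⟩
  exact hNW.trans hWF

/-- Sylow conjugacy, elementwise. -/
theorem exists_conj_mem_sylow' (S T : Sylow p P) :
    ∃ g : P, ∀ x : P, x ∈ (T : Subgroup P) ↔ g⁻¹ * x * g ∈ (S : Subgroup P) := by
  obtain ⟨g, hg⟩ := MulAction.exists_smul_eq P S T
  refine ⟨g, fun x => ?_⟩
  rw [← hg, Sylow.coe_subgroup_smul, Subgroup.mem_pointwise_smul_iff_inv_smul_mem]
  simp [MulAut.smul_def]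

/-- In a `p`-minimal group, if the core of the maximal subgroup `M ⊇ S` has order prime to `p`
then it lies in the Frattini subgroup. -/
theorem pMinimal_normalCore_le_frattini (hP : IsPMinimal p P) (S : Sylow p P)
    {M : Subgroup P} (hM : IsCoatom M) (hSM : (S : Subgroup P) ≤ M)
    (hc : ¬ p ∣ Nat.card ↥M.normalCore) : M.normalCore ≤ frattini P := by
  have hp : p.Prime := Fact.out
  unfold frattini Order.radical
  refine le_iInf₂ (fun M' hM' => ?_)
  have hM'c : IsCoatom M' := hM'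
  by_contra hF
  have htop : M' ⊔ M.normalCore = ⊤ := by
    apply hM'c.2
    apply lt_of_le_of_ne le_sup_left
    intro h
    apply hF
    rw [h]; exact le_sup_right
  have hidx : M'.index ∣ Nat.card ↥M.normalCore := by
    rw [← Subgroup.relIndex_top_right, ← htop, Cfsg.Agent.Helper47.relIndex_sup_of_normal]
    exact Subgroup.relIndex_dvd_card _ _
  have hnd : ¬ p ∣ M'.index := fun h => hc (h.trans hidx)
  obtain ⟨S''⟩ : Nonempty (Sylow p ↥M') := inferInstance
  have hnd2 : ¬ p ∣ ((S'' : Subgroup ↥M').map M'.subtype).index := by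
    rw [Subgroup.index_map_subtype]
    exact Nat.Prime.not_dvd_mul hp S''.not_dvd_index hnd
  obtain ⟨S', hS'⟩ : ∃ S' : Sylow p P, (S' : Subgroup P) = (S'' : Subgroup ↥M').map M'.subtype :=
    ⟨(S''.isPGroup'.map M'.subtype).toSylow hnd2, rfl⟩
  have hS'M' : (S' : Subgroup P) ≤ M' := by
    rw [hS']; exact Subgroup.map_subtype_le _
  obtain ⟨g, hg⟩ := exists_conj_mem_sylow' S S'
  have hco : IsCoatom (M.map (MulAut.conj g).toMonoidHom) :=
    ((MulAut.conj g).mapSubgroup.isCoatom_iff M).mpr hM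
  have hS'M'' : (S' : Subgroup P) ≤ M.map (MulAut.conj g).toMonoidHom := by
    intro x hx
    refine ⟨g⁻¹ * x * g, hSM ((hg x).mp hx), ?_⟩
    simp [MulAut.conj_apply, mul_assoc]
  obtain ⟨-, M₀, -, huniq⟩ := hP S'
  have h1 := huniq M' ⟨hM'c, hS'M'⟩
  have h2 := huniq _ ⟨hco, hS'M''⟩
  apply hF
  rw [h1, ← h2]
  intro f hf
  refine ⟨g⁻¹ * f * g, Subgroup.normalCore_le M ?_, ?_⟩
  · have := (M.normalCore_normal).conj_mem f hf g⁻¹
    simpa using this
  · simp [MulAut.conj_apply, mul_assoc]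

/-- In a `p`-minimal group with `O_p(P) = 1`, no component lies in the maximal subgroup
containing `S`. -/
theorem pMinimal_component_not_le (hP : IsPMinimal p P) (hOp : pCore p P = ⊥) (S : Sylow p P)
    {M : Subgroup P} (hM : IsCoatom M) (hSM : (S : Subgroup P) ≤ M) {K : Subgroup P}
    (hK : IsComponent K) : ¬ K ≤ M := by
  intro hKM
  have hKF := pMinimal_subnormal_le_normalCore hP S hM hSM K hK.1 hKM
  have hFS : M.normalCore ⊓ (S : Subgroup P) ≤ pCore p P :=
    pMinimal_subnormal_inf_le_pCore hP S hM hSM M.normalCore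
      (M.normalCore_normal).isSubnormal (Subgroup.normalCore_le M)
  rw [hOp, le_bot_iff] at hFS
  have hc : ¬ p ∣ Nat.card ↥M.normalCore := by
    intro hdvd
    have h1 := (Cfsg.Agent.Helper47.sylowInfNormal S M.normalCore).ne_bot_of_dvd_card hdvd
    apply h1
    have h2 := Cfsg.Agent.Helper47.sylowInfNormal_map S M.normalCore
    rw [inf_comm, hFS] at h2
    exact (Subgroup.map_eq_bot_iff_of_injective _ (Subgroup.subtype_injective _)).mp h2
  have hFr := pMinimal_normalCore_le_frattini hP S hM hSM hc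
  exact Cfsg.Agent.Helper22.component_not_le_of_isNilpotent hK.2 frattini_nilpotent
    (hKF.trans hFr)

omit [Finite P] [Fact p.Prime] in
/-- The layer normalizes every component. -/
theorem layer_le_normalizer_component {K : Subgroup P} (hK : IsComponent K) :
    layer P ≤ Subgroup.normalizer (K : Set P) := by
  apply sSup_le
  intro K' hK'
  by_cases h : K' = K
  · rw [h]; exact Subgroup.le_normalizer
  · have hcomm := Cfsg.Agent.Helper22.components_commute hK' hK h
    exact (Subgroup.commutator_eq_bot_iff_le_centralizer.mp hcomm).trans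
      (Subgroup.centralizer_le_normalizer _)

/-- In a `p`-minimal group with `O_p(P) = 1` and a component `K`:
`O^p(P) = F*(P) = E(P)` is generated by the `S`-conjugates of `K`. -/
theorem pMinimal_pResidual_eq_layer (hP : IsPMinimal p P) (hOp : pCore p P = ⊥) (S : Sylow p P)
    {M : Subgroup P} (hM : IsCoatom M) (hSM : (S : Subgroup P) ≤ M) {K : Subgroup P}
    (hK : IsComponent K) :
    pResidual p P = generalizedFittingSubgroup P ∧ generalizedFittingSubgroup P = layer P ∧
      layer P = ⨆ s : ↥(S : Subgroup P), K.map (MulAut.conj (s : P)).toMonoidHom := by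
  have hp : p.Prime := Fact.out
  obtain ⟨L, hL⟩ : ∃ L : Subgroup P, L = sSup (Set.range
      (fun g : P => K.map (MulAut.conj g).toMonoidHom)) := ⟨_, rfl⟩
  have hLn : L.Normal := by
    rw [hL]
    apply Cfsg.Agent.Helper22.sSup_normal_of_conj_mem
    rintro _ ⟨g, rfl⟩ h
    refine ⟨h * g, ?_⟩
    show K.map (MulAut.conj (h * g)).toMonoidHom =
      (K.map (MulAut.conj g).toMonoidHom).map (MulAut.conj h).toMonoidHom
    rw [Subgroup.map_map]
    congr 1
    ext x
    simp [MulAut.conj_apply, mul_assoc]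
  have hKL : K ≤ L := by
    rw [hL]
    refine le_trans (le_of_eq ?_) (le_sSup ⟨1, rfl⟩)
    ext x
    constructor
    · intro hx
      exact ⟨x, hx, by simp⟩
    · rintro ⟨y, hy, rfl⟩
      simpa using hy
  have hRL : pResidual p P ≤ L := by
    rcases pMinimal_pResidual_le_or_le_normalCore hP S hM hSM L hLn with h | h
    · exact h
    · exact absurd (hKL.trans (h.trans (Subgroup.normalCore_le M)))
        (pMinimal_component_not_le hP hOp S hM hSM hK)
  have hLE : L ≤ layer P := by
    rw [hL]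
    apply sSup_le
    rintro _ ⟨g, rfl⟩
    exact le_sSup (Cfsg.Agent.Helper22.isComponent_conj hK g)
  have hER : layer P ≤ pResidual p P := by
    apply sSup_le
    intro K' hK'
    exact Cfsg.Agent.Helper34.perfect_le_of_forall_coprime (p := p)
      (Cfsg.Agent.Helper22.quasisimple_commutator_eq hK'.2)
      (fun x _ hx => Cfsg.Agent.Helper47.mem_pResidual_of_coprime hx)
  have hFR : fittingSubgroup P ≤ pResidual p P := by
    rw [Cfsg.Agent.Helper22.fittingSubgroup_eq_iSup_pCore]
    apply iSup_le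
    intro q
    by_cases hqp : (q : ℕ) = p
    · rw [hqp, hOp]; exact bot_le
    · intro x hx
      apply Cfsg.Agent.Helper47.mem_pResidual_of_coprime
      obtain ⟨k, hk⟩ := (Cfsg.Agent.Helper22.pCore_isPGroup (q : ℕ) P) ⟨x, hx⟩
      have hk' : x ^ (q : ℕ) ^ k = 1 := congrArg Subtype.val hk
      have hd : orderOf x ∣ (q : ℕ) ^ k := orderOf_dvd_of_pow_eq_one hk'
      exact Nat.Coprime.coprime_dvd_left hd
        (Nat.Coprime.pow_left k ((Nat.coprime_primes q.2 hp).mpr hqp))
  have hFstarR : generalizedFittingSubgroup P ≤ pResidual p P := sup_le hER hFR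
  have hEF : layer P ≤ generalizedFittingSubgroup P := le_sup_left
  refine ⟨le_antisymm (hRL.trans (hLE.trans hEF)) hFstarR,
    le_antisymm (hFstarR.trans (hRL.trans hLE)) hEF, ?_⟩
  apply le_antisymm
  · refine (hER.trans hRL).trans ?_
    rw [hL]
    apply sSup_le
    rintro _ ⟨g, rfl⟩
    have hg : g ∈ (((S : Subgroup P) ⊔ pResidual p P : Subgroup P) : Set P) := by
      rw [sup_comm, Cfsg.Agent.Helper47.pResidual_sup_sylow S]; trivial
    rw [Subgroup.mul_normal] at hg
    obtain ⟨s, hs, e, he, rfl⟩ := Set.mem_mul.mp hg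
    have heN : e ∈ Subgroup.normalizer (K : Set P) :=
      layer_le_normalizer_component hK (hLE (hRL he))
    have h1 : K.map (MulAut.conj (s * e)).toMonoidHom = K.map (MulAut.conj s).toMonoidHom := by
      conv_rhs => rw [← map_conj_eq_of_mem_normalizer heN]
      rw [Subgroup.map_map]
      congr 1
      ext x
      simp [MulAut.conj_apply, mul_assoc]
    show K.map (MulAut.conj (s * e)).toMonoidHom ≤ _
    rw [h1]
    exact le_iSup (fun s : ↥(S : Subgroup P) => K.map (MulAut.conj (s : P)).toMonoidHom) ⟨s, hs⟩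
  · apply iSup_le
    intro s
    exact le_sSup (Cfsg.Agent.Helper22.isComponent_conj hK (s : P))

/-- A finite group is `p`-minimal as soon as one Sylow `p`-subgroup `S₀` is not normal and the
proper subgroups containing `S₀` have a largest member. -/
theorem isPMinimal_of_sylow (S₀ : Sylow p P) (hn : ¬ (S₀ : Subgroup P).Normal) (Y₀ : Subgroup P)
    (hY₀ : Y₀ ≠ ⊤) (hS₀ : (S₀ : Subgroup P) ≤ Y₀)
    (hmax : ∀ Y : Subgroup P, (S₀ : Subgroup P) ≤ Y → Y ≠ ⊤ → Y ≤ Y₀) : IsPMinimal p P := by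
  intro S₁
  obtain ⟨g, hg⟩ := exists_conj_mem_sylow' S₀ S₁
  constructor
  · intro hS₁
    apply hn
    constructor
    intro n hn' x
    have h1 : g * n * g⁻¹ ∈ (S₁ : Subgroup P) := by
      rw [hg]
      have : g⁻¹ * (g * n * g⁻¹) * g = n := by group
      rw [this]; exact hn'
    have h2 := hS₁.conj_mem _ h1 (g * x * g⁻¹)
    have h3 : g⁻¹ * ((g * x * g⁻¹) * (g * n * g⁻¹) * (g * x * g⁻¹)⁻¹) * g = x * n * x⁻¹ := by
      group
    rw [← h3]
    exact (hg _).mp h2
  · have hmax₁ : ∀ Y : Subgroup P, (S₁ : Subgroup P) ≤ Y → Y ≠ ⊤ →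
        Y ≤ Y₀.map (MulAut.conj g).toMonoidHom := by
      intro Y hSY hY
      have h1 : (S₀ : Subgroup P) ≤ Y.comap (MulAut.conj g).toMonoidHom := by
        intro s hs
        rw [Subgroup.mem_comap]
        apply hSY
        rw [hg]
        have : g⁻¹ * (MulAut.conj g).toMonoidHom s * g = s := by
          simp [MulAut.conj_apply, mul_assoc]
        rw [this]; exact hs
      have h2 : Y.comap (MulAut.conj g).toMonoidHom ≠ ⊤ := by
        intro h
        apply hY
        rw [eq_top_iff]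
        intro y _
        have h3 : g⁻¹ * y * g ∈ Y.comap (MulAut.conj g).toMonoidHom := by rw [h]; trivial
        rw [Subgroup.mem_comap] at h3
        have h4 : (MulAut.conj g).toMonoidHom (g⁻¹ * y * g) = y := by
          simp [MulAut.conj_apply, mul_assoc]
        rw [h4] at h3; exact h3
      have h3 := hmax _ h1 h2
      intro y hy
      refine ⟨g⁻¹ * y * g, h3 ?_, by simp [MulAut.conj_apply, mul_assoc]⟩
      rw [Subgroup.mem_comap]
      have h4 : (MulAut.conj g).toMonoidHom (g⁻¹ * y * g) = y := by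
        simp [MulAut.conj_apply, mul_assoc]
      rw [h4]; exact hy
    have hY₁ne : Y₀.map (MulAut.conj g).toMonoidHom ≠ ⊤ := by
      intro h
      apply hY₀
      rw [eq_top_iff]
      intro y _
      have h3 : g * y * g⁻¹ ∈ Y₀.map (MulAut.conj g).toMonoidHom := by rw [h]; trivial
      obtain ⟨z, hz, hzy⟩ := h3
      have h4 : g * z * g⁻¹ = g * y * g⁻¹ := hzy
      have h5 : z = y := mul_left_cancel (mul_right_cancel h4)
      rw [← h5]; exact hz
    have hS₁Y₁ : (S₁ : Subgroup P) ≤ Y₀.map (MulAut.conj g).toMonoidHom := by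
      intro x hx
      exact ⟨g⁻¹ * x * g, hS₀ ((hg x).mp hx), by simp [MulAut.conj_apply, mul_assoc]⟩
    refine ⟨Y₀.map (MulAut.conj g).toMonoidHom, ⟨⟨hY₁ne, ?_⟩, hS₁Y₁⟩, ?_⟩
    · intro Z hlt
      by_contra hZ
      exact absurd (hmax₁ Z (hS₁Y₁.trans hlt.le) hZ) (not_le_of_gt hlt)
    · rintro M' ⟨hM'c, hM'S⟩
      have h1 := hmax₁ M' hM'S hM'c.1
      rcases hM'c.le_iff.mp h1 with h | h
      · exact absurd h hY₁ne
      · exact h.symm

/-- For a subnormal subgroup `K` and a Sylow `p`-subgroup `S` of `P`, the subgroup `N_S(K)` is a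
Sylow `p`-subgroup of `K N_S(K)`. -/
theorem exists_sylow_sup_normalizer {K : Subgroup P} (hKsn : K.IsSubnormal) (S : Sylow p P) :
    ∃ S₀ : Sylow p ↥(K ⊔ ((S : Subgroup P) ⊓ Subgroup.normalizer (K : Set P))),
      (S₀ : Subgroup ↥(K ⊔ ((S : Subgroup P) ⊓ Subgroup.normalizer (K : Set P)))) =
        ((S : Subgroup P) ⊓ Subgroup.normalizer (K : Set P)).subgroupOf
          (K ⊔ ((S : Subgroup P) ⊓ Subgroup.normalizer (K : Set P))) := by
  obtain ⟨SK, hSK⟩ : ∃ SK : Subgroup P, SK = (S : Subgroup P) ⊓ Subgroup.normalizer (K : Set P) :=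
    ⟨_, rfl⟩
  rw [← hSK]
  have hSKN : SK ≤ Subgroup.normalizer (K : Set P) := by rw [hSK]; exact inf_le_right
  have hSKS : SK ≤ (S : Subgroup P) := by rw [hSK]; exact inf_le_left
  obtain ⟨TK, hTK⟩ := Cfsg.Agent.S0542.result p K hKsn S
  have hmaxi : ∀ Q : Subgroup ↥(K ⊔ SK), IsPGroup p ↥Q → SK.subgroupOf (K ⊔ SK) ≤ Q →
      Q = SK.subgroupOf (K ⊔ SK) := by
    intro Q hQ hle
    apply le_antisymm _ hle
    intro q hq
    rw [Subgroup.mem_subgroupOf]
    have hqX : (q : P) ∈ ((K ⊔ SK : Subgroup P) : Set P) := q.2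
    rw [Subgroup.coe_mul_of_right_le_normalizer_left K SK hSKN] at hqX
    obtain ⟨k, hk, s, hs, hks⟩ := Set.mem_mul.mp hqX
    have hsQ : (⟨s, Subgroup.mem_sup_right hs⟩ : ↥(K ⊔ SK)) ∈ Q :=
      hle (Subgroup.mem_subgroupOf.mpr hs)
    have hkQ : (⟨k, Subgroup.mem_sup_left hk⟩ : ↥(K ⊔ SK)) ∈ Q := by
      have h1 := Q.mul_mem hq (Q.inv_mem hsQ)
      have h2 : q * (⟨s, Subgroup.mem_sup_right hs⟩ : ↥(K ⊔ SK))⁻¹ =
          ⟨k, Subgroup.mem_sup_left hk⟩ := by
        apply Subtype.ext
        show (q : P) * s⁻¹ = k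
        rw [← hks]; group
      rw [h2] at h1; exact h1
    -- the `p`-subgroup `Q ∩ K` of `K` contains the Sylow subgroup `S ∩ K`
    have hQ'p : IsPGroup p ↥((Q.map (K ⊔ SK).subtype).subgroupOf K) :=
      (hQ.map _).comap_subtype
    have hTle : (TK : Subgroup ↥K) ≤ (Q.map (K ⊔ SK).subtype).subgroupOf K := by
      intro t ht
      rw [hTK, Subgroup.mem_subgroupOf] at ht
      rw [Subgroup.mem_subgroupOf]
      have htSK : (t : P) ∈ SK := by
        rw [hSK]; exact ⟨ht, Subgroup.le_normalizer t.2⟩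
      exact ⟨⟨(t : P), Subgroup.mem_sup_right htSK⟩, hle (Subgroup.mem_subgroupOf.mpr htSK), rfl⟩
    have heq := TK.is_maximal' hQ'p hTle
    have hkT : (⟨k, hk⟩ : ↥K) ∈ (TK : Subgroup ↥K) := by
      rw [← heq, Subgroup.mem_subgroupOf]
      exact ⟨⟨k, Subgroup.mem_sup_left hk⟩, hkQ, rfl⟩
    rw [hTK, Subgroup.mem_subgroupOf] at hkT
    have hkSK : k ∈ SK := by
      rw [hSK]; exact ⟨hkT, Subgroup.le_normalizer hk⟩
    rw [← hks]
    exact SK.mul_mem hkSK hs
  exact ⟨{ toSubgroup := SK.subgroupOf (K ⊔ SK)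
           isPGroup' := (S.isPGroup'.to_le hSKS).comap_subtype
           is_maximal' := fun {Q} hQ hle => hmaxi Q hQ hle }, rfl⟩

/-- In a `p`-minimal group with `O_p(P) = 1`, every component has order divisible by `p`:
a Sylow `p`-subgroup meets it nontrivially. -/
theorem pMinimal_sylow_inf_component_ne_bot (hP : IsPMinimal p P) (hOp : pCore p P = ⊥)
    (S : Sylow p P) {M : Subgroup P} (hM : IsCoatom M) (hSM : (S : Subgroup P) ≤ M)
    {K : Subgroup P} (hK : IsComponent K) : (S : Subgroup P) ⊓ K ≠ ⊥ := by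
  have hp : p.Prime := Fact.out
  intro hbot
  obtain ⟨TK, hTK⟩ := Cfsg.Agent.S0542.result p K hK.1 S
  have hKc : (Nat.card ↥K).Coprime p := by
    rw [Nat.coprime_comm, Nat.Prime.coprime_iff_not_dvd hp]
    intro hdvd
    apply TK.ne_bot_of_dvd_card hdvd
    rw [hTK, eq_bot_iff]
    intro x hx
    rw [Subgroup.mem_subgroupOf] at hx
    have h1 : (x : P) ∈ (S : Subgroup P) ⊓ K := ⟨hx, x.2⟩
    rw [hbot, Subgroup.mem_bot] at h1
    exact Subgroup.mem_bot.mpr (Subtype.ext h1)
  obtain ⟨-, -, hE⟩ := pMinimal_pResidual_eq_layer hP hOp S hM hSM hK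
  have hEle : layer P ≤ pPrimeCore p P := by
    rw [hE]
    apply iSup_le
    intro s
    apply Cfsg.Agent.Helper22.le_pPrimeCore_of_isSubnormal p
      (Cfsg.Agent.Helper22.isComponent_conj hK (s : P)).1
    rw [← Nat.card_congr (K.equivMapOfInjective (MulAut.conj (s : P)).toMonoidHom
      (MulAut.conj (s : P)).injective).toEquiv]
    exact hKc
  have hEc : ¬ p ∣ Nat.card ↥(layer P) := by
    intro hdvd
    have h1 := hdvd.trans (Subgroup.card_dvd_of_le hEle)
    have h2 := Cfsg.Agent.Helper22.card_pPrimeCore_coprime p P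
    exact hp.one_lt.ne' (Nat.Coprime.eq_one_of_dvd h2.symm h1)
  have hEn : (layer P).Normal := Cfsg.Agent.Helper22.layer_normal P
  have hKE : K ≤ layer P := le_sSup hK
  have hall : ∀ (t : ℕ) [Fact t.Prime], ∃ D : Sylow t ↥(layer P),
      (D : Subgroup ↥(layer P)) ≤ M.subgroupOf (layer P) := by
    intro t _
    obtain ⟨D, hD⟩ := exists_invariant_sylow (layer P) hEc (S : Subgroup P) S.isPGroup' t
    refine ⟨D, ?_⟩
    obtain ⟨D', hD'⟩ : ∃ D' : Subgroup P, D' =
        (D : Subgroup ↥(layer P)).map (layer P).subtype := ⟨_, rfl⟩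
    have hSnorm : (S : Subgroup P) ≤ Subgroup.normalizer (D' : Set P) := by
      intro a ha
      rw [hD']; exact hD a ha
    have hne : D' ⊔ (S : Subgroup P) ≠ ⊤ := by
      intro htop
      have hKD : K ≤ D' := by
        intro k hk
        have hk' : k ∈ ((D' ⊔ (S : Subgroup P) : Subgroup P) : Set P) := by rw [htop]; trivial
        rw [Subgroup.coe_mul_of_right_le_normalizer_left D' _ hSnorm] at hk'
        obtain ⟨d, hd, s, hs, hds⟩ := Set.mem_mul.mp hk'
        have hdE : d ∈ layer P := by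
          rw [SetLike.mem_coe, hD'] at hd
          obtain ⟨d₀, -, rfl⟩ := hd
          exact d₀.2
        have hsE : s ∈ layer P := by
          have := Subgroup.mul_mem _ (Subgroup.inv_mem _ hdE) (hKE hk)
          rw [← hds] at this
          simpa using this
        have hs1 : s = 1 := eq_one_of_mem_isPGroup_of_mem_coprime S.isPGroup'
          ((Nat.Prime.coprime_iff_not_dvd hp).mpr hEc).symm hs hsE
        rw [← hds, hs1, mul_one]
        exact hd
      have hD'p : IsPGroup t ↥D' := by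
        rw [hD']; exact D.isPGroup'.map _
      exact Cfsg.Agent.Helper22.component_not_le_of_isNilpotent hK.2 hD'p.isNilpotent hKD
    have hle := pMinimal_le_of_sylow_le hP S hM hSM le_sup_right hne
    intro d hd
    rw [Subgroup.mem_subgroupOf]
    apply hle
    apply Subgroup.mem_sup_left
    rw [hD']
    exact ⟨d, hd, rfl⟩
  have htop := eq_top_of_forall_exists_sylow_le _ hall
  apply pMinimal_component_not_le hP hOp S hM hSM hK
  intro k hk
  have h1 : (⟨k, hKE hk⟩ : ↥(layer P)) ∈ M.subgroupOf (layer P) := by rw [htop]; trivial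
  exact Subgroup.mem_subgroupOf.mp h1

omit [Finite P] [Fact p.Prime] in
/-- Commutator of products with commuting "central" factors. -/
theorem commutatorElement_mul_central {a b c d : P} (_hca : Commute c a) (hcb : Commute c b)
    (hcd : Commute c d) (hda : Commute d a) (_hdb : Commute d b) :
    (a * c) * (b * d) * (a * c)⁻¹ * (b * d)⁻¹ = a * b * a⁻¹ * b⁻¹ := by
  have h1 : a * c * (b * d) = a * (b * d) * c := by
    rw [mul_assoc, (hcb.mul_right hcd).eq, ← mul_assoc]
  have h2 : d * a⁻¹ = a⁻¹ * d := (hda.inv_right).eq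
  calc (a * c) * (b * d) * (a * c)⁻¹ * (b * d)⁻¹
      = a * (b * d) * c * (a * c)⁻¹ * (b * d)⁻¹ := by rw [h1]
    _ = a * b * (d * a⁻¹) * d⁻¹ * b⁻¹ := by group
    _ = a * b * (a⁻¹ * d) * d⁻¹ * b⁻¹ := by rw [h2]
    _ = a * b * a⁻¹ * b⁻¹ := by group

/-- In a `p`-minimal group `P` with `O_p(P) = 1`, for a component `K` and a Sylow `p`-subgroup
`S`, the subgroup `K N_S(K)` is `p`-minimal. -/
theorem pMinimal_sup_normalizer_aux (hP : IsPMinimal p P) (hOp : pCore p P = ⊥)
    (S : Sylow p P) {M : Subgroup P} (hM : IsCoatom M) (hSM : (S : Subgroup P) ≤ M)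
    {K : Subgroup P} (hK : IsComponent K) (SK : Subgroup P)
    (hSK : SK = (S : Subgroup P) ⊓ Subgroup.normalizer (K : Set P)) :
    IsPMinimal p ↥(K ⊔ SK) := by
  obtain ⟨S₀, hS₀⟩ : ∃ S₀ : Sylow p ↥(K ⊔ SK),
      (S₀ : Subgroup ↥(K ⊔ SK)) = SK.subgroupOf (K ⊔ SK) := by
    subst hSK
    exact exists_sylow_sup_normalizer hK.1 S
  have hSKN : SK ≤ Subgroup.normalizer (K : Set P) := by rw [hSK]; exact inf_le_right
  have hSKS : SK ≤ (S : Subgroup P) := by rw [hSK]; exact inf_le_left
  have hKM : ¬ K ≤ M := pMinimal_component_not_le hP hOp S hM hSM hK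
  obtain ⟨hRF, hFE, hE⟩ := pMinimal_pResidual_eq_layer hP hOp S hM hSM hK
  have hKE : K ≤ layer P := le_sSup hK
  apply isPMinimal_of_sylow S₀ ?_ (((M ⊓ K) ⊔ SK).subgroupOf (K ⊔ SK))
  · -- proper
    intro htop
    apply hKM
    intro k hk
    have h1 : (⟨k, Subgroup.mem_sup_left hk⟩ : ↥(K ⊔ SK)) ∈ ((M ⊓ K) ⊔ SK).subgroupOf (K ⊔ SK) := by
      rw [htop]; trivial
    rw [Subgroup.mem_subgroupOf] at h1
    exact (sup_le inf_le_left (hSKS.trans hSM) : (M ⊓ K) ⊔ SK ≤ M) h1
  · -- contains the Sylow subgroup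
    intro x hx
    rw [hS₀, Subgroup.mem_subgroupOf] at hx
    rw [Subgroup.mem_subgroupOf]
    exact Subgroup.mem_sup_right hx
  · -- largest proper overgroup
    intro Y hSY hY
    have hSKY : ∀ s (hs : s ∈ SK), (⟨s, Subgroup.mem_sup_right hs⟩ : ↥(K ⊔ SK)) ∈ Y := by
      intro s hs
      apply hSY
      rw [hS₀, Subgroup.mem_subgroupOf]
      exact hs
    obtain ⟨Y₁, hY₁⟩ : ∃ Y₁ : Subgroup P, Y₁ = Y.map (K ⊔ SK).subtype ⊓ K := ⟨_, rfl⟩
    have hY₁K : Y₁ ≤ K := by rw [hY₁]; exact inf_le_right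
    have hKY₁ : ¬ K ≤ Y₁ := by
      intro hle
      apply hY
      rw [eq_top_iff]
      intro x _
      have hxX : (x : P) ∈ ((K ⊔ SK : Subgroup P) : Set P) := x.2
      rw [Subgroup.coe_mul_of_right_le_normalizer_left K SK hSKN] at hxX
      obtain ⟨k, hk, s, hs, hks⟩ := Set.mem_mul.mp hxX
      have hkY : k ∈ Y.map (K ⊔ SK).subtype := by
        have := hle hk
        rw [hY₁] at this
        exact this.1
      obtain ⟨k', hk', hk'k⟩ := hkY
      have h2 : x = k' * ⟨s, Subgroup.mem_sup_right hs⟩ := by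
        apply Subtype.ext
        show (x : P) = (k' : P) * s
        have : (k' : P) = k := hk'k
        rw [this, hks]
      rw [h2]
      exact Y.mul_mem hk' (hSKY s hs)
    have hY₁inv : ∀ s ∈ SK, ∀ y ∈ Y₁, s * y * s⁻¹ ∈ Y₁ := by
      intro s hs y hy
      rw [hY₁] at hy ⊢
      obtain ⟨⟨y', hy', hy'y⟩, hyK⟩ := hy
      refine ⟨⟨⟨s, Subgroup.mem_sup_right hs⟩ * y' * ⟨s, Subgroup.mem_sup_right hs⟩⁻¹,
        Y.mul_mem (Y.mul_mem (hSKY s hs) hy') (Y.inv_mem (hSKY s hs)), ?_⟩, ?_⟩
      · show s * (y' : P) * s⁻¹ = s * y * s⁻¹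
        have : (y' : P) = y := hy'y
        rw [this]
      · exact (Subgroup.mem_normalizer_iff.mp (hSKN hs) y).mp hyK
    -- the key claim: `Y ∩ K ≤ M`
    have hY₁M : Y₁ ≤ M := by
      obtain ⟨Y₂, hY₂⟩ : ∃ Y₂ : Subgroup P, Y₂ = sSup (Set.range
          (fun s : ↥(S : Subgroup P) => Y₁.map (MulAut.conj (s : P)).toMonoidHom)) := ⟨_, rfl⟩
      have hY₁Y₂ : Y₁ ≤ Y₂ := by
        rw [hY₂]
        refine le_trans (le_of_eq ?_) (le_sSup ⟨1, rfl⟩)
        ext x
        constructor
        · intro hx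
          exact ⟨x, hx, by simp⟩
        · rintro ⟨y, hy, rfl⟩
          simpa using hy
      have hconj : ∀ s ∈ (S : Subgroup P), ∀ w ∈ Y₂, s * w * s⁻¹ ∈ Y₂ := by
        intro s hs
        have hle : Y₂ ≤ Y₂.comap (MulAut.conj s).toMonoidHom := by
          conv_lhs => rw [hY₂]
          apply sSup_le
          rintro _ ⟨s', rfl⟩
          rw [← Subgroup.map_le_iff_le_comap, hY₂]
          refine le_trans (le_of_eq ?_) (le_sSup ⟨⟨s, hs⟩ * s', rfl⟩)
          show (Y₁.map (MulAut.conj (s' : P)).toMonoidHom).map (MulAut.conj s).toMonoidHom =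
            Y₁.map (MulAut.conj (s * (s' : P))).toMonoidHom
          rw [Subgroup.map_map]
          congr 1
          ext x
          simp [MulAut.conj_apply, mul_assoc]
        intro w hw
        exact hle hw
      have hSN : (S : Subgroup P) ≤ Subgroup.normalizer (Y₂ : Set P) := by
        intro s hs
        rw [Subgroup.mem_normalizer_iff]
        intro w
        constructor
        · exact hconj s hs w
        · intro h
          have := hconj s⁻¹ ((S : Subgroup P).inv_mem hs) _ h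
          have h2 : s⁻¹ * (s * w * s⁻¹) * s⁻¹⁻¹ = w := by group
          rw [h2] at this; exact this
      by_cases htop : Y₂ ⊔ (S : Subgroup P) = ⊤
      · exfalso
        have hY₂n : Y₂.Normal := by
          apply Subgroup.normalizer_eq_top_iff.mp
          rw [eq_top_iff, ← htop]
          exact sup_le Subgroup.le_normalizer hSN
        have hRY₂ : pResidual p P ≤ Y₂ := by
          rcases pMinimal_pResidual_le_or_le_normalCore hP S hM hSM Y₂ hY₂n with h | h
          · exact h
          · exfalso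
            have h3 : (⊤ : Subgroup P) ≤ M := by
              rw [← htop]; exact sup_le (h.trans (Subgroup.normalCore_le M)) hSM
            exact hM.1 (top_le_iff.mp h3)
        have hKY₂ : K ≤ Y₂ := by
          rw [hRF, hFE] at hRY₂
          exact hKE.trans hRY₂
        have hY₂le : Y₂ ≤ Y₁ ⊔ Subgroup.centralizer (K : Set P) := by
          rw [hY₂]
          apply sSup_le
          rintro _ ⟨s, rfl⟩
          by_cases hsN : (s : P) ∈ Subgroup.normalizer (K : Set P)
          · refine le_trans ?_ le_sup_left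
            rintro _ ⟨y, hy, rfl⟩
            exact hY₁inv (s : P) (by rw [hSK]; exact ⟨s.2, hsN⟩) y hy
          · refine le_trans ?_ le_sup_right
            have hne : K.map (MulAut.conj (s : P)).toMonoidHom ≠ K :=
              fun h => hsN (mem_normalizer_of_map_conj_eq h)
            have hcomm := Cfsg.Agent.Helper22.components_commute
              (Cfsg.Agent.Helper22.isComponent_conj hK (s : P)) hK hne
            exact (Subgroup.map_mono hY₁K).trans
              (Subgroup.commutator_eq_bot_iff_le_centralizer.mp hcomm)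
        have hCN : Subgroup.centralizer (K : Set P) ≤ Subgroup.normalizer (Y₁ : Set P) :=
          (Subgroup.centralizer_le hY₁K).trans (Subgroup.centralizer_le_normalizer _)
        have hdecomp : ∀ k ∈ K, ∃ y ∈ Y₁, ∃ c ∈ Subgroup.centralizer (K : Set P), c ∈ K ∧
            y * c = k := by
          intro k hk
          have hk' : k ∈ ((Y₁ ⊔ Subgroup.centralizer (K : Set P) : Subgroup P) : Set P) :=
            hY₂le (hKY₂ hk)
          rw [Subgroup.coe_mul_of_right_le_normalizer_left Y₁ _ hCN] at hk'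
          obtain ⟨y, hy, c, hc, hyc⟩ := Set.mem_mul.mp hk'
          refine ⟨y, hy, c, hc, ?_, hyc⟩
          have := K.mul_mem (K.inv_mem (hY₁K hy)) hk
          rw [← hyc] at this
          simpa using this
        have hcomm' : ⁅K, K⁆ ≤ Y₁ := by
          rw [Subgroup.commutator_le]
          intro k₁ hk₁ k₂ hk₂
          obtain ⟨y₁, hy₁, c₁, hc₁, hc₁K, rfl⟩ := hdecomp k₁ hk₁
          obtain ⟨y₂, hy₂, c₂, hc₂, hc₂K, rfl⟩ := hdecomp k₂ hk₂
          have e1 : Commute c₁ y₁ := (Subgroup.mem_centralizer_iff.mp hc₁ y₁ (hY₁K hy₁)).symm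
          have e2 : Commute c₁ y₂ := (Subgroup.mem_centralizer_iff.mp hc₁ y₂ (hY₁K hy₂)).symm
          have e3 : Commute c₁ c₂ := (Subgroup.mem_centralizer_iff.mp hc₁ c₂ hc₂K).symm
          have e4 : Commute c₂ y₁ := (Subgroup.mem_centralizer_iff.mp hc₂ y₁ (hY₁K hy₁)).symm
          have e5 : Commute c₂ y₂ := (Subgroup.mem_centralizer_iff.mp hc₂ y₂ (hY₁K hy₂)).symm
          rw [commutatorElement_def, commutatorElement_mul_central e1 e2 e3 e4 e5]
          exact Y₁.mul_mem (Y₁.mul_mem (Y₁.mul_mem hy₁ hy₂) (Y₁.inv_mem hy₁)) (Y₁.inv_mem hy₂)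
        apply hKY₁
        rw [Cfsg.Agent.Helper22.quasisimple_commutator_eq hK.2] at hcomm'
        exact hcomm'
      · exact hY₁Y₂.trans (le_sup_left.trans
          (pMinimal_le_of_sylow_le hP S hM hSM le_sup_right htop))
    intro y hy
    rw [Subgroup.mem_subgroupOf]
    have hyX : (y : P) ∈ ((K ⊔ SK : Subgroup P) : Set P) := y.2
    rw [Subgroup.coe_mul_of_right_le_normalizer_left K SK hSKN] at hyX
    obtain ⟨k, hk, s, hs, hks⟩ := Set.mem_mul.mp hyX
    have hkY₁ : k ∈ Y₁ := by
      rw [hY₁]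
      refine ⟨⟨y * (⟨s, Subgroup.mem_sup_right hs⟩ : ↥(K ⊔ SK))⁻¹,
        Y.mul_mem hy (Y.inv_mem (hSKY s hs)), ?_⟩, hk⟩
      show (y : P) * s⁻¹ = k
      rw [← hks]; group
    rw [← hks]
    exact Subgroup.mul_mem _ (Subgroup.mem_sup_left ⟨hY₁M hkY₁, hk⟩) (Subgroup.mem_sup_right hs)
  · -- the Sylow subgroup is not normal
    intro hnorm
    apply pMinimal_sylow_inf_component_ne_bot hP hOp S hM hSM hK
    have hNn : (((S : Subgroup P) ⊓ K).subgroupOf K).Normal := by
      constructor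
      intro t ht k
      rw [Subgroup.mem_subgroupOf] at ht ⊢
      have htSK : (t : P) ∈ SK := by
        rw [hSK]; exact ⟨ht.1, Subgroup.le_normalizer t.2⟩
      have h1 : (⟨(t : P), Subgroup.mem_sup_right htSK⟩ : ↥(K ⊔ SK)) ∈
          (S₀ : Subgroup ↥(K ⊔ SK)) := by
        rw [hS₀, Subgroup.mem_subgroupOf]; exact htSK
      have h2 := hnorm.conj_mem _ h1 ⟨(k : P), Subgroup.mem_sup_left k.2⟩
      rw [hS₀, Subgroup.mem_subgroupOf] at h2
      exact ⟨hSKS h2, (k * t * k⁻¹).2⟩
    have hsub : ((S : Subgroup P) ⊓ K).IsSubnormal :=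
      Subgroup.IsSubnormal.trans inf_le_right hNn.isSubnormal hK.1
    have hle := Cfsg.Agent.Helper22.le_pCore_of_isSubnormal p hsub (S.isPGroup'.to_le inf_le_left)
    rw [hOp, le_bot_iff] at hle
    exact hle

/-- In a `p`-minimal group `P` with `O_p(P) = 1`, for a component `K` and a Sylow `p`-subgroup
`S`, the subgroup `K N_S(K)` is `p`-minimal. -/
theorem pMinimal_sup_normalizer (hP : IsPMinimal p P) (hOp : pCore p P = ⊥)
    (S : Sylow p P) {M : Subgroup P} (hM : IsCoatom M) (hSM : (S : Subgroup P) ≤ M)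
    {K : Subgroup P} (hK : IsComponent K) :
    IsPMinimal p ↥(K ⊔ ((S : Subgroup P) ⊓ Subgroup.normalizer (K : Set P))) :=
  pMinimal_sup_normalizer_aux hP hOp S hM hSM hK _ rfl

end

end Cfsg.Agent.Helper48
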