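import Mathlib
import Cfsg.Prelude.Def_GeometricClasses
import Cfsg.Prelude.Def_Classical
import Cfsg.Agent.Helper35.S88Defs
import Cfsg.Agent.Helper35.TSSTDM
import Cfsg.Agent.Helper80.S88SCAL
import Cfsg.Agent.Helper97.OForm
import Cfsg.Agent.Helper96.OHAux
import Cfsg.Agent.Helper96.S88Good

set_option autoImplicit false
set_option linter.unusedSectionVars false
set_option linter.unusedVariables false

/-!
# CALL S90 (row S5990; top architect helper98), stage OOG (helper48, double)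

`s90_odd_good`, verbatim from `tools/calls/S90Skel.lean.txt`: `PΩ⁻_{2d}(q)` on elliptic `m`-spaces,
`r` odd `≠ p`, `i = ord_r(q)` odd, direction `⟸`.  Port of `Helper96.S88.s88_odd_good` to the minus
ambient: `V = Fx ⊥ P` (`s88g_split`), `P` of plus type (`oall_type_odd`), so `Fx` is of MINUS type,
in particular nonzero; `W = X ⊥ N₁`, `N₁ ≤ P` of dimension `2 i h₁`, `X ≤ Fx` elliptic of dimension
`m - 2 i h₁` (`el_sub` if proper, `Fx` itself otherwise).
-/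

namespace Cfsg.Agent.Helper48.S90

open Module Polynomial Cfsg Cfsg.Geo
open Cfsg.Agent.Helper13.TIu Cfsg.Agent.Helper96.OH Cfsg.Agent.Helper96.OHAll
open Cfsg.Agent.Helper96.S88G

/-- the profile arithmetic for `i` odd, minus ambient (`c = 2 i`, `f = dim Fx > 0`). -/
theorem s90g_odd_arith (d m c ρ f : ℕ) (hc0 : 0 < c) (hm : 2 ≤ m) (hmn : m + 2 ≤ 2 * d)
    (hn : c * ρ + f = 2 * d) (hf : 0 < f)
    (hcond : (2 * d) % c = 0 ∨ (0 < m % c ∧ m % c ≤ (2 * d) % c)) :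
    ∃ h, h ≤ ρ ∧ c * h ≤ m ∧ 0 < m - c * h ∧ m - c * h ≤ f := by
  obtain ⟨n', hn'⟩ : ∃ n', n' = (2 * d) / c := ⟨_, rfl⟩
  obtain ⟨k, hk⟩ : ∃ k, k = (2 * d) % c := ⟨_, rfl⟩
  obtain ⟨m', hm'⟩ : ∃ m', m' = m / c := ⟨_, rfl⟩
  obtain ⟨l, hl⟩ : ∃ l, l = m % c := ⟨_, rfl⟩
  have hnk : c * n' + k = 2 * d := by rw [hn', hk]; exact Nat.div_add_mod (2 * d) c
  have hml : c * m' + l = m := by rw [hm', hl]; exact Nat.div_add_mod m c
  have hkc : k < c := by rw [hk]; exact Nat.mod_lt _ hc0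
  have hlc : l < c := by rw [hl]; exact Nat.mod_lt _ hc0
  rw [← hk, ← hl] at hcond
  have hρn : ρ ≤ n' := by
    by_contra hcon
    push Not at hcon
    have h1 : c * (n' + 1) ≤ c * ρ := Nat.mul_le_mul_left c hcon
    rw [Nat.mul_succ] at h1
    omega
  have h0 : c * ρ ≤ c * n' := Nat.mul_le_mul_left c hρn
  have hstep : k = 0 → c * ρ + c ≤ c * n' := by
    intro hk0
    have hρn' : ρ + 1 ≤ n' := by
      by_contra hcon
      have h6 : ρ = n' := by omega
      rw [h6] at hn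
      omega
    have h7 : c * (ρ + 1) ≤ c * n' := Nat.mul_le_mul_left c hρn'
    rw [Nat.mul_succ] at h7
    exact h7
  rcases Nat.lt_or_ge ρ m' with hlt | hge
  · have h1 : c * (ρ + 1) ≤ c * m' := Nat.mul_le_mul_left c hlt
    rw [Nat.mul_succ] at h1
    exact ⟨ρ, le_rfl, by omega, by omega, by omega⟩
  · have h3 : c * m' ≤ c * ρ := Nat.mul_le_mul_left c hge
    rcases Nat.eq_zero_or_pos l with hl0 | hlpos
    · rcases hcond with hk0 | ⟨hl1, _⟩
      · have hm'1 : 1 ≤ m' := by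
          rcases Nat.eq_zero_or_pos m' with h0' | h0'
          · rw [h0'] at hml; omega
          · exact h0'
        have h4 : c * (m' - 1) = c * m' - c := Nat.mul_sub_one c m'
        have h5 : c ≤ c * m' := Nat.le_mul_of_pos_right c hm'1
        have h7 := hstep hk0
        exact ⟨m' - 1, by omega, by omega, by omega, by omega⟩
      · omega
    · rcases hcond with hk0 | ⟨hl1, hlk⟩
      · have h7 := hstep hk0
        exact ⟨m', hge, by omega, by omega, by omega⟩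
      · exact ⟨m', hge, by omega, by omega, by omega⟩

variable {ι : Type} [Fintype ι] [DecidableEq ι] {F : Type*} [Field F] (Q : (ι → F) → F)

/-- OOG, generic, minus ambient: `i` odd. -/
theorem s90g_odd_good [Fintype F] (hQ : IsNondegenerateQuadraticForm Q) (d m : ℕ)
    (hcard : Fintype.card ι = 2 * d) (hmin : ¬ OPl Q ⊤) (hm : 2 ≤ m) (hme : Even m)
    (hmn : m + 2 ≤ 2 * d)
    (T : Module.End F (ι → F)) (hT : OPres Q T) (r : ℕ) [Fact r.Prime] (hr2 : 2 < r)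
    (hrF : (r : F) ≠ 0) (hTr : T ^ r = 1) (i : ℕ)
    (hi : i = orderOf ((Fintype.card F : ℕ) : ZMod r)) (hodd : Odd i)
    (hcond : (2 * d) % (2 * i) = 0 ∨
      (2 * i ≤ m ∧ 0 < m % (2 * i) ∧ m % (2 * i) ≤ (2 * d) % (2 * i))) :
    ∃ W : Submodule F (ι → F), (finrank F W = m ∧ ONd Q W ∧ ¬ OPl Q W) ∧ W.map T ≤ W := by
  obtain ⟨c, hc2⟩ : ∃ c, c = 2 * i := ⟨_, rfl⟩
  have hc : c = if Even i then i else 2 * i := by
    rw [if_neg (Nat.not_even_iff_odd.mpr hodd)]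
    exact hc2
  rw [← hc2] at hcond
  have hi0 : 0 < i := hodd.pos
  have hc0 : 0 < c := by omega
  have hceven : Even c := by
    rw [hc2]
    exact even_two_mul i
  obtain ⟨ρ, Fx, P, hρ, hn, hFx, hP, horth, hsup, hfix, hPT, hPk, -, hsub⟩ :=
    s88g_split Q hQ T hT r hr2 hrF hTr i c hi hc
  have hPpl : OPl Q P :=
    oall_type_odd Q hQ T hT r hr2 hrF hTr (by rw [← hi]; exact hodd) P hPT hP hPk
  have hPeven : Even (finrank F P) := by
    rw [hρ]
    exact hceven.mul_right ρ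
  have hFxeven : Even (finrank F Fx) := by
    have h1 : Even (finrank F P + finrank F Fx) := by
      rw [hn, hcard]
      exact even_two_mul d
    exact (Nat.even_add.mp h1).mp hPeven
  have hFxmin : ¬ OPl Q Fx := by
    intro h
    have h1 := Cfsg.Agent.Helper33.o_type_mul Q hQ Fx P hFx hP horth hFxeven hPeven
    rw [hsup] at h1
    exact hmin (h1.mpr ⟨fun _ => hPpl, fun _ => h⟩)
  have hFxpos : 0 < finrank F Fx := by
    by_contra h0
    have h0' : finrank F Fx = 0 := by omega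
    have hFx0 : Fx = ⊥ := Submodule.finrank_eq_zero.mp h0'
    apply hFxmin
    rw [hFx0]
    exact Cfsg.Agent.Helper33.o_plus_bot Q hQ
  obtain ⟨h₁, hh₁ρ, hle, he₁pos, he₁le⟩ :=
    s90g_odd_arith d m c ρ (finrank F Fx) hc0 hm hmn (by rw [← hρ, hn, hcard]) hFxpos (by
      rcases hcond with h | ⟨_, h1, h2⟩
      · exact Or.inl h
      · exact Or.inr ⟨h1, h2⟩)
  obtain ⟨N₁, hN₁P, hN₁T, hN₁, hN₁dim, hN₁k⟩ := hsub h₁ hh₁ρ
  have hN₁pl : OPl Q N₁ :=
    oall_type_odd Q hQ T hT r hr2 hrF hTr (by rw [← hi]; exact hodd) N₁ hN₁T hN₁ hN₁k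
  have hN₁even : Even (finrank F N₁) := by
    rw [hN₁dim]
    exact hceven.mul_right h₁
  have he₁even : Even (m - c * h₁) :=
    (Nat.even_sub hle).mpr ⟨fun _ => hceven.mul_right h₁, fun _ => hme⟩
  rcases Nat.lt_or_eq_of_le he₁le with he₁lt | he₁eq
  · obtain ⟨k, hk⟩ := hFxeven
    obtain ⟨X, hXFx, hX, hXdim, hXty⟩ :=
      Cfsg.Agent.Helper35.EL.el_sub Q hQ Fx hFx k (by omega) (m - c * h₁) he₁even he₁pos
        (by omega) False
    have horthX : OOrth Q X N₁ := fun u hu v hv => horth u (hXFx hu) v (hN₁P hv)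
    refine ⟨X ⊔ N₁, ⟨?_, ?_, ?_⟩, ?_⟩
    · rw [Cfsg.Agent.Helper33.OType.finrank_sup_of_orth Q X N₁ hX horthX, hXdim, hN₁dim]
      omega
    · exact Cfsg.Agent.Helper33.OType.nondeg_sup Q hQ X N₁ hX hN₁ horthX
    · intro hW
      have h1 := (Cfsg.Agent.Helper33.o_type_mul Q hQ X N₁ hX hN₁ horthX
        (by rw [hXdim]; exact he₁even) hN₁even).mp hW
      exact hXty.mp (h1.mpr hN₁pl)
    · rw [Submodule.map_sup]
      refine sup_le_sup ?_ hN₁T
      rintro _ ⟨x, hx, rfl⟩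
      rw [hfix x (hXFx hx)]
      exact hx
  · have horthX : OOrth Q Fx N₁ := fun u hu v hv => horth u hu v (hN₁P hv)
    refine ⟨Fx ⊔ N₁, ⟨?_, ?_, ?_⟩, ?_⟩
    · rw [Cfsg.Agent.Helper33.OType.finrank_sup_of_orth Q Fx N₁ hFx horthX, hN₁dim]
      omega
    · exact Cfsg.Agent.Helper33.OType.nondeg_sup Q hQ Fx N₁ hFx hN₁ horthX
    · intro hW
      have h1 := (Cfsg.Agent.Helper33.o_type_mul Q hQ Fx N₁ hFx hN₁ horthX hFxeven
        hN₁even).mp hW
      exact hFxmin (h1.mpr hN₁pl)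
    · rw [Submodule.map_sup]
      refine sup_le_sup ?_ hN₁T
      rintro _ ⟨x, hx, rfl⟩
      rw [hfix x hx]
      exact hx

end Cfsg.Agent.Helper48.S90

namespace Cfsg.Agent.Helper48.S90

open Module Cfsg Cfsg.Geo Cfsg.Agent.Helper35.S88
open Cfsg.Agent.Helper96.OH Cfsg.Agent.Helper96.OHAux
open scoped MatrixGroups

variable {F : Type*} [Field F] [Fintype F]

/-- OOG [BIG] (`r` odd `≠ p`, `i` odd, `⟸`), verbatim from the skeleton. -/
theorem s90_odd_good {p : ℕ} [Fact p.Prime] [CharP F p] {q : ℕ} (hq : Fintype.card F = q)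
    (d m : ℕ) (hd : 4 ≤ d) (hm : 2 ≤ m) (hme : Even m) (hmn : m + 2 ≤ 2 * d) (a b : F)
    (hab : ∀ x y : F, x ^ 2 + a * x * y + b * y ^ 2 = 0 → x = 0 ∧ y = 0) (r : ℕ) [Fact r.Prime]
    (hr2 : 2 < r) (hrp : r ≠ p) (i : ℕ) (hi : i = orderOf (q : ZMod r)) (hodd : Odd i)
    (hcond : (2 * d) % (2 * i) = 0 ∨
      (2 * i ≤ m ∧ 0 < m % (2 * i) ∧ m % (2 * i) ≤ (2 * d) % (2 * i))) :
    AllEll (Cfsg.quadFormMinus (d - 1) F a b) r m := by
  classical
  subst hq
  have hrpr : r.Prime := Fact.out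
  have hrodd : Odd r := hrpr.odd_of_ne_two (by omega)
  have hrF : (r : F) ≠ 0 := oh_rF p r hrp
  obtain ⟨hQ, hminus⟩ := Cfsg.Agent.Helper35.TS5973.ts_std_minus (F := F) (d - 1) a b hab
  have hcard : Fintype.card ((Fin (d - 1) ⊕ Fin (d - 1)) ⊕ Fin 2) = 2 * d := by
    rw [Fintype.card_sum, Fintype.card_sum, Fintype.card_fin, Fintype.card_fin]; omega
  intro x hx hxr hns
  have hxiso := Cfsg.Agent.Helper97.Gen.omegaGL_le _ hx
  obtain ⟨x', hx', hx'r, hx'1, -, htrans⟩ :=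
    Cfsg.Agent.Helper80.S88.s88_scal (Cfsg.quadFormMinus (d - 1) F a b) hQ r hrodd x hxiso hxr hns
  apply htrans m
  have hT := oh_opres_toLin' (Cfsg.quadFormMinus (d - 1) F a b) x' hx'
  have hTr : Matrix.toLin' (x' : Matrix ((Fin (d - 1) ⊕ Fin (d - 1)) ⊕ Fin 2)
      ((Fin (d - 1) ⊕ Fin (d - 1)) ⊕ Fin 2) F) ^ r = 1 := by
    have h2 : (x' : Matrix ((Fin (d - 1) ⊕ Fin (d - 1)) ⊕ Fin 2)
        ((Fin (d - 1) ⊕ Fin (d - 1)) ⊕ Fin 2) F) ^ r = 1 := by
      rw [← Units.val_pow_eq_pow_val, hx'r]; rfl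
    rw [oh_toLin'_pow_eq, h2, Matrix.toLin'_one]; rfl
  exact s90g_odd_good (Cfsg.quadFormMinus (d - 1) F a b) hQ d m hcard hminus hm hme hmn _ hT r hr2
    hrF hTr i hi hodd hcond

end Cfsg.Agent.Helper48.S90
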