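/-
CALL S5666 (helper71), piece GEN3 (helper48): `generic3`, statement verbatim from
tools/calls/SGSkel.lean.txt.
-/
import Mathlib
import Cfsg.Agent.Helper71.SQMain
import Cfsg.Agent.Helper71.SGDefs

set_option autoImplicit false
set_option linter.unusedVariables false

namespace Cfsg.Agent.Helper48.SGGEN3

open Matrix Cfsg.Agent.Helper71.T4 Cfsg.Agent.Helper71.SO Cfsg.Agent.Helper71.SQ
open Cfsg.Agent.Helper71.SG
open scoped Kronecker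
open Cfsg.Agent.Helper53.SQET (tac_mulVec)
open Cfsg.Agent.Helper53.SQTA (alt_partner)
open Cfsg.Agent.Helper96.T5 (pt_smul_left pt_smul_right pt_zero_right)
open Cfsg.Agent.Helper71.SQMain (bl_skew bl_self bl_smul_l)

variable {F : Type*} [Field F] {m n : ℕ}

theorem gen3_tk_eq (J : Matrix (Fin m) (Fin m) F) (a : Fin m → F) (c : F) :
    Tac J a c ⊗ₖ (1 : Matrix (Fin n) (Fin n) F) =
      1 + c • (vecMulVec a (J *ᵥ a) ⊗ₖ (1 : Matrix (Fin n) (Fin n) F)) := by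
  unfold Tac
  rw [Matrix.add_kronecker, Matrix.one_kronecker_one, Matrix.smul_kronecker]

theorem gen3_fix_iff (J : Matrix (Fin m) (Fin m) F) (a : Fin m → F) (c : F) (hc : c ≠ 0)
    (v : Fin m × Fin n → F) :
    (Tac J a c ⊗ₖ (1 : Matrix (Fin n) (Fin n) F)) *ᵥ v = v ↔
      (vecMulVec a (J *ᵥ a) ⊗ₖ (1 : Matrix (Fin n) (Fin n) F)) *ᵥ v = 0 := by
  rw [gen3_tk_eq, Matrix.add_mulVec, Matrix.one_mulVec, Matrix.smul_mulVec, add_eq_left,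
    smul_eq_zero]
  constructor
  · intro h
    exact h.resolve_left hc
  · intro h
    exact Or.inr h

theorem gen3_conj (J : Matrix (Fin m) (Fin m) F) (A : Matrix (Fin m) (Fin m) F) (ν : F)
    (hA : Aᵀ * J * A = ν • J) (a : Fin m → F) :
    Tac J (A *ᵥ a) 1 * A = A * Tac J a ν := by
  unfold Tac
  rw [Matrix.add_mul, Matrix.mul_add, Matrix.one_mul, Matrix.mul_one, one_smul,
    Matrix.vecMulVec_mul, Matrix.mul_smul, Matrix.mul_vecMulVec]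
  have h1 : (J *ᵥ A *ᵥ a) ᵥ* A = ν • J *ᵥ a := by
    rw [← Matrix.mulVec_transpose, Matrix.mulVec_mulVec, Matrix.mulVec_mulVec, hA,
      Matrix.smul_mulVec]
  rw [h1, Matrix.vecMulVec_smul]

theorem gen3_step (hm : 3 ≤ m) (h2 : (2 : F) ≠ 0) (J : Matrix (Fin m) (Fin m) F)
    (hJ : Jᵀ = -J) (hdetJ : J.det ≠ 0)
    (M : Subgroup (GL (Fin m × Fin n) F))
    (hz : ∀ (d : Fin m → F), d ≠ 0 → ∀ k : GL (Fin m × Fin n) F, k ∈ M →
      (∀ z : Fin n → F, ∃ z' : Fin n → F,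
        (k : Matrix (Fin m × Fin n) (Fin m × Fin n) F) *ᵥ pt d z = pt d z') →
      IsKron (k : Matrix (Fin m × Fin n) (Fin m × Fin n) F))
    (hlem : ∀ (b a₁ : Fin m → F), b ≠ 0 → (∀ c : F, a₁ ≠ c • b) →
      ∀ μ : Matrix (Fin m × Fin n) (Fin m × Fin n) F,
      (∀ v : Fin m × Fin n → F,
        (Tac J b 1 ⊗ₖ (1 : Matrix (Fin n) (Fin n) F)) *ᵥ v = v →
        (Tac J a₁ 1 ⊗ₖ (1 : Matrix (Fin n) (Fin n) F)) *ᵥ (μ *ᵥ v) = μ *ᵥ v → μ *ᵥ v = v) →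
      ∀ d : Fin m → F, bl J d b = 0 → bl J d a₁ = 0 → ∀ z : Fin n → F,
        μ *ᵥ pt d z = pt d z)
    (g : GL (Fin m × Fin n) F) (hg : g ∈ M)
    (hnk : ¬ IsKron (g : Matrix (Fin m × Fin n) (Fin m × Fin n) F))
    (a : Fin m → F) (ha : a ≠ 0)
    (hfus : ∀ b : Fin m → F, b ≠ 0 → ∃ x : GL (Fin m × Fin n) F, x ∈ M ∧
      (∃ (A : Matrix (Fin m) (Fin m) F) (B : Matrix (Fin n) (Fin n) F) (ν : F), ν ≠ 0 ∧
        Aᵀ * J * A = ν • J ∧ B.det ≠ 0 ∧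
        (x : Matrix (Fin m × Fin n) (Fin m × Fin n) F)
          = (A ⊗ₖ B) * (g : Matrix (Fin m × Fin n) (Fin m × Fin n) F)) ∧
      ∀ v : Fin m × Fin n → F,
        (Tac J b 1 ⊗ₖ (1 : Matrix (Fin n) (Fin n) F)) *ᵥ v = v →
        (Tac J a 1 ⊗ₖ (1 : Matrix (Fin n) (Fin n) F))
            *ᵥ ((g : Matrix (Fin m × Fin n) (Fin m × Fin n) F) *ᵥ v)
          = (g : Matrix (Fin m × Fin n) (Fin m × Fin n) F) *ᵥ v →
        (x : Matrix (Fin m × Fin n) (Fin m × Fin n) F) *ᵥ v = v)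
    (b : Fin m → F) (hb : b ≠ 0) (w : Fin m × Fin n → F)
    (hw : ∃ z : Fin n → F, (g : Matrix (Fin m × Fin n) (Fin m × Fin n) F) *ᵥ w = pt a z)
    (hwb : (Tac J b 1 ⊗ₖ (1 : Matrix (Fin n) (Fin n) F)) *ᵥ w = w) :
    ∃ z₁ : Fin n → F, w = pt b z₁ := by
  obtain ⟨x, hxM, ⟨A, B, ν, hν, hA, hB, hx⟩, hfix⟩ := hfus b hb
  have hdA : A.det ≠ 0 := by
    intro h0
    have h3 := congrArg Matrix.det hA
    rw [Matrix.det_mul, Matrix.det_mul, h0, mul_zero, Matrix.det_smul] at h3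
    exact mul_ne_zero (pow_ne_zero _ hν) hdetJ h3.symm
  have hKinv : (A⁻¹ ⊗ₖ B⁻¹) * (A ⊗ₖ B) = 1 := by
    rw [← Matrix.mul_kronecker_mul, Matrix.nonsing_inv_mul A (isUnit_iff_ne_zero.mpr hdA),
      Matrix.nonsing_inv_mul B (isUnit_iff_ne_zero.mpr hB), Matrix.one_kronecker_one]
  have hinj : ∀ y y' : Fin m × Fin n → F, (A ⊗ₖ B) *ᵥ y = (A ⊗ₖ B) *ᵥ y' → y = y' := by
    intro y y' h
    have h3 := congrArg (fun t => (A⁻¹ ⊗ₖ B⁻¹) *ᵥ t) h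
    simp only [Matrix.mulVec_mulVec, hKinv, Matrix.one_mulVec] at h3
    exact h3
  have hcomm : (Tac J (A *ᵥ a) 1 ⊗ₖ (1 : Matrix (Fin n) (Fin n) F)) * (A ⊗ₖ B) =
      (A ⊗ₖ B) * (Tac J a ν ⊗ₖ (1 : Matrix (Fin n) (Fin n) F)) := by
    rw [← Matrix.mul_kronecker_mul, ← Matrix.mul_kronecker_mul, gen3_conj J A ν hA a,
      Matrix.one_mul, Matrix.mul_one]
  have hstar : ∀ v : Fin m × Fin n → F,
      (Tac J b 1 ⊗ₖ (1 : Matrix (Fin n) (Fin n) F)) *ᵥ v = v →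
      (Tac J (A *ᵥ a) 1 ⊗ₖ (1 : Matrix (Fin n) (Fin n) F))
          *ᵥ ((x : Matrix (Fin m × Fin n) (Fin m × Fin n) F) *ᵥ v)
        = (x : Matrix (Fin m × Fin n) (Fin m × Fin n) F) *ᵥ v →
      (x : Matrix (Fin m × Fin n) (Fin m × Fin n) F) *ᵥ v = v := by
    intro v hv1 hv2
    apply hfix v hv1
    rw [hx, ← Matrix.mulVec_mulVec, Matrix.mulVec_mulVec _ (Tac J (A *ᵥ a) 1 ⊗ₖ 1) (A ⊗ₖ B),
      hcomm, ← Matrix.mulVec_mulVec] at hv2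
    have h3 := hinj _ _ hv2
    rw [gen3_fix_iff J a ν hν] at h3
    rw [gen3_fix_iff J a 1 one_ne_zero]
    exact h3
  by_cases hcase : ∀ c : F, A *ᵥ a ≠ c • b
  · exfalso
    have h1 := hlem b (A *ᵥ a) hb hcase (x : Matrix (Fin m × Fin n) (Fin m × Fin n) F) hstar
    obtain ⟨d, hd, hd1, hd2⟩ := exists_perp2 hm (J *ᵥ b) (J *ᵥ (A *ᵥ a))
    have hk : IsKron (x : Matrix (Fin m × Fin n) (Fin m × Fin n) F) :=
      hz d hd x hxM (fun z => ⟨z, h1 d hd1 hd2 z⟩)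
    obtain ⟨A', B', hAB'⟩ := hk
    apply hnk
    refine ⟨A⁻¹ * A', B⁻¹ * B', ?_⟩
    rw [Matrix.mul_kronecker_mul, ← hAB', hx, ← Matrix.mul_assoc, hKinv, Matrix.one_mul]
  · push Not at hcase
    obtain ⟨l, hl⟩ := hcase
    obtain ⟨z, hz'⟩ := hw
    have hxw : (x : Matrix (Fin m × Fin n) (Fin m × Fin n) F) *ᵥ w = w :=
      hfix w hwb (by
        rw [hz', kron_mulVec_pt, Matrix.one_mulVec, tac_mulVec, bl_self h2 J hJ, mul_zero,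
          zero_smul, add_zero])
    have hxw' : (x : Matrix (Fin m × Fin n) (Fin m × Fin n) F) *ᵥ w = pt b (l • B *ᵥ z) := by
      rw [hx, ← Matrix.mulVec_mulVec, hz', kron_mulVec_pt, hl, pt_smul_left, pt_smul_right]
    exact ⟨l • B *ᵥ z, by rw [← hxw, hxw']⟩

/-! ## Piece GEN3 -/
theorem generic3 (hm : 3 ≤ m) (h2 : (2 : F) ≠ 0) (J : Matrix (Fin m) (Fin m) F)
    (hJ : Jᵀ = -J) (hdetJ : J.det ≠ 0)
    (M : Subgroup (GL (Fin m × Fin n) F))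
    (hz : ∀ (d : Fin m → F), d ≠ 0 → ∀ k : GL (Fin m × Fin n) F, k ∈ M →
      (∀ z : Fin n → F, ∃ z' : Fin n → F,
        (k : Matrix (Fin m × Fin n) (Fin m × Fin n) F) *ᵥ pt d z = pt d z') →
      IsKron (k : Matrix (Fin m × Fin n) (Fin m × Fin n) F))
    (hlem : ∀ (b a₁ : Fin m → F), b ≠ 0 → (∀ c : F, a₁ ≠ c • b) →
      ∀ μ : Matrix (Fin m × Fin n) (Fin m × Fin n) F,
      (∀ v : Fin m × Fin n → F,
        (Tac J b 1 ⊗ₖ (1 : Matrix (Fin n) (Fin n) F)) *ᵥ v = v →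
        (Tac J a₁ 1 ⊗ₖ (1 : Matrix (Fin n) (Fin n) F)) *ᵥ (μ *ᵥ v) = μ *ᵥ v → μ *ᵥ v = v) →
      ∀ d : Fin m → F, bl J d b = 0 → bl J d a₁ = 0 → ∀ z : Fin n → F,
        μ *ᵥ pt d z = pt d z)
    (g : GL (Fin m × Fin n) F) (hg : g ∈ M)
    (hnk : ¬ IsKron (g : Matrix (Fin m × Fin n) (Fin m × Fin n) F))
    (a : Fin m → F) (ha : a ≠ 0)
    (hfus : ∀ b : Fin m → F, b ≠ 0 → ∃ x : GL (Fin m × Fin n) F, x ∈ M ∧
      (∃ (A : Matrix (Fin m) (Fin m) F) (B : Matrix (Fin n) (Fin n) F) (ν : F), ν ≠ 0 ∧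
        Aᵀ * J * A = ν • J ∧ B.det ≠ 0 ∧
        (x : Matrix (Fin m × Fin n) (Fin m × Fin n) F)
          = (A ⊗ₖ B) * (g : Matrix (Fin m × Fin n) (Fin m × Fin n) F)) ∧
      ∀ v : Fin m × Fin n → F,
        (Tac J b 1 ⊗ₖ (1 : Matrix (Fin n) (Fin n) F)) *ᵥ v = v →
        (Tac J a 1 ⊗ₖ (1 : Matrix (Fin n) (Fin n) F))
            *ᵥ ((g : Matrix (Fin m × Fin n) (Fin m × Fin n) F) *ᵥ v)
          = (g : Matrix (Fin m × Fin n) (Fin m × Fin n) F) *ᵥ v →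
        (x : Matrix (Fin m × Fin n) (Fin m × Fin n) F) *ᵥ v = v)
    (b : Fin m → F) (hb : b ≠ 0) (w : Fin m × Fin n → F)
    (hw : ∃ z : Fin n → F, (g : Matrix (Fin m × Fin n) (Fin m × Fin n) F) *ᵥ w = pt a z)
    (hwb : (Tac J b 1 ⊗ₖ (1 : Matrix (Fin n) (Fin n) F)) *ᵥ w = w) : w = 0 := by
  obtain ⟨z₁, hz₁⟩ := gen3_step hm h2 J hJ hdetJ M hz hlem g hg hnk a ha hfus b hb w hw hwb
  obtain ⟨y, hy⟩ := alt_partner J hdetJ b hb
  obtain ⟨b', hb', hb'1, hb'2⟩ := exists_perp2 hm (J *ᵥ b) (J *ᵥ y)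
  have hb'1' : bl J b' b = 0 := hb'1
  have hb'2' : bl J b' y = 0 := hb'2
  have hbb' : bl J b b' = 0 := by rw [bl_skew J hJ b' b, hb'1', neg_zero]
  have hwb' : (Tac J b' 1 ⊗ₖ (1 : Matrix (Fin n) (Fin n) F)) *ᵥ w = w := by
    rw [hz₁, kron_mulVec_pt, Matrix.one_mulVec, tac_mulVec, hbb', mul_zero, zero_smul, add_zero]
  obtain ⟨z₂, hz₂⟩ := gen3_step hm h2 J hJ hdetJ M hz hlem g hg hnk a ha hfus b' hb' w hw hwb'
  by_cases hz10 : z₁ = 0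
  · rw [hz₁, hz10, pt_zero_right]
  · exfalso
    obtain ⟨j, hj⟩ := Function.ne_iff.mp hz10
    have hj' : z₁ j ≠ 0 := hj
    have hbeq : b = (z₂ j / z₁ j) • b' := by
      funext i
      have h3 := congrFun (hz₁.symm.trans hz₂) (i, j)
      simp only [pt] at h3
      simp only [Pi.smul_apply, smul_eq_mul]
      field_simp
      linear_combination h3
    have h4 : bl J b y = 0 := by
      rw [hbeq, bl_smul_l, hb'2', mul_zero]
    rw [hy] at h4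
    exact one_ne_zero h4

end Cfsg.Agent.Helper48.SGGEN3
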