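/-
CALL S5666 (helper71), piece TY3 (helper48, double): `no_type3`, statement verbatim from
tools/calls/SGSkel.lean.txt.
-/
import Mathlib
import Cfsg.Agent.Helper71.SQMain
import Cfsg.Agent.Helper71.SGDefs
import Cfsg.Agent.Helper48.SGGEN3

set_option autoImplicit false
set_option linter.unusedVariables false

namespace Cfsg.Agent.Helper48.SGTY3

open Matrix Cfsg.Agent.Helper71.T4 Cfsg.Agent.Helper71.SO Cfsg.Agent.Helper71.SQ
open Cfsg.Agent.Helper71.SG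
open scoped Kronecker
open Cfsg.Agent.Helper53.SQET (tac_mulVec eay_mulVec et_tac_isom)
open Cfsg.Agent.Helper53.SQTA (alt_partner alt_partner2)
open Cfsg.Agent.Helper96.T5 (bf bf_kron_pt bf_mulVec_left bf_mulVec_right pt_smul_left
  pt_smul_right pt_zero_left pt_zero_right)
open Cfsg.Agent.Helper71.SQMain (bl_skew bl_self bl_smul_l)
open Cfsg.Agent.Helper11.SORT (bl_add_left bl_add_right bl_zero_right bl_zero_left bl_comm
  vmvS_mulVec bl_conj mv_ext ruw_mulVec ruw_isom)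
open Cfsg.Agent.Helper11.SOTR (exists_bl_ne)
open Cfsg.Agent.Helper48.SGGEN3 (gen3_tk_eq)

variable {F : Type*} [Field F] {m n : ℕ}

theorem ty3_pt_apply (J : Matrix (Fin m) (Fin m) F) (a x : Fin m → F) (z : Fin n → F) :
    (vecMulVec a (J *ᵥ a) ⊗ₖ (1 : Matrix (Fin n) (Fin n) F)) *ᵥ pt x z = pt (bl J x a • a) z := by
  rw [kron_mulVec_pt, Matrix.one_mulVec, vmvS_mulVec]

theorem ty3_kron_apply (A : Matrix (Fin m) (Fin m) F) (B : Matrix (Fin n) (Fin n) F)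
    (v : Fin m × Fin n → F) (i : Fin m) (j : Fin n) :
    ((A ⊗ₖ B) *ᵥ v) (i, j) = ∑ i', A i i' * (B *ᵥ (fun j' => v (i', j'))) j := by
  simp only [Matrix.mulVec, dotProduct, Fintype.sum_prod_type, Matrix.kroneckerMap_apply,
    Finset.mul_sum]
  refine Finset.sum_congr rfl fun i' _ => Finset.sum_congr rfl fun j' _ => ?_
  ring

theorem ty3_PT_mulVec (J : Matrix (Fin m) (Fin m) F) (a : Fin m → F) (v : Fin m × Fin n → F) :
    (vecMulVec a (J *ᵥ a) ⊗ₖ (1 : Matrix (Fin n) (Fin n) F)) *ᵥ v =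
      pt a (fun j => ∑ i, (J *ᵥ a) i * v (i, j)) := by
  funext p
  obtain ⟨i, j⟩ := p
  rw [ty3_kron_apply]
  simp only [Matrix.one_mulVec, Matrix.vecMulVec_apply, pt, Finset.mul_sum]
  refine Finset.sum_congr rfl fun i' _ => ?_
  ring

theorem ty3_on_rows (N : Matrix (Fin n) (Fin n) F) (v : Fin m × Fin n → F)
    (h : ((1 : Matrix (Fin m) (Fin m) F) ⊗ₖ N) *ᵥ v = 0) (i : Fin m) :
    N *ᵥ (fun j => v (i, j)) = 0 := by
  funext j
  have h1 := congrFun h (i, j)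
  rw [ty3_kron_apply, Finset.sum_eq_single i] at h1
  · rw [Matrix.one_apply_eq, one_mul] at h1
    exact h1
  · intro b _ hb
    rw [Matrix.one_apply_ne hb.symm, zero_mul]
  · intro hi
    exact absurd (Finset.mem_univ i) hi

theorem ty3_rows (J : Matrix (Fin m) (Fin m) F) (S : Matrix (Fin n) (Fin n) F)
    (v v' : Fin m × Fin n → F) :
    bf (J ⊗ₖ S) v v' =
      ∑ i, ∑ i', J i i' * bl S (fun j => v (i, j)) (fun j => v' (i', j)) := by
  simp only [bf, bl, dotProduct, Matrix.mulVec, Fintype.sum_prod_type, Matrix.kroneckerMap_apply,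
    Finset.mul_sum]
  refine Finset.sum_congr rfl fun i _ => ?_
  rw [Finset.sum_comm]
  refine Finset.sum_congr rfl fun i' _ => Finset.sum_congr rfl fun j _ =>
    Finset.sum_congr rfl fun j' _ => ?_
  ring

theorem ty3_skew (S N : Matrix (Fin n) (Fin n) F) (hB : (1 + N)ᵀ * S * (1 + N) = S)
    (hNN : N * N = 0) :
    (∀ x y, bl S (N *ᵥ x) (N *ᵥ y) = 0) ∧ (∀ x y, bl S (N *ᵥ x) y = -bl S x (N *ᵥ y)) := by
  have key : ∀ x y, bl S x (N *ᵥ y) + bl S (N *ᵥ x) y + bl S (N *ᵥ x) (N *ᵥ y) = 0 := by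
    intro x y
    have h := bl_conj S (1 + N) x y
    rw [hB] at h
    simp only [Matrix.add_mulVec, Matrix.one_mulVec, bl_add_left, bl_add_right] at h
    linear_combination -h
  have hNN' : ∀ y, N *ᵥ (N *ᵥ y) = 0 := fun y => by
    rw [Matrix.mulVec_mulVec, hNN, Matrix.zero_mulVec]
  have h1 : ∀ x y, bl S (N *ᵥ x) (N *ᵥ y) = 0 := by
    intro x y
    have h := key x (N *ᵥ y)
    rw [hNN', bl_zero_right, bl_zero_right] at h
    linear_combination h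
  refine ⟨h1, fun x y => ?_⟩
  have h := key x y
  rw [h1] at h
  linear_combination h

theorem ty3_isom (hm : 0 < m) (J : Matrix (Fin m) (Fin m) F) (hdetJ : J.det ≠ 0)
    (S B : Matrix (Fin n) (Fin n) F)
    (h : IsSpG J S ((1 : Matrix (Fin m) (Fin m) F) ⊗ₖ B)) : Bᵀ * S * B = S := by
  unfold IsSpG OmG at h
  rw [← Matrix.kroneckerMap_transpose, Matrix.transpose_one, ← Matrix.mul_kronecker_mul,
    ← Matrix.mul_kronecker_mul, Matrix.one_mul, Matrix.mul_one] at h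
  obtain ⟨i, i', hii'⟩ : ∃ i i', J i i' ≠ 0 := by
    by_contra hcon
    push Not at hcon
    apply hdetJ
    have hJ0 : J = 0 := by
      ext i i'
      exact hcon i i'
    have : Nonempty (Fin m) := Fin.pos_iff_nonempty.mp hm
    rw [hJ0]
    exact Matrix.det_zero
  ext j j'
  have h1 := congrFun (congrFun h (i, j)) (i', j')
  simp only [Matrix.kroneckerMap_apply] at h1
  exact mul_left_cancel₀ hii' h1

theorem ty3_r_form (h2 : (2 : F) ≠ 0) (S : Matrix (Fin n) (Fin n) F) (hS : Sᵀ = S)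
    (N : Matrix (Fin n) (Fin n) F)
    (h1 : ∀ x y, bl S (N *ᵥ x) (N *ᵥ y) = 0)
    (h2' : ∀ x y, bl S (N *ᵥ x) y = -bl S x (N *ᵥ y))
    (x₀ w : Fin n → F) (hw : N *ᵥ w = 0) :
    ruw S (N *ᵥ x₀) w * N = N ∧
    ruw S (N *ᵥ x₀) w = 1 + N * vecMulVec x₀ (S *ᵥ w) +
      ((2⁻¹ * bl S w w) • vecMulVec (N *ᵥ x₀) (S *ᵥ x₀) + vecMulVec w (S *ᵥ x₀)) * N := by
  have huu : bl S (N *ᵥ x₀) (N *ᵥ x₀) = 0 := h1 x₀ x₀
  have huw : bl S (N *ᵥ x₀) w = 0 := by rw [h2', hw, bl_zero_right, neg_zero]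
  constructor
  · apply mv_ext
    intro x
    rw [← Matrix.mulVec_mulVec, ruw_mulVec h2 S hS _ _ _ huu huw, h1 x x₀, h2' x w, hw,
      bl_zero_right]
    simp
  · apply mv_ext
    intro x
    rw [ruw_mulVec h2 S hS _ _ _ huu huw]
    simp only [Matrix.add_mulVec, Matrix.one_mulVec, ← Matrix.mulVec_mulVec, Matrix.smul_mulVec,
      vmvS_mulVec, Matrix.mulVec_smul]
    have h3 : bl S x (N *ᵥ x₀) = -bl S (N *ᵥ x) x₀ := by rw [h2' x x₀, neg_neg]
    rw [h3]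
    ext k
    simp only [Pi.add_apply, Pi.sub_apply, Pi.smul_apply, smul_eq_mul]
    ring

theorem ty3_sq_ne (h2 : (2 : F) ≠ 0) (S : Matrix (Fin n) (Fin n) F) (hS : Sᵀ = S)
    (hdet : S.det ≠ 0) (u w : Fin n → F) (hu : u ≠ 0) (huu : bl S u u = 0)
    (huw : bl S u w = 0) (hww : bl S w w ≠ 0) :
    (ruw S u w - 1) * (ruw S u w - 1) ≠ 0 := by
  intro h
  obtain ⟨x, hx⟩ := exists_bl_ne S hdet u hu
  have hwu : bl S w u = 0 := by rw [bl_comm S hS, huw]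
  have hxu : bl S x u ≠ 0 := by rw [bl_comm S hS]; exact hx
  have hr : ∀ y, (ruw S u w - 1) *ᵥ y =
      (bl S y w - 2⁻¹ * bl S w w * bl S y u) • u - bl S y u • w := by
    intro y
    rw [Matrix.sub_mulVec, Matrix.one_mulVec, ruw_mulVec h2 S hS u w y huu huw]
    abel
  have h3 := congrArg (fun Z => Z *ᵥ x) h
  simp only [Matrix.zero_mulVec] at h3
  rw [← Matrix.mulVec_mulVec, hr x, Matrix.mulVec_sub, Matrix.mulVec_smul, Matrix.mulVec_smul,
    hr u, hr w, huu, huw, hwu] at h3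
  simp only [mul_zero, sub_zero, zero_smul, smul_zero, zero_sub, neg_eq_zero, smul_eq_zero] at h3
  rcases h3 with h3 | h3 | h3
  · exact hxu h3
  · exact hww h3
  · exact hu h3

theorem ty3_eay_sq (h2 : (2 : F) ≠ 0) (J : Matrix (Fin m) (Fin m) F) (hJ : Jᵀ = -J)
    (a y₀ : Fin m → F) (hay : bl J a y₀ = 0) :
    (Eay J a y₀ - 1) * (Eay J a y₀ - 1) = 0 := by
  apply mv_ext
  intro x
  have he : ∀ z, (Eay J a y₀ - 1) *ᵥ z = bl J z a • y₀ + bl J z y₀ • a := by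
    intro z
    rw [Matrix.sub_mulVec, Matrix.one_mulVec, eay_mulVec]
    abel
  have hya : bl J y₀ a = 0 := by rw [bl_skew J hJ a y₀, hay, neg_zero]
  rw [← Matrix.mulVec_mulVec, he x, Matrix.zero_mulVec, Matrix.mulVec_add, Matrix.mulVec_smul,
    Matrix.mulVec_smul, he y₀, he a, hya, bl_self h2 J hJ y₀, bl_self h2 J hJ a, hay]
  simp

/-! ## Piece TY3 -/
theorem no_type3 (hm : 4 ≤ m) (h2 : (2 : F) ≠ 0) (J : Matrix (Fin m) (Fin m) F)
    (hJ : Jᵀ = -J) (hdetJ : J.det ≠ 0) (S : Matrix (Fin n) (Fin n) F) (hS : Sᵀ = S)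
    (hdetS : S.det ≠ 0)
    (M : Subgroup (GL (Fin m × Fin n) F)) (hSp : SpLEG J S M) (hH : HasHG J S M)
    (a : Fin m → F) (ha : a ≠ 0)
    (hrad : ∀ ρ : GL (Fin m × Fin n) F, ρ ∈ M →
      (∀ b : Fin n → F, (ρ : Matrix (Fin m × Fin n) (Fin m × Fin n) F) *ᵥ pt a b = pt a b) →
      (∀ (y : Fin m → F) (b : Fin n → F), bl J a y = 0 → ∃ b' : Fin n → F,
        (ρ : Matrix (Fin m × Fin n) (Fin m × Fin n) F) *ᵥ pt y b = pt y b + pt a b') →
      ∃ y₀ : Fin m → F, bl J a y₀ = 0 ∧ (ρ : Matrix (Fin m × Fin n) (Fin m × Fin n) F)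
        = Eay J a y₀ ⊗ₖ (1 : Matrix (Fin n) (Fin n) F))
    (g : GL (Fin m × Fin n) F) (hg : g ∈ M) (c : F) (hc : c ≠ 0)
    (N : Matrix (Fin n) (Fin n) F) (hN : N ≠ 0) (hNN : N * N = 0)
    (hconj : (g : Matrix (Fin m × Fin n) (Fin m × Fin n) F)
        * (Tac J a c ⊗ₖ (1 : Matrix (Fin n) (Fin n) F))
        * ((g⁻¹ : GL (Fin m × Fin n) F) : Matrix (Fin m × Fin n) (Fin m × Fin n) F)
      = (1 : Matrix (Fin m) (Fin m) F) ⊗ₖ (1 + N)) : False := by
  obtain ⟨G, hG⟩ : ∃ G : Matrix (Fin m × Fin n) (Fin m × Fin n) F,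
      G = (g : Matrix (Fin m × Fin n) (Fin m × Fin n) F) := ⟨_, rfl⟩
  obtain ⟨G', hG'⟩ : ∃ G' : Matrix (Fin m × Fin n) (Fin m × Fin n) F,
      G' = ((g⁻¹ : GL (Fin m × Fin n) F) : Matrix (Fin m × Fin n) (Fin m × Fin n) F) := ⟨_, rfl⟩
  have hGG' : G * G' = 1 := by rw [hG, hG', ← Units.val_mul, mul_inv_cancel, Units.val_one]
  have hG'G : G' * G = 1 := by rw [hG, hG', ← Units.val_mul, inv_mul_cancel, Units.val_one]
  rw [← hG, ← hG'] at hconj
  obtain ⟨PT, hPT⟩ : ∃ PT : Matrix (Fin m × Fin n) (Fin m × Fin n) F,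
      PT = vecMulVec a (J *ᵥ a) ⊗ₖ (1 : Matrix (Fin n) (Fin n) F) := ⟨_, rfl⟩
  obtain ⟨ON, hON⟩ : ∃ ON : Matrix (Fin m × Fin n) (Fin m × Fin n) F,
      ON = (1 : Matrix (Fin m) (Fin m) F) ⊗ₖ N := ⟨_, rfl⟩
  have hT : Tac J a c ⊗ₖ (1 : Matrix (Fin n) (Fin n) F) = 1 + c • PT := by
    rw [hPT]
    exact gen3_tk_eq J a c
  have hX : (1 : Matrix (Fin m) (Fin m) F) ⊗ₖ (1 + N) = 1 + ON := by
    rw [hON, Matrix.kronecker_add, Matrix.one_kronecker_one]
  have hE1 : ON * G = c • (G * PT) := by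
    have h3 : G * (Tac J a c ⊗ₖ (1 : Matrix (Fin n) (Fin n) F)) =
        ((1 : Matrix (Fin m) (Fin m) F) ⊗ₖ (1 + N)) * G := by
      rw [← hconj, Matrix.mul_assoc (G * _) G' G, hG'G, Matrix.mul_one]
    rw [hT, hX, Matrix.mul_add, Matrix.add_mul, Matrix.mul_one, Matrix.one_mul,
      Matrix.mul_smul] at h3
    exact (add_left_cancel h3).symm
  have hE1inv : G * PT = c⁻¹ • (ON * G) := by
    rw [hE1, smul_smul, inv_mul_cancel₀ hc, one_smul]
  have hE2 : G' * ON = c • (PT * G') := by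
    have h3 : (Tac J a c ⊗ₖ (1 : Matrix (Fin n) (Fin n) F)) * G' =
        G' * ((1 : Matrix (Fin m) (Fin m) F) ⊗ₖ (1 + N)) := by
      rw [← hconj, ← Matrix.mul_assoc, ← Matrix.mul_assoc, hG'G, Matrix.one_mul]
    rw [hT, hX, Matrix.mul_add, Matrix.add_mul, Matrix.mul_one, Matrix.one_mul,
      Matrix.smul_mul] at h3
    exact (add_left_cancel h3).symm
  -- `1 + N` is an isometry of `S`
  obtain ⟨t, htM, ht⟩ := hH (Tac J a c) 1 1 1 (by rw [et_tac_isom h2 J hJ a c, one_smul])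
    (by rw [Matrix.transpose_one, Matrix.one_mul, Matrix.mul_one, one_smul]) (one_mul 1)
  have hXsp : IsSpG J S ((1 : Matrix (Fin m) (Fin m) F) ⊗ₖ (1 + N)) := by
    have h3 := hSp (g * t * g⁻¹) (M.mul_mem (M.mul_mem hg htM) (M.inv_mem hg))
    rw [Units.val_mul, Units.val_mul, ht, ← hG, ← hG', hconj] at h3
    exact h3
  have hB := ty3_isom (by omega) J hdetJ S (1 + N) hXsp
  obtain ⟨hN1, hN2⟩ := ty3_skew S N hB hNN
  obtain ⟨x₀, hx₀⟩ : ∃ x₀, N *ᵥ x₀ ≠ 0 := by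
    by_contra hcon
    push Not at hcon
    exact hN (mv_ext N 0 (fun x => by rw [hcon x, Matrix.zero_mulVec]))
  have huu : bl S (N *ᵥ x₀) (N *ᵥ x₀) = 0 := hN1 x₀ x₀
  have hkerv : ∀ (d : Fin m → F) (z : Fin n → F), bl J d a = 0 → ON *ᵥ (G *ᵥ pt d z) = 0 := by
    intro d z hd
    rw [Matrix.mulVec_mulVec, hE1, Matrix.smul_mulVec, ← Matrix.mulVec_mulVec, hPT, ty3_pt_apply,
      hd, zero_smul, pt_zero_left, Matrix.mulVec_zero, smul_zero]
  -- step 1: a non-singular vector in the kernel of `N`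
  have hstep1 : ∃ w, N *ᵥ w = 0 ∧ bl S w w ≠ 0 := by
    by_contra hcon
    push Not at hcon
    have hpol : ∀ w w', N *ᵥ w = 0 → N *ᵥ w' = 0 → bl S w w' = 0 := by
      intro w w' hw hw'
      have h3 := hcon (w + w') (by rw [Matrix.mulVec_add, hw, hw', add_zero])
      simp only [bl_add_left, bl_add_right] at h3
      rw [hcon w hw, hcon w' hw', bl_comm S hS w' w] at h3
      have h4 : 2 * bl S w w' = 0 := by linear_combination h3
      exact (mul_eq_zero.mp h4).resolve_left h2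
    obtain ⟨w₀, hw₀⟩ : ∃ w₀, bl S w₀ w₀ ≠ 0 := by
      by_contra hcon2
      push Not at hcon2
      obtain ⟨x, hx⟩ := exists_bl_ne S hdetS (N *ᵥ x₀) hx₀
      apply hx
      have h3 := hcon2 (N *ᵥ x₀ + x)
      simp only [bl_add_left, bl_add_right] at h3
      rw [hcon2, hcon2, bl_comm S hS x (N *ᵥ x₀)] at h3
      have h4 : 2 * bl S (N *ᵥ x₀) x = 0 := by linear_combination h3
      exact (mul_eq_zero.mp h4).resolve_left h2
    obtain ⟨a₁, ha₁⟩ := alt_partner J hdetJ a ha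
    obtain ⟨y, hy0, hy1, hy2⟩ := exists_perp2 (by omega : 3 ≤ m) (J *ᵥ a) (J *ᵥ a₁)
    have hya : bl J y a = 0 := hy1
    have hya₁ : bl J y a₁ = 0 := hy2
    have hay : bl J a y = 0 := by rw [bl_skew J hJ y a, hya, neg_zero]
    have hyn : ∀ l : F, y ≠ l • a := by
      intro l hl
      rw [hl, bl_smul_l, ha₁, mul_one] at hya₁
      rw [hya₁, zero_smul] at hl
      exact hy0 hl
    obtain ⟨y', hay', hyy'⟩ := (alt_partner2 h2 J hJ hdetJ a y ha hay hyn).2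
    have hy'a : bl J y' a = 0 := by rw [bl_skew J hJ a y', hay', neg_zero]
    have hv1 := hkerv y w₀ hya
    have hv2 := hkerv y' w₀ hy'a
    rw [hON] at hv1 hv2
    have hzero : bf (J ⊗ₖ S) (G *ᵥ pt y w₀) (G *ᵥ pt y' w₀) = 0 := by
      rw [ty3_rows]
      apply Finset.sum_eq_zero
      intro i _
      apply Finset.sum_eq_zero
      intro i' _
      rw [hpol _ _ (ty3_on_rows N _ hv1 i) (ty3_on_rows N _ hv2 i'), mul_zero]
    have hsp := hSp g hg
    unfold IsSpG OmG at hsp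
    rw [← hG] at hsp
    rw [bf_mulVec_left, bf_mulVec_right, hsp, bf_kron_pt] at hzero
    have h5 : bl J y y' * bl S w₀ w₀ = 0 := hzero
    rw [hyy', one_mul] at h5
    exact hw₀ h5
  obtain ⟨w, hw, hww⟩ := hstep1
  have huw : bl S (N *ᵥ x₀) w = 0 := by rw [hN2, hw, bl_zero_right, neg_zero]
  obtain ⟨hrN, hrform⟩ := ty3_r_form h2 S hS N hN1 hN2 x₀ w hw
  obtain ⟨r, hr⟩ : ∃ r, r = ruw S (N *ᵥ x₀) w := ⟨_, rfl⟩
  rw [← hr] at hrN hrform
  have hrisom : rᵀ * S * r = S := by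
    rw [hr]
    exact ruw_isom h2 S hS _ _ huu huw
  obtain ⟨ρ, hρM, hρ⟩ := hH 1 r 1 1
    (by rw [Matrix.transpose_one, Matrix.one_mul, Matrix.mul_one, one_smul])
    (by rw [hrisom, one_smul]) (one_mul 1)
  obtain ⟨R, hR⟩ : ∃ R : Matrix (Fin m × Fin n) (Fin m × Fin n) F,
      R = (1 : Matrix (Fin m) (Fin m) F) ⊗ₖ r := ⟨_, rfl⟩
  rw [← hR] at hρ
  have hRON : R * ON = ON := by
    rw [hR, hON, ← Matrix.mul_kronecker_mul, Matrix.one_mul, hrN]
  obtain ⟨OE, hOE⟩ : ∃ OE : Matrix (Fin m × Fin n) (Fin m × Fin n) F,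
      OE = (1 : Matrix (Fin m) (Fin m) F) ⊗ₖ vecMulVec x₀ (S *ᵥ w) := ⟨_, rfl⟩
  obtain ⟨OG, hOG⟩ : ∃ OG : Matrix (Fin m × Fin n) (Fin m × Fin n) F,
      OG = (1 : Matrix (Fin m) (Fin m) F) ⊗ₖ
        ((2⁻¹ * bl S w w) • vecMulVec (N *ᵥ x₀) (S *ᵥ x₀) + vecMulVec w (S *ᵥ x₀)) := ⟨_, rfl⟩
  have hRform : R = 1 + ON * OE + OG * ON := by
    rw [hR, hrform, Matrix.kronecker_add, Matrix.kronecker_add, Matrix.one_kronecker_one, hON,
      hOE, hOG, ← Matrix.mul_kronecker_mul, ← Matrix.mul_kronecker_mul, Matrix.one_mul]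
  have hσM : g⁻¹ * ρ * g ∈ M := M.mul_mem (M.mul_mem (M.inv_mem hg) hρM) hg
  have hσ : ((g⁻¹ * ρ * g : GL (Fin m × Fin n) F) : Matrix (Fin m × Fin n) (Fin m × Fin n) F) =
      G' * R * G := by
    rw [Units.val_mul, Units.val_mul, hρ, ← hG, ← hG']
  have hσPT : G' * R * G * PT = PT := by
    calc G' * R * G * PT = G' * (R * (G * PT)) := by simp only [Matrix.mul_assoc]
      _ = G' * (R * (c⁻¹ • (ON * G))) := by rw [hE1inv]
      _ = G' * (c⁻¹ • (R * ON * G)) := by rw [Matrix.mul_smul, Matrix.mul_assoc]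
      _ = G' * (c⁻¹ • (ON * G)) := by rw [hRON]
      _ = G' * (G * PT) := by rw [hE1inv]
      _ = PT := by rw [← Matrix.mul_assoc, hG'G, Matrix.one_mul]
  obtain ⟨a₁, ha₁⟩ := alt_partner J hdetJ a ha
  have ha₁' : bl J ((-1 : F) • a₁) a = 1 := by
    rw [bl_smul_l, bl_skew J hJ a a₁, ha₁]
    ring
  have hi : ∀ b : Fin n → F,
      ((g⁻¹ * ρ * g : GL (Fin m × Fin n) F) : Matrix (Fin m × Fin n) (Fin m × Fin n) F) *ᵥ
        pt a b = pt a b := by
    intro b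
    have hpta : pt a b = PT *ᵥ pt ((-1 : F) • a₁) b := by
      rw [hPT, ty3_pt_apply, ha₁', one_smul]
    rw [hσ, hpta, Matrix.mulVec_mulVec, hσPT]
  have hii : ∀ (y : Fin m → F) (b : Fin n → F), bl J a y = 0 → ∃ b' : Fin n → F,
      ((g⁻¹ * ρ * g : GL (Fin m × Fin n) F) : Matrix (Fin m × Fin n) (Fin m × Fin n) F) *ᵥ
        pt y b = pt y b + pt a b' := by
    intro y b hay
    have hya : bl J y a = 0 := by rw [bl_skew J hJ a y, hay, neg_zero]
    have hker := hkerv y b hya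
    have hRv : R *ᵥ (G *ᵥ pt y b) = G *ᵥ pt y b + ON *ᵥ (OE *ᵥ (G *ᵥ pt y b)) := by
      rw [hRform, Matrix.add_mulVec, Matrix.add_mulVec, Matrix.one_mulVec,
        ← Matrix.mulVec_mulVec, ← Matrix.mulVec_mulVec, hker, Matrix.mulVec_zero, add_zero]
    refine ⟨c • (fun j => ∑ i, (J *ᵥ a) i * (G' *ᵥ (OE *ᵥ (G *ᵥ pt y b))) (i, j)), ?_⟩
    rw [hσ, ← Matrix.mulVec_mulVec, ← Matrix.mulVec_mulVec, hRv, Matrix.mulVec_add,
      Matrix.mulVec_mulVec _ G' G, hG'G, Matrix.one_mulVec, Matrix.mulVec_mulVec _ G' ON, hE2,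
      Matrix.smul_mulVec, ← Matrix.mulVec_mulVec, hPT, ty3_PT_mulVec, pt_smul_right]
  obtain ⟨y₀, hay₀, hσeq⟩ := hrad (g⁻¹ * ρ * g) hσM hi hii
  have hsq : (G' * R * G - 1) * (G' * R * G - 1) = 0 := by
    rw [← hσ, hσeq]
    have h3 : Eay J a y₀ ⊗ₖ (1 : Matrix (Fin n) (Fin n) F) - 1 =
        (Eay J a y₀ - 1) ⊗ₖ (1 : Matrix (Fin n) (Fin n) F) := by
      rw [sub_eq_iff_eq_add, ← Matrix.one_kronecker_one, ← Matrix.add_kronecker, sub_add_cancel]
    rw [h3, ← Matrix.mul_kronecker_mul, ty3_eay_sq h2 J hJ a y₀ hay₀, Matrix.zero_kronecker]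
  have hR1 : G' * R * G - 1 = G' * (R - 1) * G := by
    rw [Matrix.mul_sub, Matrix.sub_mul, Matrix.mul_one, hG'G]
  have hRsq : (R - 1) * (R - 1) = 0 := by
    have h3 : G * ((G' * (R - 1) * G) * (G' * (R - 1) * G)) * G' = (R - 1) * (R - 1) := by
      calc G * ((G' * (R - 1) * G) * (G' * (R - 1) * G)) * G'
          = (G * G') * (R - 1) * (G * G') * (R - 1) * (G * G') := by
            simp only [Matrix.mul_assoc]
        _ = (R - 1) * (R - 1) := by rw [hGG', Matrix.one_mul, Matrix.mul_one, Matrix.mul_one]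
    rw [← h3, ← hR1, hsq, Matrix.mul_zero, Matrix.zero_mul]
  have hrsq : (r - 1) * (r - 1) = 0 := by
    have h3 : R - 1 = (1 : Matrix (Fin m) (Fin m) F) ⊗ₖ (r - 1) := by
      rw [hR, sub_eq_iff_eq_add, ← Matrix.one_kronecker_one, ← Matrix.kronecker_add,
        sub_add_cancel]
    rw [h3, ← Matrix.mul_kronecker_mul, Matrix.one_mul] at hRsq
    ext j j'
    have h4 := congrFun (congrFun hRsq (⟨0, by omega⟩, j)) (⟨0, by omega⟩, j')
    simp only [Matrix.kroneckerMap_apply, Matrix.one_apply_eq, one_mul, Matrix.zero_apply] at h4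
    exact h4
  rw [hr] at hrsq
  exact ty3_sq_ne h2 S hS hdetS (N *ᵥ x₀) w hx₀ huu huw hww hrsq

end Cfsg.Agent.Helper48.SGTY3
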