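/-
CALL TB (helper43), piece INDE (double, helper48): `tb_ind_even`, statement verbatim from
tools/calls/TBSkel.lean.txt.  Also a double of BLKE (`tb_blk_even`), needed by INDE.
Uses SPLIT/AEVALPROD (Helper98), PRODTS/PRODND/TYPEPROD/CYCB (Helper93), BLK (Helper5), PAR (Helper43).
-/
import Mathlib
import Cfsg.Prelude.Def_GeometricClasses
import Cfsg.Prelude.Def_Classical
import Cfsg.Agent.Helper58.TSDefs
import Cfsg.Agent.Helper43.PrimeOrdO3
import Cfsg.Agent.Helper33.OType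
import Cfsg.Agent.Helper98.TBSPLIT
import Cfsg.Agent.Helper93.TBPROD
import Cfsg.Agent.Helper93.TBTYPEPROD
import Cfsg.Agent.Helper93.TBCYCB
import Cfsg.Agent.Helper5.TBBLK
import Cfsg.Agent.Helper43.TBPAR

set_option autoImplicit false

namespace Cfsg.Agent.Helper48.TB

open Module Polynomial Cfsg Cfsg.Geo Cfsg.Agent.Helper58.TS
open Cfsg.Agent.Helper43 Cfsg.Agent.Helper43.OrthEven Cfsg.Agent.Helper43.CycFactors
  Cfsg.Agent.Helper43.PrimeOrdMat
open scoped MatrixGroups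
open Cfsg.Agent.Helper98.TB (tb_aeval_prod tb_split)
open Cfsg.Agent.Helper93.TB (tb_prod_ts tb_prod_nd tb_type_prod tb_cyc_bound)
open Cfsg.Agent.Helper5.TB (tb_blk)
open Cfsg.Agent.Helper43.TB (tb_par)

universe u

section lvl3

variable {F : Type u} [Field F] [Fintype F]

/-- BLKE (double) -/
theorem tb_blk_even (p : ℕ) [Fact p.Prime] [CharP F p] (r : ℕ) [Fact r.Prime] (hr2 : 2 < r)
    (hrp : r ≠ p) (heven : Even (orderOf ((Fintype.card F : ℕ) : ZMod r))) (P : F[X])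
    (hP : P ∈ cycJ F r) (n : ℕ) :
    ∃ (V : Type u) (_ : AddCommGroup V) (_ : Module F V) (_ : FiniteDimensional F V)
      (Q : QuadraticForm F V) (T : Module.End F V),
      PolarNondeg Q ∧ (∀ v, Q (T v) = Q v) ∧ aeval T (cyclotomic r F) = 0 ∧
      T.charpoly = P ^ n ∧
      finrank F V = 2 * (orderOf ((Fintype.card F : ℕ) : ZMod r) / 2 * n) ∧
      (HasTS Q (orderOf ((Fintype.card F : ℕ) : ZMod r) / 2 * n) ↔ Even n) ∧
      ∀ U : Submodule F V, U.map T ≤ U → (∀ u ∈ U, Q u = 0) →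
        ∃ s, finrank F U = orderOf ((Fintype.card F : ℕ) : ZMod r) * s ∧ 2 * s + n % 2 ≤ n := by
  classical
  have hr : r.Prime := Fact.out
  have hp : p.Prime := Fact.out
  have hrF : (r : F) ≠ 0 := by
    intro h
    rw [CharP.cast_eq_zero_iff F p] at h
    exact hrp ((Nat.prime_dvd_prime_iff_eq hp hr).mp h).symm
  obtain ⟨c, hc⟩ : ∃ c : F[X] → ℕ, c = fun P' => if P' = P then n else 0 := ⟨_, rfl⟩
  have hsym : ∀ P' ∈ cycJ F r, c (SpReal.star P') = c P' := by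
    intro P' hP'
    rw [StarPoly.star_eq_self_of_even (p := p) rfl hr hrp heven hP']
  have hsum : ∑ P' ∈ cycJ F r, c P' = n := by
    rw [hc, Finset.sum_ite_eq', if_pos hP]
  have hprod : ∏ P' ∈ cycJ F r, P' ^ c P' = P ^ n := by
    rw [Finset.prod_eq_single P]
    · rw [hc]
      simp only [if_true]
    · intro b _ hb
      rw [hc]
      simp only [if_neg hb, pow_zero]
    · intro h
      exact absurd hP h
  obtain ⟨V, i1, i2, i3, Q, T, l, hnd, hT, hcyc, hch, hdim, hl, -⟩ := tb_blk p r hr2 hrp c hsym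
  have hpar := tb_par p r hr2 hrp heven Q T hnd hT hcyc c hch l hl
  have hpos := orderOf_pos_of_card (p := p) (F := F) rfl hr hrp
  rw [hsum] at hdim hpar
  rw [hprod] at hch
  have hbound := fun U hUT hU => tb_cyc_bound r hrF Q T hnd hT hcyc U hUT hU
  obtain ⟨i, hi⟩ : ∃ i, i = orderOf ((Fintype.card F : ℕ) : ZMod r) := ⟨_, rfl⟩
  rw [← hi] at heven hdim hpos hbound ⊢
  obtain ⟨j, rfl⟩ : ∃ j, i = 2 * j := by
    obtain ⟨j, hj⟩ := heven
    exact ⟨j, by omega⟩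
  have hdiv : 2 * j / 2 = j := Nat.mul_div_cancel_left j (by norm_num)
  have hl' : l = j * n := by
    rw [hl, Nat.mul_assoc] at hdim
    omega
  rw [hdiv, ← hl']
  refine ⟨V, i1, i2, i3, Q, T, hnd, hT, hcyc, hch, hl, hpar, ?_⟩
  intro U hUT hU
  obtain ⟨s, hs, hs2⟩ := hbound U hUT hU
  refine ⟨s, hs, ?_⟩
  rw [hs, hdim] at hs2
  have h3 : 2 * j * (2 * s) ≤ 2 * j * n := by
    calc 2 * j * (2 * s) = 2 * (2 * j * s) := by ring
      _ ≤ 2 * j * n := hs2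
  have h4 : 2 * s ≤ n := Nat.le_of_mul_le_mul_left h3 hpos
  omega

/-- the empty block -/
theorem tb_ind_base (r : ℕ) (i : ℕ) :
    ∃ (V : Type u) (_ : AddCommGroup V) (_ : Module F V) (_ : FiniteDimensional F V)
      (Q : QuadraticForm F V) (T : Module.End F V),
      PolarNondeg Q ∧ (∀ v, Q (T v) = Q v) ∧ aeval T (cyclotomic r F) = 0 ∧
      T.charpoly = 1 ∧ finrank F V = 0 ∧ HasTS Q 0 ∧
      ∀ U : Submodule F V, finrank F U = i * 0 := by
  refine ⟨PUnit.{u+1}, inferInstance, inferInstance, inferInstance, 0, 1, ?_, ?_, ?_, ?_, ?_, ?_, ?_⟩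
  · intro v _
    exact Subsingleton.elim _ _
  · intro v
    rfl
  · apply LinearMap.ext
    intro v
    exact Subsingleton.elim _ _
  · have h1 : (1 : Module.End F PUnit.{u+1}).charpoly.natDegree = 0 := by
      rw [LinearMap.charpoly_natDegree]
      exact Module.finrank_zero_of_subsingleton
    exact (LinearMap.charpoly_monic _).natDegree_eq_zero.mp h1
  · exact Module.finrank_zero_of_subsingleton
  · exact ⟨⊥, Nat.zero_le _, fun u _ => rfl⟩
  · intro U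
    rw [Nat.mul_zero]
    exact Module.finrank_zero_of_subsingleton

/-- the inductive step -/
theorem tb_ind_step (r : ℕ) [Fact r.Prime] (i : ℕ) (P : F[X]) (R : F[X])
    (hcop : IsCoprime P R) (n N n' N' : ℕ)
    {V₁ : Type u} [AddCommGroup V₁] [Module F V₁] [FiniteDimensional F V₁]
    (Q₁ : QuadraticForm F V₁) (T₁ : Module.End F V₁)
    (h₁nd : PolarNondeg Q₁) (h₁T : ∀ v, Q₁ (T₁ v) = Q₁ v)
    (h₁cyc : aeval T₁ (cyclotomic r F) = 0) (h₁ch : T₁.charpoly = P ^ n)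
    (h₁dim : finrank F V₁ = 2 * (i / 2 * n)) (h₁ts : HasTS Q₁ (i / 2 * n) ↔ Even n)
    (h₁U : ∀ U : Submodule F V₁, U.map T₁ ≤ U → (∀ u ∈ U, Q₁ u = 0) →
        ∃ s, finrank F U = i * s ∧ 2 * s + n' ≤ n)
    {V₂ : Type u} [AddCommGroup V₂] [Module F V₂] [FiniteDimensional F V₂]
    (Q₂ : QuadraticForm F V₂) (T₂ : Module.End F V₂)
    (h₂nd : PolarNondeg Q₂) (h₂T : ∀ v, Q₂ (T₂ v) = Q₂ v)
    (h₂cyc : aeval T₂ (cyclotomic r F) = 0) (h₂ch : T₂.charpoly = R)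
    (h₂dim : finrank F V₂ = 2 * (i / 2 * N)) (h₂ts : HasTS Q₂ (i / 2 * N) ↔ Even N)
    (h₂U : ∀ U : Submodule F V₂, U.map T₂ ≤ U → (∀ u ∈ U, Q₂ u = 0) →
        ∃ s, finrank F U = i * s ∧ 2 * s + N' ≤ N) :
    ∃ (V : Type u) (_ : AddCommGroup V) (_ : Module F V) (_ : FiniteDimensional F V)
      (Q : QuadraticForm F V) (T : Module.End F V),
      PolarNondeg Q ∧ (∀ v, Q (T v) = Q v) ∧ aeval T (cyclotomic r F) = 0 ∧
      T.charpoly = P ^ n * R ∧
      finrank F V = 2 * (i / 2 * (n + N)) ∧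
      (HasTS Q (i / 2 * (n + N)) ↔ Even (n + N)) ∧
      ∀ U : Submodule F V, U.map T ≤ U → (∀ u ∈ U, Q u = 0) →
        ∃ s, finrank F U = i * s ∧ 2 * s + (n' + N') ≤ n + N := by
  refine ⟨V₁ × V₂, inferInstance, inferInstance, inferInstance, Q₁.prod Q₂, T₁.prodMap T₂,
    tb_prod_nd Q₁ Q₂ h₁nd h₂nd, ?_, ?_, ?_, ?_, ?_, ?_⟩
  · rintro ⟨x, y⟩
    rw [LinearMap.prodMap_apply, QuadraticMap.prod_apply, QuadraticMap.prod_apply, h₁T, h₂T]
  · rw [tb_aeval_prod, h₁cyc, h₂cyc, LinearMap.prodMap_zero]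
  · rw [LinearMap.charpoly_prodMap, h₁ch, h₂ch]
  · rw [Module.finrank_prod, h₁dim, h₂dim]
    ring
  · have h := tb_type_prod Q₁ Q₂ h₁nd h₂nd (i / 2 * n) (i / 2 * N) h₁dim h₂dim
    rw [Nat.mul_add, h, h₁ts, h₂ts, Nat.even_add]
  · intro U hUT hU
    have ha : aeval T₁ (P ^ n) = 0 := by
      rw [← h₁ch]
      exact LinearMap.aeval_self_charpoly T₁
    have hb : aeval T₂ R = 0 := by
      rw [← h₂ch]
      exact LinearMap.aeval_self_charpoly T₂
    obtain ⟨Ua, Ub, hUa, hUb, rfl⟩ := tb_split T₁ T₂ (P ^ n) R hcop.pow_left ha hb U hUT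
    obtain ⟨hUa0, hUb0, hfr⟩ := tb_prod_ts Q₁ Q₂ Ua Ub hU
    obtain ⟨s₁, hs₁, hs₁'⟩ := h₁U Ua hUa hUa0
    obtain ⟨s₂, hs₂, hs₂'⟩ := h₂U Ub hUb hUb0
    refine ⟨s₁ + s₂, ?_, by omega⟩
    rw [hfr, hs₁, hs₂, Nat.mul_add]

/-- INDE -/
theorem tb_ind_even (p : ℕ) [Fact p.Prime] [CharP F p] (r : ℕ) [Fact r.Prime] (hr2 : 2 < r)
    (hrp : r ≠ p) (heven : Even (orderOf ((Fintype.card F : ℕ) : ZMod r))) (S : Finset F[X])
    (hS : S ⊆ cycJ F r) (c : F[X] → ℕ) :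
    ∃ (V : Type u) (_ : AddCommGroup V) (_ : Module F V) (_ : FiniteDimensional F V)
      (Q : QuadraticForm F V) (T : Module.End F V),
      PolarNondeg Q ∧ (∀ v, Q (T v) = Q v) ∧ aeval T (cyclotomic r F) = 0 ∧
      T.charpoly = ∏ P ∈ S, P ^ c P ∧
      finrank F V = 2 * (orderOf ((Fintype.card F : ℕ) : ZMod r) / 2 * ∑ P ∈ S, c P) ∧
      (HasTS Q (orderOf ((Fintype.card F : ℕ) : ZMod r) / 2 * ∑ P ∈ S, c P) ↔
        Even (∑ P ∈ S, c P)) ∧
      ∀ U : Submodule F V, U.map T ≤ U → (∀ u ∈ U, Q u = 0) →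
        ∃ s, finrank F U = orderOf ((Fintype.card F : ℕ) : ZMod r) * s ∧
          2 * s + ∑ P ∈ S, c P % 2 ≤ ∑ P ∈ S, c P := by
  classical
  induction S using Finset.induction_on with
  | empty =>
    obtain ⟨V, i1, i2, i3, Q, T, h1, h2, h3, h4, h5, h6, h7⟩ :=
      tb_ind_base (F := F) r (orderOf ((Fintype.card F : ℕ) : ZMod r))
    refine ⟨V, i1, i2, i3, Q, T, h1, h2, h3, ?_, ?_, ?_, ?_⟩
    · rw [h4, Finset.prod_empty]
    · rw [h5, Finset.sum_empty, Nat.mul_zero, Nat.mul_zero]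
    · rw [Finset.sum_empty, Nat.mul_zero]
      exact ⟨fun _ => Even.zero, fun _ => h6⟩
    · intro U _ _
      exact ⟨0, h7 U, by rw [Finset.sum_empty, Finset.sum_empty]; exact le_refl _⟩
  | insert P S' hPS' ih =>
    have hPJ : P ∈ cycJ F r := hS (Finset.mem_insert_self P S')
    have hS' : S' ⊆ cycJ F r := fun x hx => hS (Finset.mem_insert_of_mem hx)
    obtain ⟨V₂, i1, i2, i3, Q₂, T₂, h₂nd, h₂T, h₂cyc, h₂ch, h₂dim, h₂ts, h₂U⟩ := ih hS'
    obtain ⟨V₁, j1, j2, j3, Q₁, T₁, h₁nd, h₁T, h₁cyc, h₁ch, h₁dim, h₁ts, h₁U⟩ :=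
      tb_blk_even p r hr2 hrp heven P hPJ (c P)
    have hcop : IsCoprime P (∏ P' ∈ S', P' ^ c P') := by
      apply IsCoprime.prod_right
      intro P' hP'
      have hP'J := hS' hP'
      have hne : P ≠ P' := fun h => hPS' (h ▸ hP')
      exact (isCoprime_of_ne (mem_cycJ.mp hPJ).1 (mem_cycJ.mp hPJ).2.1 (mem_cycJ.mp hP'J).1
        (mem_cycJ.mp hP'J).2.1 hne).pow_right
    obtain ⟨V, k1, k2, k3, Q, T, h1, h2, h3, h4, h5, h6, h7⟩ :=
      tb_ind_step r (orderOf ((Fintype.card F : ℕ) : ZMod r)) P (∏ P' ∈ S', P' ^ c P') hcop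
        (c P) (∑ P ∈ S', c P) (c P % 2) (∑ P ∈ S', c P % 2)
        Q₁ T₁ h₁nd h₁T h₁cyc h₁ch h₁dim h₁ts h₁U Q₂ T₂ h₂nd h₂T h₂cyc h₂ch h₂dim h₂ts h₂U
    refine ⟨V, k1, k2, k3, Q, T, h1, h2, h3, ?_, ?_, ?_, ?_⟩
    · rw [h4, Finset.prod_insert hPS']
    · rw [h5, Finset.sum_insert hPS']
    · rw [Finset.sum_insert hPS']
      exact h6
    · intro U hUT hU
      rw [Finset.sum_insert hPS', Finset.sum_insert hPS']
      exact h7 U hUT hU

end lvl3

end Cfsg.Agent.Helper48.TB
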