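/-
CALL TS (helper58), BIG stage COUNT: `ts_count` (statement verbatim from tools/calls/TSSkel.lean.txt).
Assembly of the pieces of SUB-CALL TSC (helper48): SG0P/SG0M/CNTA/FIB/FACP/FACM (helper48),
KER/DIV (helper59), HYP/BIJ (helper7), CNTB/BR (helper11).
-/
import Mathlib
import Cfsg.Agent.Helper48.TSCDefs
import Cfsg.Agent.Helper48.TSCSG0
import Cfsg.Agent.Helper48.TSCCNTA
import Cfsg.Agent.Helper48.TSCFIB
import Cfsg.Agent.Helper48.TSCFAC
import Cfsg.Agent.Helper59.TSCKER
import Cfsg.Agent.Helper59.TSCDIV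
import Cfsg.Agent.Helper7.TSCHYP
import Cfsg.Agent.Helper7.TSCBIJ
import Cfsg.Agent.Helper11.TSCCNTB
import Cfsg.Agent.Helper11.TSCBR

set_option autoImplicit false

namespace Cfsg.Agent.Helper48.TS5973

open Module Cfsg Cfsg.Geo Cfsg.Agent.Helper58.TS
open Cfsg.Agent.Helper43 Cfsg.Agent.Helper43.OrthEven Cfsg.Agent.Helper48.TSC
open Cfsg.Agent.Helper59.TSC (tsc_ker tsc_div)
open Cfsg.Agent.Helper7.TSC (tsc_hyp tsc_bij)
open Cfsg.Agent.Helper11.TSC (tsc_cnt_b tsc_bridge)

/-! ### ASSEMBLY (helper48) -/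

/-- one step of the perp-count -/
theorem tsc_perp_step {F : Type*} [Field F] [Fintype F] {V : Type*} [AddCommGroup V] [Module F V]
    [FiniteDimensional F V] (Q : QuadraticForm F V) (hQ : PolarNondeg Q) (j : ℕ) (v : Fin j → V)
    (w : V) (hli : LinearIndependent F v) (hw : w ∉ Submodule.span F (Set.range v))
    (hQw : Q w = 0) (hvw : ∀ a, QuadraticMap.polar Q (v a) w = 0) :
    j + 2 ≤ finrank F V ∧
    Nat.card {x : V // Q x = 0 ∧ ∀ a, QuadraticMap.polar Q x (v a) = 0} =
      Nat.card {x : V // (Q x = 0 ∧ ∀ a, QuadraticMap.polar Q x (v a) = 0) ∧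
        QuadraticMap.polar Q x w = 0} +
        (Fintype.card F - 1) * Fintype.card F ^ (finrank F V - (j + 2)) := by
  classical
  have hfinV : Finite V := Module.finite_of_finite F
  obtain ⟨u, hQu, huw, huv⟩ := tsc_hyp Q (fun k u hu => tsc_ker Q hQ k u hu) j v w hli hw hQw hvw
  have hli1 : LinearIndependent F (Fin.snoc v w : Fin (j + 1) → V) :=
    linearIndependent_finSnoc.mpr ⟨hli, hw⟩
  have hu : u ∉ Submodule.span F (Set.range (Fin.snoc v w : Fin (j + 1) → V)) := by
    intro hmem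
    have h0 : ∀ x ∈ Submodule.span F (Set.range (Fin.snoc v w : Fin (j + 1) → V)),
        QuadraticMap.polar Q x w = 0 := by
      intro x hx
      induction hx using Submodule.span_induction with
      | mem x hx =>
        obtain ⟨a, rfl⟩ := hx
        induction a using Fin.lastCases with
        | last =>
          rw [Fin.snoc_last, QuadraticMap.polar_self, hQw, smul_zero]
        | cast a =>
          rw [Fin.snoc_castSucc]
          exact hvw a
      | zero => rw [QuadraticMap.polar_zero_left]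
      | add x y _ _ hx hy => rw [QuadraticMap.polar_add_left, hx, hy, add_zero]
      | smul c x _ hx => rw [QuadraticMap.polar_smul_left, hx, smul_zero]
    have h1 := h0 u hmem
    rw [huw] at h1
    exact one_ne_zero h1
  have hli2 : LinearIndependent F
      (Fin.snoc (Fin.snoc v w : Fin (j + 1) → V) u : Fin (j + 2) → V) :=
    linearIndependent_finSnoc.mpr ⟨hli1, hu⟩
  have hdim : j + 2 ≤ finrank F V := by
    have h1 := hli2.fintype_card_le_finrank
    rwa [Fintype.card_fin] at h1
  refine ⟨hdim, ?_⟩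
  have hfib := tsc_fib (F := F) (fun x : V => Q x = 0 ∧ ∀ a, QuadraticMap.polar Q x (v a) = 0)
    (by
      rintro c x - ⟨h1, h2⟩
      refine ⟨by rw [QuadraticMap.map_smul, h1, smul_zero], fun a => ?_⟩
      rw [QuadraticMap.polar_smul_left, h2 a, smul_zero])
    ((QuadraticMap.polarBilin Q).flip w)
  have hiff : ∀ y : V, (∀ a : Fin (j + 2), QuadraticMap.polar Q y
      ((Fin.snoc (Fin.snoc v w : Fin (j + 1) → V) u : Fin (j + 2) → V) a) = 0) ↔
      ((∀ a, QuadraticMap.polar Q y (v a) = 0) ∧ QuadraticMap.polar Q y w = 0 ∧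
        QuadraticMap.polar Q y u = 0) := by
    intro y
    rw [Fin.forall_fin_succ', Fin.forall_fin_succ']
    simp only [Fin.snoc_castSucc, Fin.snoc_last]
    tauto
  have hker := tsc_ker Q hQ (j + 2) _ hli2
  rw [Nat.card_congr (Equiv.subtypeEquivRight hiff)] at hker
  have hbij := tsc_bij Q j v w u hQw hvw hQu huw huv
  rw [hker] at hbij
  rw [← hbij]
  exact hfib

/-- the perp-count: singular vectors orthogonal to an independent totally singular family -/
theorem tsc_perp {F : Type*} [Field F] [Fintype F] {V : Type*} [AddCommGroup V] [Module F V]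
    [FiniteDimensional F V] (Q : QuadraticForm F V) (hQ : PolarNondeg Q) :
    ∀ (j : ℕ) (v : Fin j → V), LinearIndependent F v → (∀ a, Q (v a) = 0) →
      (∀ a b, QuadraticMap.polar Q (v a) (v b) = 0) →
      Nat.card {x : V // Q x = 0 ∧ ∀ a, QuadraticMap.polar Q x (v a) = 0} +
          Fintype.card F ^ (finrank F V - 1) =
        Nat.card {x : V // Q x = 0} + Fintype.card F ^ (finrank F V - 1 - j) := by
  intro j
  induction j with
  | zero =>
    intro v _ _ _
    have e : {x : V // Q x = 0 ∧ ∀ a : Fin 0, QuadraticMap.polar Q x (v a) = 0} ≃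
        {x : V // Q x = 0} :=
      Equiv.subtypeEquivRight (fun x => ⟨fun h => h.1, fun h => ⟨h, fun a => Fin.elim0 a⟩⟩)
    rw [Nat.card_congr e, Nat.sub_zero]
  | succ j ih =>
    intro v hli hs hti
    have hsplit := linearIndependent_finSnoc.mp (by rw [Fin.snoc_init_self]; exact hli)
    obtain ⟨hdim, hstep⟩ := tsc_perp_step Q hQ j (Fin.init v) (v (Fin.last j)) hsplit.1 hsplit.2
      (hs _) (fun a => hti _ _)
    have hih := ih (Fin.init v) hsplit.1 (fun a => hs _) (fun a b => hti _ _)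
    have e : {x : V // Q x = 0 ∧ ∀ a : Fin (j + 1), QuadraticMap.polar Q x (v a) = 0} ≃
        {x : V // (Q x = 0 ∧ ∀ a : Fin j, QuadraticMap.polar Q x (Fin.init v a) = 0) ∧
          QuadraticMap.polar Q x (v (Fin.last j)) = 0} :=
      Equiv.subtypeEquivRight (fun x => by
        rw [Fin.forall_fin_succ']
        simp only [Fin.init]
        tauto)
    rw [Nat.card_congr e]
    have hq : 1 ≤ Fintype.card F := Fintype.card_pos
    have hpow : Fintype.card F ^ (finrank F V - 1 - j) =
        Fintype.card F * Fintype.card F ^ (finrank F V - (j + 2)) := by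
      rw [← pow_succ']
      congr 1
      omega
    have h3 : finrank F V - 1 - (j + 1) = finrank F V - (j + 2) := by omega
    have h4 : Fintype.card F * Fintype.card F ^ (finrank F V - (j + 2)) =
        (Fintype.card F - 1) * Fintype.card F ^ (finrank F V - (j + 2)) +
          Fintype.card F ^ (finrank F V - (j + 2)) := by
      rw [← Nat.succ_mul, Nat.succ_eq_add_one, Nat.sub_add_cancel hq]
    rw [hpow, h4] at hih
    rw [h3]
    omega

theorem tsc_not_dvd_sub_one {p x : ℕ} (hp : p.Prime) (hpx : p ∣ x) (hx : 1 ≤ x) : ¬ p ∣ x - 1 := by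
  intro h
  have h1 : p ∣ x - (x - 1) := Nat.dvd_sub hpx h
  have h2 : x - (x - 1) = 1 := by omega
  rw [h2] at h1
  exact hp.one_lt.ne' (Nat.dvd_one.mp h1)

theorem tsc_not_dvd_add_one {p x : ℕ} (hp : p.Prime) (hpx : p ∣ x) : ¬ p ∣ x + 1 := by
  intro h
  have h1 : p ∣ 1 := (Nat.dvd_add_right hpx).mp h
  exact hp.one_lt.ne' (Nat.dvd_one.mp h1)

section stages

variable {ι : Type} [Fintype ι] [DecidableEq ι] {F : Type*} [Field F] [Fintype F]

/-- COUNT [BIG] (helper58's statement, verbatim). -/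
theorem ts_count (Q : (ι → F) → F) (hQ : IsNondegenerateQuadraticForm Q) (d δ : ℕ)
    (hcard : Fintype.card ι = 2 * d) (hδ : TypeDefect Q δ) (p : ℕ) [Fact p.Prime] [CharP F p]
    (q : ℕ) (hq : Fintype.card F = q) (m : ℕ) (hm : 1 ≤ m) (hmd : m < d) (r : ℕ) [Fact r.Prime]
    (hr : r ∣ Nat.card {W : Submodule F (ι → F) // Module.finrank F ↥W = m ∧ (∀ w ∈ W, Q w = 0)}) :
    r ≠ p ∧ ∃ j, j < m ∧ ((δ = 0 ∧ (r ∣ q ^ (d - j) - 1 ∨ r ∣ q ^ (d - j - 1) + 1)) ∨
      (δ = 1 ∧ (r ∣ q ^ (d - j) + 1 ∨ r ∣ q ^ (d - j - 1) - 1))) := by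
  classical
  subst hq
  obtain ⟨Qb, hQbdef⟩ : ∃ Qb : QuadraticForm F (ι → F), Qb = Cfsg.Agent.Helper98.op_qf Q hQ :=
    ⟨_, rfl⟩
  have hQb : PolarNondeg Qb := by
    rw [hQbdef]
    exact polarNondeg_of_nondegenerate _ (Cfsg.Agent.Helper98.op_qf_nondeg Q hQ)
  have hcoe : ∀ x, Qb x = Q x := fun x => by rw [hQbdef]; rfl
  have hV : finrank F (ι → F) = 2 * d := by rw [Module.finrank_fintype_fun_eq_card, hcard]
  have hd : 1 ≤ d := by omega
  have hp : p.Prime := Fact.out
  have hrp : r.Prime := Fact.out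
  obtain ⟨n, -, hcardF⟩ := FiniteField.card F p
  have hq0 : 0 < Fintype.card F := Fintype.card_pos
  have hpq : p ∣ Fintype.card F := by
    rw [hcardF]
    exact dvd_pow_self p n.pos.ne'
  have hqp : ∀ s : ℕ, s.Prime → s ∣ Fintype.card F → s = p := by
    intro s hs hsq
    rw [hcardF] at hsq
    exact (Nat.prime_dvd_prime_iff_eq hs hp).mp (hs.dvd_of_dvd_pow hsq)
  have hpk : ∀ k, 1 ≤ k → p ∣ Fintype.card F ^ k := fun k hk =>
    dvd_trans hpq (dvd_pow_self _ (by omega))
  have hN : Nat.card {W : Submodule F (ι → F) // finrank F ↥W = m ∧ ∀ w ∈ W, Qb w = 0} =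
      Nat.card {W : Submodule F (ι → F) // Module.finrank F ↥W = m ∧ (∀ w ∈ W, Q w = 0)} := by
    apply Nat.card_congr
    exact Equiv.subtypeEquivRight (fun W => by simp only [hcoe])
  have hB := tsc_cnt_b Qb m
  rw [hN] at hB
  have hperp := tsc_perp Qb hQb
  rw [hV] at hperp
  have hbr := tsc_bridge Q hQ d hcard
  rw [← hQbdef] at hbr
  obtain ⟨S, hS⟩ : ∃ S, S = Nat.card {x : ι → F // Qb x = 0} := ⟨_, rfl⟩
  rw [← hS] at hperp
  have hA := tsc_cnt_a Qb
    (fun j => S + Fintype.card F ^ (2 * d - 1 - j) - Fintype.card F ^ (2 * d - 1)) m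
    (fun j _ v hli hs hti => by
      have h1 := hperp j v hli hs hti
      omega)
  have hle1 : Fintype.card F ^ (d - 1) ≤ Fintype.card F ^ d := Nat.pow_le_pow_right hq0 (by omega)
  rcases hδ with ⟨rfl, hplus⟩ | ⟨rfl, hminus⟩
  · have hTS : HasTS Qb d := hbr.mp hplus
    have hS' := tsc_sing_plus Qb hQb d hd hV hTS
    rw [← hS] at hS'
    have hfac : ∀ j ∈ Finset.range m,
        (S + Fintype.card F ^ (2 * d - 1 - j) - Fintype.card F ^ (2 * d - 1)) - Fintype.card F ^ j =
          Fintype.card F ^ j * ((Fintype.card F ^ (d - j) - 1) *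
            (Fintype.card F ^ (d - j - 1) + 1)) := by
      intro j hj
      have hj' := Finset.mem_range.mp hj
      exact tsc_fac_plus (Fintype.card F) d j _ S hq0 (by omega) (by omega) hS'
    have hprod : Nat.card {W : Submodule F (ι → F) // Module.finrank F ↥W = m ∧
          (∀ w ∈ W, Q w = 0)} * ∏ j ∈ Finset.range m, (Fintype.card F ^ m - Fintype.card F ^ j) =
        ∏ j ∈ Finset.range m, (Fintype.card F ^ j * ((Fintype.card F ^ (d - j) - 1) *
            (Fintype.card F ^ (d - j - 1) + 1))) := by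
      rw [← hB, hA]
      exact Finset.prod_congr rfl hfac
    obtain ⟨hne, j, hj, hdvd⟩ := tsc_div (Fintype.card F) p r _ m
      (fun j => Fintype.card F ^ (d - j) - 1) (fun j => Fintype.card F ^ (d - j - 1) + 1)
      hp hrp hq0 hqp
      (fun j hj => tsc_not_dvd_sub_one hp (hpk (d - j) (by omega)) (Nat.one_le_pow _ _ hq0))
      (fun j hj => tsc_not_dvd_add_one hp (hpk (d - j - 1) (by omega)))
      hprod hr
    exact ⟨hne, j, hj, Or.inl ⟨rfl, hdvd⟩⟩
  · have hTS : ¬ HasTS Qb d := fun h => hminus (hbr.mpr h)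
    have hS' := tsc_sing_minus Qb hQb d hd hV hTS
    rw [← hS] at hS'
    have hfac : ∀ j ∈ Finset.range m,
        (S + Fintype.card F ^ (2 * d - 1 - j) - Fintype.card F ^ (2 * d - 1)) - Fintype.card F ^ j =
          Fintype.card F ^ j * ((Fintype.card F ^ (d - j) + 1) *
            (Fintype.card F ^ (d - j - 1) - 1)) := by
      intro j hj
      have hj' := Finset.mem_range.mp hj
      have hle2 : Fintype.card F ^ d ≤ Fintype.card F ^ (2 * d - 1 - j) :=
        Nat.pow_le_pow_right hq0 (by omega)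
      exact tsc_fac_minus (Fintype.card F) d j _ S hq0 (by omega) (by omega) hS'
    have hprod : Nat.card {W : Submodule F (ι → F) // Module.finrank F ↥W = m ∧
          (∀ w ∈ W, Q w = 0)} * ∏ j ∈ Finset.range m, (Fintype.card F ^ m - Fintype.card F ^ j) =
        ∏ j ∈ Finset.range m, (Fintype.card F ^ j * ((Fintype.card F ^ (d - j) + 1) *
            (Fintype.card F ^ (d - j - 1) - 1))) := by
      rw [← hB, hA]
      exact Finset.prod_congr rfl hfac
    obtain ⟨hne, j, hj, hdvd⟩ := tsc_div (Fintype.card F) p r _ m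
      (fun j => Fintype.card F ^ (d - j) + 1) (fun j => Fintype.card F ^ (d - j - 1) - 1)
      hp hrp hq0 hqp
      (fun j hj => tsc_not_dvd_add_one hp (hpk (d - j) (by omega)))
      (fun j hj => tsc_not_dvd_sub_one hp (hpk (d - j - 1) (by omega))
        (Nat.one_le_pow _ _ hq0))
      hprod hr
    exact ⟨hne, j, hj, Or.inr ⟨rfl, hdvd⟩⟩

end stages

end Cfsg.Agent.Helper48.TS5973
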