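import Mathlib.GroupTheory.Transfer
import Mathlib.GroupTheory.Frattini
import Mathlib.GroupTheory.Nilpotent

set_option autoImplicit false

namespace Cfsg.Agent.Helper48

open Subgroup MulAction

/-- A maximal subgroup of a finite `p`-group has index `p`. -/
theorem index_of_isCoatom_of_isPGroup {P : Type*} [Group P] [Finite P] {p : ℕ} [Fact p.Prime]
    (hP : IsPGroup p P) {M : Subgroup P} (hM : IsCoatom M) : M.index = p := by
  have : Group.IsNilpotent P := hP.isNilpotent
  have hn : M.Normal := NormalizerCondition.normal_of_coatom M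
    Group.normalizerCondition_of_isNilpotent hM
  have hQ : IsPGroup p (P ⧸ M) := hP.to_quotient M
  have hnt : Nontrivial (P ⧸ M) := by
    by_contra h
    rw [not_nontrivial_iff_subsingleton] at h
    apply hM.1
    rw [eq_top_iff]
    intro g _
    have : (QuotientGroup.mk g : P ⧸ M) = 1 := Subsingleton.elim _ _
    exact (QuotientGroup.eq_one_iff g).mp this
  have hdvd : p ∣ Nat.card (P ⧸ M) := by
    rcases hQ.card_eq_or_dvd with h | h
    · exact absurd (Finite.one_lt_card (α := P ⧸ M)) (by rw [h]; exact lt_irrefl 1)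
    · exact h
  obtain ⟨q, hq⟩ := exists_prime_orderOf_dvd_card' p hdvd
  have hK : (zpowers q).comap (QuotientGroup.mk' M) = ⊤ := by
    apply hM.2
    rw [lt_iff_le_and_ne]
    constructor
    · intro m hm
      rw [mem_comap, QuotientGroup.mk'_apply, (QuotientGroup.eq_one_iff m).mpr hm]
      exact one_mem _
    · intro h
      obtain ⟨g, rfl⟩ := QuotientGroup.mk_surjective q
      have h1 : g ∈ (zpowers (QuotientGroup.mk g : P ⧸ M)).comap (QuotientGroup.mk' M) := by
        rw [mem_comap]; exact mem_zpowers _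
      rw [← h] at h1
      have h2 : (QuotientGroup.mk g : P ⧸ M) = 1 := (QuotientGroup.eq_one_iff g).mpr h1
      rw [h2, orderOf_one] at hq
      exact (Fact.out : p.Prime).one_lt.ne hq
  have htop : zpowers q = ⊤ := by
    rw [eq_top_iff]
    intro q' _
    obtain ⟨g', rfl⟩ := QuotientGroup.mk_surjective q'
    have : g' ∈ (zpowers q).comap (QuotientGroup.mk' M) := by rw [hK]; exact mem_top _
    exact this
  rw [Subgroup.index_eq_card, ← Subgroup.card_top (G := P ⧸ M), ← htop, Nat.card_zpowers, hq]

/-- The sign homomorphism attached to a subgroup of index two. -/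
noncomputable def signHomOfIndexTwo {P : Type*} [Group P] (M : Subgroup P) (h : M.index = 2) :
    P →* ℤˣ := by
  classical
  exact
  { toFun := fun s => if s ∈ M then 1 else -1
    map_one' := by simp [M.one_mem]
    map_mul' := fun a b => by
      by_cases ha : a ∈ M <;> by_cases hb : b ∈ M <;>
        simp [Subgroup.mul_mem_iff_of_index_two h, ha, hb] }

theorem signHomOfIndexTwo_apply_of_not_mem {P : Type*} [Group P] (M : Subgroup P)
    (h : M.index = 2) {s : P} (hs : s ∉ M) : signHomOfIndexTwo M h s = -1 := by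
  classical
  simp [signHomOfIndexTwo, hs]


section TransferInvolution

variable {G : Type*} [Group G] {H : Subgroup G} {A : Type*} [CommGroup A]

theorem smul_eq_self_iff_conj_mem (z : G) (x : G ⧸ H) :
    z • x = x ↔ x.out⁻¹ * z * x.out ∈ H := by
  have hx : (QuotientGroup.mk x.out : G ⧸ H) = x := QuotientGroup.out_eq' x
  constructor
  · intro h
    have h1 : (QuotientGroup.mk (z * x.out) : G ⧸ H) = QuotientGroup.mk x.out := by
      rw [hx]
      calc (QuotientGroup.mk (z * x.out) : G ⧸ H) = z • (QuotientGroup.mk x.out : G ⧸ H) := rfl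
        _ = x := by rw [hx, h]
    rw [QuotientGroup.eq] at h1
    have h2 := H.inv_mem h1
    have h3 : ((z * x.out)⁻¹ * x.out)⁻¹ = x.out⁻¹ * z * x.out := by group
    rwa [h3] at h2
  · intro h
    have h2 := H.inv_mem h
    have h3 : (x.out⁻¹ * z * x.out)⁻¹ = (z * x.out)⁻¹ * x.out := by group
    rw [h3] at h2
    have h1 : (QuotientGroup.mk (z * x.out) : G ⧸ H) = QuotientGroup.mk x.out :=
      QuotientGroup.eq.mpr h2
    calc z • x = z • (QuotientGroup.mk x.out : G ⧸ H) := by rw [hx]
      _ = QuotientGroup.mk (z * x.out) := rfl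
      _ = x := by rw [h1, hx]

open scoped Classical in
/-- The "local" value at a coset: `ϕ (x⁻¹ z x)` if the coset `x H` is fixed by `z`, else `1`. -/
noncomputable def transferLocal (ϕ : H →* A) (z : G) (x : G ⧸ H) : A :=
  if h : x.out⁻¹ * z * x.out ∈ H then ϕ ⟨x.out⁻¹ * z * x.out, h⟩ else 1

/-- The transfer of an element with `z ^ 2 = 1` is the product of the local values over the
cosets. -/
theorem transfer_eq_prod_transferLocal [H.FiniteIndex] [Fintype (G ⧸ H)] (ϕ : H →* A) (z : G)
    (hz : z ^ 2 = 1) :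
    MonoidHom.transfer ϕ z = ∏ x : G ⧸ H, transferLocal ϕ z x := by
  classical
  have : Fintype (Quotient (orbitRel (zpowers z) (G ⧸ H))) := Fintype.ofFinite _
  rw [MonoidHom.transfer_eq_prod_quotient_orbitRel_zpowers_quot]
  -- each orbit term is the local value at its representative
  have hterm : ∀ q : Quotient (orbitRel (zpowers z) (G ⧸ H)),
      ϕ ⟨q.out.out⁻¹ * z ^ Function.minimalPeriod (z • ·) q.out * q.out.out,
        QuotientGroup.out_conj_pow_minimalPeriod_mem H z q.out⟩ = transferLocal ϕ z q.out := by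
    intro q
    have key : ∀ (n : ℕ) (h : q.out.out⁻¹ * z ^ n * q.out.out ∈ H),
        n = Function.minimalPeriod (z • ·) q.out →
        ϕ ⟨q.out.out⁻¹ * z ^ n * q.out.out, h⟩ = transferLocal ϕ z q.out := by
      intro n h hn
      have hdvd : n ∣ 2 := by
        rw [hn, ← MulAction.pow_smul_eq_iff_minimalPeriod_dvd, hz, one_smul]
      rcases (Nat.dvd_prime Nat.prime_two).mp hdvd with h1 | h2
      · subst h1
        have h' : q.out.out⁻¹ * z * q.out.out ∈ H := by simpa using h
        unfold transferLocal
        rw [dif_pos h']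
        congr 1
        apply Subtype.ext
        simp
      · subst h2
        have hnf : ¬ (q.out.out⁻¹ * z * q.out.out ∈ H) := by
          rw [← smul_eq_self_iff_conj_mem]
          intro hfix
          have : Function.minimalPeriod (z • ·) q.out ∣ 1 := by
            rw [← MulAction.pow_smul_eq_iff_minimalPeriod_dvd, pow_one]; exact hfix
          rw [← hn] at this
          exact absurd this (by norm_num)
        unfold transferLocal
        rw [dif_neg hnf]
        have h0 : q.out.out⁻¹ * z ^ 2 * q.out.out = 1 := by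
          rw [hz]; group
        have : (⟨q.out.out⁻¹ * z ^ 2 * q.out.out, h⟩ : H) = 1 := Subtype.ext h0
        rw [this, map_one]
    exact key _ _ rfl
  simp_rw [hterm]
  -- pass from orbits to points
  apply Finset.prod_bij_ne_one (fun q _ _ => q.out)
  · intro a _ _; exact Finset.mem_univ _
  · intro a₁ _ _ a₂ _ _ h
    exact Quotient.out_injective h
  · intro x _ hx
    have hfix : z • x = x := by
      rw [smul_eq_self_iff_conj_mem]
      by_contra hnf
      apply hx
      unfold transferLocal
      rw [dif_neg hnf]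
    have hout : (Quotient.mk (orbitRel (zpowers z) (G ⧸ H)) x).out = x := by
      have h1 := Quotient.exact (Quotient.out_eq (Quotient.mk (orbitRel (zpowers z) (G ⧸ H)) x))
      obtain ⟨g, hg⟩ := h1
      have h2 : ∀ k : ℤ, z ^ k • x = x := by
        intro k
        exact (MulAction.zpow_smul_eq_iff_minimalPeriod_dvd).mpr (by
          have : Function.minimalPeriod (z • ·) x ∣ 1 := by
            rw [← MulAction.pow_smul_eq_iff_minimalPeriod_dvd, pow_one]; exact hfix
          exact (Int.natCast_dvd_natCast.mpr this).trans (one_dvd _))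
      obtain ⟨k, hk⟩ := mem_zpowers_iff.mp g.2
      have h3 : g • x = z ^ k • x := by
        have : g • x = (g : G) • x := rfl
        rw [this, ← hk]
      have hg' : g • x = (Quotient.mk (orbitRel (zpowers z) (G ⧸ H)) x).out := hg
      rw [← hg', h3, h2]
    refine ⟨Quotient.mk _ x, Finset.mem_univ _, ?_, hout⟩
    rw [hout]; exact hx
  · intro a _ _; rfl

open scoped Classical in
/-- Conjugating by an element of `H` does not change the value of a homomorphism to a commutative
group; this is the `dite` form used for the local transfer values. -/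
theorem dite_conj_eq (ϕ : H →* A) (w w' h : G) (hh : h ∈ H) (hw : w' = h⁻¹ * w * h) :
    (if hm : w' ∈ H then ϕ ⟨w', hm⟩ else 1) = (if hm : w ∈ H then ϕ ⟨w, hm⟩ else 1) := by
  classical
  by_cases hm : w ∈ H
  · have hm' : w' ∈ H := by
      rw [hw]; exact H.mul_mem (H.mul_mem (H.inv_mem hh) hm) hh
    rw [dif_pos hm, dif_pos hm']
    have : (⟨w', hm'⟩ : H) = (⟨h, hh⟩ : H)⁻¹ * ⟨w, hm⟩ * ⟨h, hh⟩ := Subtype.ext hw
    rw [this, map_mul, map_mul, map_inv, mul_comm, mul_inv_cancel_left]
  · have hm' : ¬ w' ∈ H := by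
      intro hm'
      apply hm
      have : w = h * w' * h⁻¹ := by rw [hw]; group
      rw [this]; exact H.mul_mem (H.mul_mem hh hm') (H.inv_mem hh)
    rw [dif_neg hm, dif_neg hm']

/-- The local transfer value is invariant under elements of `H` commuting with `z`. -/
theorem transferLocal_smul (ϕ : H →* A) (z s : G) (hsz : s * z = z * s)
    (x : G ⧸ H) : transferLocal ϕ z (s • x) = transferLocal ϕ z x := by
  have hx : (QuotientGroup.mk x.out : G ⧸ H) = x := QuotientGroup.out_eq' x
  obtain ⟨h, hh⟩ := QuotientGroup.mk_out_eq_mul H (s * x.out)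
  have hsx : (QuotientGroup.mk (s * x.out) : G ⧸ H) = s • x := by
    calc (QuotientGroup.mk (s * x.out) : G ⧸ H) = s • (QuotientGroup.mk x.out : G ⧸ H) := rfl
      _ = s • x := by rw [hx]
  rw [hsx] at hh
  unfold transferLocal
  apply dite_conj_eq ϕ _ _ (h : G) h.2
  rw [hh]
  have h1 : s⁻¹ * z * s = z := by rw [mul_assoc, ← hsz, inv_mul_cancel_left]
  calc (s * x.out * (h : G))⁻¹ * z * (s * x.out * (h : G))
      = (h : G)⁻¹ * (x.out⁻¹ * (s⁻¹ * z * s) * x.out) * (h : G) := by group
    _ = (h : G)⁻¹ * (x.out⁻¹ * z * x.out) * (h : G) := by rw [h1]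

end TransferInvolution

/-- An invariant subset without fixed points under the action of a `p`-group has cardinality
divisible by `p`. -/
theorem dvd_card_of_invariant_of_no_fixed {P X : Type*} [Group P] [MulAction P X] [Finite X]
    {p : ℕ} [Fact p.Prime] (hP : IsPGroup p P) (T : Set X) (hT : ∀ s : P, ∀ x ∈ T, s • x ∈ T)
    (hfix : ∀ x ∈ T, ∃ s : P, s • x ≠ x) : p ∣ Nat.card T := by
  let T' : SubMulAction P X := ⟨T, fun s x hx => hT s x hx⟩
  have h := hP.card_modEq_card_fixedPoints (α := T')
  have hempty : IsEmpty (fixedPoints P T') := ⟨fun ⟨⟨x, hx⟩, hfx⟩ => by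
    obtain ⟨s, hs⟩ := hfix x hx
    apply hs
    have := hfx s
    exact congrArg Subtype.val this⟩
  have h0 : Nat.card (fixedPoints P T') = 0 := Nat.card_of_isEmpty
  rw [h0] at h
  exact (Nat.modEq_zero_iff_dvd).mp h

/-- **Transfer of a central involution**: if `z` is an involution in the centre of a Sylow
`2`-subgroup `S`, centralized by `N_G(S)`, and `ϕ : S → ℤˣ` has `ϕ z = -1`, then the transfer of
`ϕ` takes the value `-1` at `z`. -/
theorem transfer_involution_eq_neg_one {G : Type*} [Group G] [Finite G] (S : Sylow 2 G)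
    (ϕ : (S : Subgroup G) →* ℤˣ) (z : G) (hzS : z ∈ (S : Subgroup G))
    (hzc : ∀ s ∈ (S : Subgroup G), s * z = z * s) (hz2 : z ^ 2 = 1)
    (hϕ : ϕ ⟨z, hzS⟩ = -1)
    (hN : ∀ g ∈ Subgroup.normalizer ((S : Subgroup G) : Set G), g * z * g⁻¹ = z) :
    MonoidHom.transfer ϕ z = -1 := by
  classical
  have := Fintype.ofFinite (G ⧸ (S : Subgroup G))
  have : Fact (Nat.Prime 2) := ⟨Nat.prime_two⟩
  rw [transfer_eq_prod_transferLocal ϕ z hz2]
  -- invariance
  have hinv : ∀ (s : (S : Subgroup G)) (x : G ⧸ (S : Subgroup G)),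
      transferLocal ϕ z (s • x) = transferLocal ϕ z x := fun s x =>
    transferLocal_smul ϕ z (s : G) (hzc s s.2) x
  -- fixed points have value `-1`
  have hfixed : ∀ x : G ⧸ (S : Subgroup G), (∀ s : (S : Subgroup G), s • x = x) →
      transferLocal ϕ z x = -1 := by
    intro x hx
    have hxo : (QuotientGroup.mk x.out : G ⧸ (S : Subgroup G)) = x := QuotientGroup.out_eq' x
    have hmem : (QuotientGroup.mk x.out : G ⧸ (S : Subgroup G)) ∈
        MulAction.fixedPoints (S : Subgroup G) (G ⧸ (S : Subgroup G)) := by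
      rw [hxo]; exact hx
    have hnorm : x.out ∈ Subgroup.normalizer ((S : Subgroup G) : Set G) :=
      Sylow.mem_fixedPoints_mul_left_cosets_iff_mem_normalizer.mp hmem
    have h1 := hN x.out⁻¹ (Subgroup.inv_mem _ hnorm)
    rw [inv_inv] at h1
    unfold transferLocal
    have hm : x.out⁻¹ * z * x.out ∈ (S : Subgroup G) := by rw [h1]; exact hzS
    rw [dif_pos hm]
    have : (⟨x.out⁻¹ * z * x.out, hm⟩ : (S : Subgroup G)) = ⟨z, hzS⟩ := Subtype.ext h1
    rw [this, hϕ]
  -- the set of cosets with value `≠ -1` has even size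
  have heven : 2 ∣ Nat.card {x : G ⧸ (S : Subgroup G) | transferLocal ϕ z x ≠ -1} := by
    apply dvd_card_of_invariant_of_no_fixed S.2
    · intro s x hx
      simp only [Set.mem_ofPred_eq] at hx ⊢
      rwa [hinv]
    · intro x hx
      by_contra h
      push Not at h
      exact hx (hfixed x h)
  have hodd : ¬ 2 ∣ Nat.card (G ⧸ (S : Subgroup G)) := by
    rw [← Subgroup.index_eq_card]; exact S.not_dvd_index
  -- compute the product
  have hval : ∀ x : G ⧸ (S : Subgroup G), transferLocal ϕ z x =
      if transferLocal ϕ z x ≠ -1 then 1 else -1 := by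
    intro x
    by_cases h : transferLocal ϕ z x = -1
    · simp [h]
    · rw [if_pos h]; exact (Int.units_eq_one_or _).resolve_right h
  rw [Finset.prod_congr rfl (fun x _ => hval x), Finset.prod_ite, Finset.prod_const_one, one_mul,
    Finset.prod_const]
  apply Odd.neg_one_pow
  rw [← Nat.not_even_iff_odd, even_iff_two_dvd]
  intro h2
  apply hodd
  have hsplit := Finset.card_filter_add_card_filter_not (s := (Finset.univ : Finset (G ⧸ (S : Subgroup G))))
    (fun x => transferLocal ϕ z x ≠ -1)
  rw [Nat.card_eq_fintype_card, ← Finset.card_univ, ← hsplit]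
  apply Nat.dvd_add _ h2
  rw [Nat.card_eq_fintype_card, Fintype.card_subtype] at heven
  convert heven using 2
  ext x
  simp

/-- An element of a coatomic lattice of subgroups not in the Frattini subgroup avoids some maximal
subgroup. -/
theorem exists_isCoatom_not_mem_of_not_mem_frattini {P : Type*} [Group P] {x : P}
    (hx : x ∉ frattini P) : ∃ M : Subgroup P, IsCoatom M ∧ x ∉ M := by
  by_contra h
  push Not at h
  apply hx
  unfold frattini Order.radical
  rw [Subgroup.mem_iInf]
  intro M
  rw [Subgroup.mem_iInf]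
  intro hM
  exact h M hM

/-- If a central involution `z` of a Sylow `2`-subgroup `S` lies outside a maximal subgroup `M`
of `S` and is centralized by `N_G(S)`, then some homomorphism `G →* ℤˣ` takes the value `-1`
at `z`. -/
theorem exists_hom_units_of_central_involution {G : Type*} [Group G] [Finite G] (S : Sylow 2 G)
    (z : G) (hzS : z ∈ (S : Subgroup G)) (hzc : ∀ s ∈ (S : Subgroup G), s * z = z * s)
    (hz2 : z ^ 2 = 1) (M : Subgroup (S : Subgroup G)) (hM : IsCoatom M)
    (hzM : (⟨z, hzS⟩ : (S : Subgroup G)) ∉ M)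
    (hN : ∀ g ∈ Subgroup.normalizer ((S : Subgroup G) : Set G), g * z * g⁻¹ = z) :
    ∃ f : G →* ℤˣ, f z = -1 := by
  have : Fact (Nat.Prime 2) := ⟨Nat.prime_two⟩
  have hidx : M.index = 2 := index_of_isCoatom_of_isPGroup S.isPGroup' hM
  refine ⟨MonoidHom.transfer (signHomOfIndexTwo M hidx), ?_⟩
  exact transfer_involution_eq_neg_one S _ z hzS hzc hz2
    (signHomOfIndexTwo_apply_of_not_mem M hidx hzM) hN

/-- Elements of odd order lie in the kernel of any homomorphism to `ℤˣ`. -/
theorem closure_coprime_two_le_ker {G : Type*} [Group G] (f : G →* ℤˣ) :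
    Subgroup.closure {g : G | Nat.Coprime (orderOf g) 2} ≤ f.ker := by
  rw [Subgroup.closure_le]
  intro g hg
  have hg' : Nat.Coprime (orderOf g) 2 := hg
  show g ∈ f.ker
  rw [MonoidHom.mem_ker]
  have h1 : f g ^ orderOf g = 1 := by rw [← map_pow, pow_orderOf_eq_one, map_one]
  have h2 : f g ^ 2 = 1 := Int.units_sq _
  have h3 := orderOf_dvd_of_pow_eq_one h1
  have h4 := orderOf_dvd_of_pow_eq_one h2
  have h5 : orderOf (f g) = 1 := Nat.eq_one_of_dvd_coprimes hg' h3 h4
  exact orderOf_eq_one_iff.mp h5

/-- The kernel of a homomorphism to `ℤˣ` taking the value `-1` has index two. -/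
theorem index_ker_eq_two_of_apply_eq_neg_one {G : Type*} [Group G] (f : G →* ℤˣ) (z : G)
    (hz : f z = -1) : f.ker.index = 2 := by
  rw [Subgroup.index_ker]
  have htop : f.range = ⊤ := by
    rw [eq_top_iff]
    intro u _
    rcases Int.units_eq_one_or u with h | h
    · rw [h]; exact one_mem _
    · rw [h, ← hz]; exact ⟨z, rfl⟩
  rw [htop, Subgroup.card_top, Nat.card_eq_fintype_card, Fintype.card_units_int]

end Cfsg.Agent.Helper48
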